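import Cfsg.Agent.StdRank2.OutSplit.Main

set_option autoImplicit false

/-!
# Parity versions of Theorem OUT

* `transfer_const_group`: `t` an involution in the centre of a 2-group `R`; only the cosets `gH` fixed by `R`
  (`g⁻¹ R g ≤ H`) contribute to the transfer at `t`.
* `inf_eq'` : Theorem OUT with (F1) only for `g` with `T^g ≤ P` and (F4) only for `g` with `R^g ≤ P`.
* `noSwap_of_four`, `noSwap_of_one`: `NoSwap` from pure elements.
-/

namespace Cfsg.Agent.StdRank2.OutSplit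

open MulAction Subgroup Cfsg.Agent.StdEven.OuterKill
open scoped commutatorElement

variable {G : Type*} [Group G]

theorem smul_coset_eq {H : Subgroup G} {x g : G} : x • (g : G ⧸ H) = (g : G ⧸ H) ↔ g⁻¹ * x * g ∈ H := by
  rw [MulAction.Quotient.smul_mk, smul_eq_mul, eq_comm, QuotientGroup.eq, mul_assoc]

/-- the transfer at an involution, parity version -/
theorem transfer_const_group [Finite G] {A : Type*} [CommGroup A] {H : Subgroup G} (hodd : Odd H.index) (φ : H →* A)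
    {t : G} (ht : t * t = 1) (htH : t ∈ H) {R : Subgroup G} (hR : IsPGroup 2 R) (hRt : ∀ r ∈ R, r * t = t * r)
    (h : ∀ g : G, (∀ r ∈ R, g⁻¹ * r * g ∈ H) → ∀ hg : g⁻¹ * t * g ∈ H, φ ⟨_, hg⟩ = φ ⟨t, htH⟩) :
    MonoidHom.transfer φ t = φ ⟨t, htH⟩ := by
  classical
  have : Fact (Nat.Prime 2) := ⟨Nat.prime_two⟩
  have hti : t⁻¹ = t := inv_eq_of_mul_eq_one_right ht
  have : Fintype (G ⧸ H) := Fintype.ofFinite _
  obtain ⟨f, hf, hprod⟩ := Cfsg.Agent.StdL3.OneParity.transfer_eq_prod_fixed H φ t ht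
  set ω : A := φ ⟨t, htH⟩ with hω
  have hω2 : ω ^ 2 = 1 := by
    rw [hω, ← map_pow]
    have : (⟨t, htH⟩ : H) ^ 2 = 1 := Subtype.ext (by simp [pow_two, ht])
    rw [this, map_one]
  have hmem : ∀ g : G, t • (g : G ⧸ H) = (g : G ⧸ H) → g⁻¹ * t * g ∈ H := fun g hg => smul_coset_eq.1 hg
  have hf2 : ∀ q : G ⧸ H, t • q = q → f q ^ 2 = 1 := by
    intro q hq
    obtain ⟨g, rfl⟩ := QuotientGroup.mk_surjective q
    rw [hf _ g rfl (hmem g hq), ← map_pow]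
    have : (⟨g⁻¹ * t * g, hmem g hq⟩ : H) ^ 2 = 1 := by
      apply Subtype.ext
      show (g⁻¹ * t * g) ^ 2 = 1
      calc (g⁻¹ * t * g) ^ 2 = g⁻¹ * (t * t) * g := by rw [pow_two]; group
        _ = 1 := by rw [ht]; group
    rw [this, map_one]
  have hinv : ∀ r ∈ R, ∀ q : G ⧸ H, t • q = q → t • (r • q) = r • q ∧ f (r • q) = f q := by
    intro r hr q hq
    have h1 : t • (r • q) = r • q := by rw [← mul_smul, ← hRt r hr, mul_smul, hq]
    refine ⟨h1, ?_⟩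
    obtain ⟨g, rfl⟩ := QuotientGroup.mk_surjective q
    have h2 : r • (g : G ⧸ H) = ((r * g : G) : G ⧸ H) := by rw [MulAction.Quotient.smul_mk, smul_eq_mul]
    rw [h2] at h1 ⊢
    rw [hf _ g rfl (hmem g hq), hf _ (r * g) rfl (hmem _ h1)]
    congr 1
    apply Subtype.ext
    show (r * g)⁻¹ * t * (r * g) = g⁻¹ * t * g
    calc (r * g)⁻¹ * t * (r * g) = g⁻¹ * (r⁻¹ * (t * r)) * g := by group
      _ = g⁻¹ * t * g := by rw [← hRt r hr]; group
  -- fibres with value `a ≠ ω` are even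
  have hfib : ∀ a : A, a ≠ ω → Even (Finset.univ.filter (fun q : G ⧸ H => t • q = q ∧ f q = a)).card := by
    intro a ha
    let B : Type _ := {q : G ⧸ H // t • q = q ∧ f q = a}
    let act : MulAction R B :=
      { smul := fun r q => ⟨(r : G) • q.1, (hinv r r.2 q.1 q.2.1).1, by rw [(hinv r r.2 q.1 q.2.1).2]; exact q.2.2⟩
        one_smul := fun q => Subtype.ext (one_smul G q.1)
        mul_smul := fun x y q => Subtype.ext (mul_smul (x : G) (y : G) q.1) }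
    have hB := hR.card_modEq_card_fixedPoints B
    have h0 : Nat.card (fixedPoints R B) = 0 := by
      rw [Nat.card_eq_zero]
      left
      refine ⟨fun ⟨⟨q, hq1, hq2⟩, hfix⟩ => ?_⟩
      have hfix' : ∀ r ∈ R, r • q = q := fun r hr => congrArg Subtype.val (hfix ⟨r, hr⟩)
      obtain ⟨g, rfl⟩ := QuotientGroup.mk_surjective q
      apply ha
      rw [← hq2, hf _ g rfl (hmem g hq1)]
      exact h g (fun r hr => smul_coset_eq.1 (hfix' r hr)) _
    rw [h0] at hB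
    have h1 : Nat.card B = (Finset.univ.filter (fun q : G ⧸ H => t • q = q ∧ f q = a)).card := by
      rw [Nat.card_eq_fintype_card]
      exact Fintype.card_subtype _
    rw [← h1]
    exact Nat.even_iff.2 hB
  rw [hprod, Finset.prod_comp (fun a : A => a) f]
  have hfilt : ∀ b : A, (Finset.univ.filter (fun q : G ⧸ H => t • q = q)).filter (fun a => f a = b) =
      Finset.univ.filter (fun q : G ⧸ H => t • q = q ∧ f q = b) := by
    intro b
    rw [Finset.filter_filter]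
  -- the fibre of `ω` is odd
  have hoddω : Odd (Finset.univ.filter (fun q : G ⧸ H => t • q = q ∧ f q = ω)).card := by
    have h1 := odd_fixed hodd ht
    rcases Nat.even_or_odd (Finset.univ.filter (fun q : G ⧸ H => t • q = q ∧ f q = ω)).card with he | ho
    · exfalso
      have h2 : (Finset.univ.filter (fun q : G ⧸ H => t • q = q)).card =
          ∑ b ∈ (Finset.univ.filter (fun q : G ⧸ H => t • q = q)).image f,
            (Finset.univ.filter (fun q : G ⧸ H => t • q = q ∧ f q = b)).card := by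
        rw [Finset.card_eq_sum_card_image f]
        exact Finset.sum_congr rfl (fun b _ => by rw [hfilt])
      rw [h2] at h1
      have h3 : Even (∑ b ∈ (Finset.univ.filter (fun q : G ⧸ H => t • q = q)).image f,
            (Finset.univ.filter (fun q : G ⧸ H => t • q = q ∧ f q = b)).card) := by
        apply Finset.even_sum
        intro b _
        by_cases hb : b = ω
        · rw [hb]; exact he
        · exact hfib b hb
      exact (Nat.not_even_iff_odd.2 h1) h3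
    · exact ho
  have hωmem : ω ∈ (Finset.univ.filter (fun q : G ⧸ H => t • q = q)).image f := by
    obtain ⟨q, hq⟩ : (Finset.univ.filter (fun q : G ⧸ H => t • q = q ∧ f q = ω)).Nonempty := by
      rw [← Finset.card_pos]; exact hoddω.pos
    have hq' := (Finset.mem_filter.1 hq).2
    exact Finset.mem_image.2 ⟨q, Finset.mem_filter.2 ⟨Finset.mem_univ _, hq'.1⟩, hq'.2⟩
  rw [Finset.prod_eq_single_of_mem ω hωmem]
  · rw [hfilt]
    obtain ⟨k, hk⟩ := hoddω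
    rw [hk, pow_succ, pow_mul, hω2, one_pow, one_mul]
  · intro b hb hbω
    rw [hfilt]
    obtain ⟨q, hq, rfl⟩ := Finset.mem_image.1 hb
    obtain ⟨k, hk⟩ := hfib (f q) hbω
    rw [hk, ← two_mul, pow_mul, hf2 q (Finset.mem_filter.1 hq).2, one_pow]

theorem transfer_sgn_t' [Finite G] {P : Sylow 2 G} {S0 : Subgroup G}
    (hidx : ∀ a ∈ (P : Subgroup G), ∀ b ∈ (P : Subgroup G), a ∉ S0 → b ∉ S0 → a * b ∈ S0) {t : G}
    (ht : t * t = 1) (htP : t ∈ (P : Subgroup G)) (ht0 : t ∉ S0) {T : Subgroup G} (hT : IsPGroup 2 T)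
    (hTt : ∀ r ∈ T, r * t = t * r)
    (hF1 : ∀ g : G, (∀ r ∈ T, g⁻¹ * r * g ∈ (P : Subgroup G)) → g⁻¹ * t * g ∈ (P : Subgroup G) → g⁻¹ * t * g ∉ S0) :
    MonoidHom.transfer (sgn (P : Subgroup G) S0 hidx) t = -1 := by
  rw [transfer_const_group (odd_index P) _ ht htP hT hTt (by
    intro g hg hgt
    rw [sgn_of_not_mem hgt (hF1 g hg hgt), sgn_of_not_mem htP ht0])]
  exact sgn_of_not_mem htP ht0

theorem not_mem_of_transfer [Finite G] {P : Sylow 2 G} {S0 E : Subgroup G}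
    {hidx : ∀ a ∈ (P : Subgroup G), ∀ b ∈ (P : Subgroup G), a ∉ S0 → b ∉ S0 → a * b ∈ S0} {t : G}
    (h1 : MonoidHom.transfer (sgn (P : Subgroup G) S0 hidx) t = -1) (hE : commutator E = ⊤) : t ∉ E := by
  intro htE
  have h2 := hom_eq_one hE ((MonoidHom.transfer (sgn (P : Subgroup G) S0 hidx)).comp E.subtype) ⟨t, htE⟩
  have h3 : MonoidHom.transfer (sgn (P : Subgroup G) S0 hidx) t = 1 := h2
  rw [h1] at h3
  exact absurd h3 (by decide)

theorem le_of_noSwap' [Finite G] {P : Sylow 2 G} {S0 E : Subgroup G}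
    {hidx : ∀ a ∈ (P : Subgroup G), ∀ b ∈ (P : Subgroup G), a ∉ S0 → b ∉ S0 → a * b ∈ S0} {t : G}
    (h1 : MonoidHom.transfer (sgn (P : Subgroup G) S0 hidx) t = -1) (hE : commutator E = ⊤)
    (hGE : ∀ g : G, g ∈ E ∨ t * g ∈ E)
    (hNS : ∀ l ∈ S0, l ∉ E → ∃ l' : G, l' ∉ E ∧ NoSwap (P : Subgroup G) S0 l') : S0 ≤ E := by
  intro l hl
  by_contra hlE
  obtain ⟨l', hl', Q, hQ, hc, hno⟩ := hNS l hl hlE
  have h2 : MonoidHom.transfer (sgn (P : Subgroup G) S0 hidx) l' = 1 := by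
    refine transfer_eq_one _ l' Q hQ hc (fun g hg k hk => ?_)
    exact sgn_of_mem hk (hno g hg k hk)
  have h3 : t * l' ∈ E := (hGE l').resolve_left hl'
  have h4 := hom_eq_one hE ((MonoidHom.transfer (sgn (P : Subgroup G) S0 hidx)).comp E.subtype) ⟨t * l', h3⟩
  have h5 : MonoidHom.transfer (sgn (P : Subgroup G) S0 hidx) (t * l') = 1 := h4
  rw [map_mul, h1, h2] at h5
  exact absurd h5 (by decide)

theorem final' [Finite G] {A : Type*} [CommGroup A] {P : Sylow 2 G} {E S0 : Subgroup G} [E.Normal]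
    (hE : commutator E = ⊤) (hPE : ∀ x ∈ (P : Subgroup G), x ∈ E → x ∈ S0)
    (ψ : S0 →* A) {y : G} (hy : y * y = 1) (hyP : y ∈ (P : Subgroup G)) (hyE : y ∈ E) (hyS : y ∈ S0) (hψ : ψ ⟨y, hyS⟩ ≠ 1)
    {R : Subgroup G} (hR : IsPGroup 2 R) (hRE : R ≤ E) (hRy : ∀ r ∈ R, r * y = y * r)
    (hyc : ∀ g ∈ E, (∀ r ∈ R, g⁻¹ * r * g ∈ (P : Subgroup G)) → ∀ h : g⁻¹ * y * g ∈ S0, ψ ⟨_, h⟩ = ψ ⟨y, hyS⟩) :
    False := by
  let H : Subgroup E := (P : Subgroup G).subgroupOf E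
  let ι : H →* S0 :=
    { toFun := fun x => ⟨((x : E) : G), hPE _ (mem_subgroupOf.1 x.2) x.1.2⟩
      map_one' := rfl
      map_mul' := fun _ _ => rfl }
  have hyH : (⟨y, hyE⟩ : E) ∈ H := mem_subgroupOf.2 hyP
  have hR' : IsPGroup 2 (R.subgroupOf E) := hR.comap_of_injective E.subtype E.subtype_injective
  have key := transfer_const_group (H := H) (odd_subgroupOf P E) (ψ.comp ι) (t := ⟨y, hyE⟩) (Subtype.ext hy) hyH
    (R := R.subgroupOf E) hR' (fun r hr => Subtype.ext (hRy _ (mem_subgroupOf.1 hr)))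
    (by
      intro g hg hgy
      exact hyc g g.2 (fun r hr => mem_subgroupOf.1 (hg ⟨r, hRE hr⟩ (mem_subgroupOf.2 hr))) _)
  have h2 := hom_eq_one hE (MonoidHom.transfer (ψ.comp ι)) ⟨y, hyE⟩
  rw [h2] at key
  exact hψ key.symm

/-- **Theorem OUT**, parity version. (F1) is needed only for `g` with `T^g ≤ P` (`T` a 2-group centralising `t`),
(F4) only for `g ∈ E` with `R^g ≤ P` (`R` a 2-subgroup of `E` centralising `y`). -/
theorem inf_eq' [Finite G] {A : Type*} [CommGroup A] {P : Sylow 2 G} {S0 E N : Subgroup G} [E.Normal]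
    (hS0 : S0 ≤ (P : Subgroup G))
    (hidx : ∀ a ∈ (P : Subgroup G), ∀ b ∈ (P : Subgroup G), a ∉ S0 → b ∉ S0 → a * b ∈ S0) {t : G}
    (ht : t * t = 1) (htP : t ∈ (P : Subgroup G)) (ht0 : t ∉ S0) {T : Subgroup G} (hT : IsPGroup 2 T)
    (hTt : ∀ r ∈ T, r * t = t * r)
    (hF1 : ∀ g : G, (∀ r ∈ T, g⁻¹ * r * g ∈ (P : Subgroup G)) → g⁻¹ * t * g ∈ (P : Subgroup G) → g⁻¹ * t * g ∉ S0)
    (hE : commutator E = ⊤) (hGE : ∀ g : G, g ∈ E ∨ t * g ∈ E)
    (hNS : ∀ l ∈ S0, l ∉ E → ∃ l' : G, l' ∉ E ∧ NoSwap (P : Subgroup G) S0 l')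
    (ψ : S0 →* A) (hψ : ∀ x (hx : x ∈ S0), ψ ⟨x, hx⟩ = 1 ↔ x ∈ N) (hNS0 : N ≤ S0)
    (hy : (∃ x ∈ S0, x ∉ N) → S0 ≤ E → t ∉ E → ∃ y ∈ S0, y * y = 1 ∧ y ∉ N ∧
      ∃ R : Subgroup G, IsPGroup 2 R ∧ R ≤ E ∧ (∀ r ∈ R, r * y = y * r) ∧
      ∀ g ∈ E, (∀ r ∈ R, g⁻¹ * r * g ∈ (P : Subgroup G)) → g⁻¹ * y * g ∈ S0 → y⁻¹ * (g⁻¹ * y * g) ∈ N) :
    (P : Subgroup G) ⊓ E = N := by
  have h0 := transfer_sgn_t' hidx ht htP ht0 hT hTt hF1
  have h1 : S0 ≤ E := le_of_noSwap' h0 hE hGE hNS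
  have htE : t ∉ E := not_mem_of_transfer h0 hE
  have hPE : ∀ x ∈ (P : Subgroup G), x ∈ E → x ∈ S0 := by
    intro x hx hxE
    by_contra hx0
    have h2 := h1 (hidx x hx t htP hx0 ht0)
    exact htE ((mul_mem_cancel_left hxE).1 h2)
  have hinf : (P : Subgroup G) ⊓ E = S0 := le_antisymm (fun x hx => hPE x hx.1 hx.2) (le_inf hS0 h1)
  rw [hinf]
  refine le_antisymm ?_ hNS0
  intro x hx
  by_contra hxN
  obtain ⟨y, hyS, hy2, hyN, R, hR, hRE, hRy, hyc⟩ := hy ⟨x, hx, hxN⟩ h1 htE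
  refine final' hE hPE ψ hy2 (hS0 hyS) (h1 hyS) hyS (fun h => hyN ((hψ _ _).1 h)) hR hRE hRy ?_
  intro g hg hgR h
  have h3 := (hψ _ (mul_mem (inv_mem hyS) h)).2 (hyc g hg hgR h)
  have h4 : ψ (⟨y, hyS⟩⁻¹ * ⟨_, h⟩) = 1 := h3
  rw [map_mul, map_inv] at h4
  exact (inv_mul_eq_one.1 h4).symm

/-! ### `NoSwap` from pure elements -/

/-- the commutator subgroup of a 2-group `Q` centralising `l` fixes every coset in a `Q`-fixed `⟨l⟩`-cycle -/
theorem commutator_mem {P Q : Subgroup G} {l g : G} (hc : ∀ h ∈ Q, h * l = l * h)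
    (hg : ∀ h ∈ Q, ∃ k : ℤ, g⁻¹ * (l ^ k * h) * g ∈ P) {x : G} (hx : x ∈ ⁅Q, Q⁆) : g⁻¹ * x * g ∈ P := by
  have h1 : ⁅Q, Q⁆ ≤ P.comap (MulAut.conj g⁻¹).toMonoidHom := by
    rw [commutator_le]
    intro a ha b hb
    obtain ⟨i, hi⟩ := hg a ha
    obtain ⟨j, hj⟩ := hg b hb
    rw [mem_comap]
    show g⁻¹ * ⁅a, b⁆ * g⁻¹⁻¹ ∈ P
    have ha' : Commute a l := hc a ha
    have hb' : Commute b l := hc b hb
    have e1 : ⁅l ^ i * a, l ^ j * b⁆ = ⁅a, b⁆ := by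
      have c1 : Commute (l ^ i) a := (ha'.zpow_right i).symm
      have c2 : Commute (l ^ i) b := (hb'.zpow_right i).symm
      have c3 : Commute (l ^ j) a := (ha'.zpow_right j).symm
      have c4 : Commute (l ^ j) b := (hb'.zpow_right j).symm
      have c5 : Commute (l ^ i) (l ^ j) := (Commute.refl l).zpow_zpow i j
      rw [commutatorElement_def, commutatorElement_def, mul_inv_rev, mul_inv_rev]
      calc l ^ i * a * (l ^ j * b) * (a⁻¹ * (l ^ i)⁻¹) * (b⁻¹ * (l ^ j)⁻¹)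
          = l ^ i * (a * l ^ j) * b * a⁻¹ * ((l ^ i)⁻¹ * b⁻¹) * (l ^ j)⁻¹ := by group
        _ = l ^ i * (l ^ j * a) * b * a⁻¹ * (b⁻¹ * (l ^ i)⁻¹) * (l ^ j)⁻¹ := by
            rw [c3.symm.eq, (c2.inv_inv).eq]
        _ = (l ^ i * l ^ j) * (a * b * a⁻¹ * b⁻¹) * ((l ^ i)⁻¹ * (l ^ j)⁻¹) := by group
        _ = (a * b * a⁻¹ * b⁻¹) * (l ^ i * l ^ j) * ((l ^ i)⁻¹ * (l ^ j)⁻¹) := by
            have c6 : Commute (l ^ i * l ^ j) (a * b * a⁻¹ * b⁻¹) := by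
              have d1 : Commute (l ^ i * l ^ j) a := c1.mul_left c3
              have d2 : Commute (l ^ i * l ^ j) b := c2.mul_left c4
              exact ((d1.mul_right d2).mul_right d1.inv_right).mul_right d2.inv_right
            rw [c6.eq]
        _ = (a * b * a⁻¹ * b⁻¹) * (l ^ i * l ^ j) * ((l ^ j)⁻¹ * (l ^ i)⁻¹) := by
            rw [(c5.inv_inv).eq]
        _ = a * b * a⁻¹ * b⁻¹ := by group
    have e2 : g⁻¹ * ⁅a, b⁆ * g⁻¹⁻¹ = ⁅g⁻¹ * (l ^ i * a) * g, g⁻¹ * (l ^ j * b) * g⁆ := by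
      rw [← e1, commutatorElement_def, commutatorElement_def]
      group
    rw [e2, commutatorElement_def]
    exact mul_mem (mul_mem (mul_mem hi hj) (inv_mem hi)) (inv_mem hj)
  have h2 := h1 hx
  rw [mem_comap] at h2
  have e : g⁻¹ * x * g = g⁻¹ * x * g⁻¹⁻¹ := by rw [inv_inv]
  rw [e]
  exact h2

/-- `v` is pure: no conjugate of `v` in `S0` commutes with an element of `P ∖ S0` -/
def Pure (P S0 : Subgroup G) (v : G) : Prop :=
  ∀ g u : G, g⁻¹ * v * g ∈ S0 → u ∈ P → u ∉ S0 → u * (g⁻¹ * v * g) = (g⁻¹ * v * g) * u → False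

theorem noSwap_of_four {P S0 : Subgroup G}
    (hidx : ∀ a ∈ P, ∀ b ∈ P, a ∉ S0 → b ∉ S0 → a * b ∈ S0) {l : G} {Q : Subgroup G} (hQ : IsPGroup 2 Q)
    (hc : ∀ h ∈ Q, h * l = l * h) (a b : G) (ha : a ∈ ⁅Q, Q⁆) (hb : b ∈ ⁅Q, Q⁆) (pa : Pure P S0 a) (pb : Pure P S0 b)
    (pab : Pure P S0 (a * b)) : NoSwap P S0 l := by
  refine ⟨Q, hQ, hc, fun g hg k hk => ?_⟩
  by_contra hu
  have hQQ : ⁅Q, Q⁆ ≤ Q := commutator_le_self _
  have hcomm : ∀ v ∈ ⁅Q, Q⁆, (g⁻¹ * l ^ k * g) * (g⁻¹ * v * g) = (g⁻¹ * v * g) * (g⁻¹ * l ^ k * g) := by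
    intro v hv
    have h1 : l ^ k * v = v * l ^ k := ((show Commute v l from hc v (hQQ hv)).pow_right k).symm.eq
    calc (g⁻¹ * l ^ k * g) * (g⁻¹ * v * g) = g⁻¹ * (l ^ k * v) * g := by group
      _ = g⁻¹ * (v * l ^ k) * g := by rw [h1]
      _ = (g⁻¹ * v * g) * (g⁻¹ * l ^ k * g) := by group
  have h1 : g⁻¹ * a * g ∉ S0 := fun h => pa g _ h hk hu (hcomm a ha)
  have h2 : g⁻¹ * b * g ∉ S0 := fun h => pb g _ h hk hu (hcomm b hb)
  have h3 := hidx _ (commutator_mem hc hg ha) _ (commutator_mem hc hg hb) h1 h2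
  have e : g⁻¹ * a * g * (g⁻¹ * b * g) = g⁻¹ * (a * b) * g := by group
  rw [e] at h3
  exact pab g _ h3 hk hu (hcomm _ (mul_mem ha hb))

/-- if in addition no conjugate of `a` lies in `P ∖ S0`, one pure element is enough -/
theorem noSwap_of_one {P S0 : Subgroup G} {l : G} {Q : Subgroup G} (hQ : IsPGroup 2 Q)
    (hc : ∀ h ∈ Q, h * l = l * h) (a : G) (ha : a ∈ ⁅Q, Q⁆) (pa : Pure P S0 a)
    (ha' : ∀ g : G, g⁻¹ * a * g ∈ P → g⁻¹ * a * g ∈ S0) : NoSwap P S0 l := by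
  refine ⟨Q, hQ, hc, fun g hg k hk => ?_⟩
  by_contra hu
  have hQQ : ⁅Q, Q⁆ ≤ Q := commutator_le_self _
  have hcomm : (g⁻¹ * l ^ k * g) * (g⁻¹ * a * g) = (g⁻¹ * a * g) * (g⁻¹ * l ^ k * g) := by
    have h1 : l ^ k * a = a * l ^ k := ((show Commute a l from hc a (hQQ ha)).pow_right k).symm.eq
    calc (g⁻¹ * l ^ k * g) * (g⁻¹ * a * g) = g⁻¹ * (l ^ k * a) * g := by group
      _ = g⁻¹ * (a * l ^ k) * g := by rw [h1]
      _ = (g⁻¹ * a * g) * (g⁻¹ * l ^ k * g) := by group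
  exact pa g _ (ha' g (commutator_mem hc hg ha)) hk hu hcomm

end Cfsg.Agent.StdRank2.OutSplit
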