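import Cfsg.Agent.StdRank2.OutSplit.Table

set_option autoImplicit false

/-!
# The split case with outer 2-elements: one theorem for all types

* `exists_y` : an involution `w ∈ S0` with `w * (t * w * t) ∈ N` is congruent mod `S2` to an involution commuting
  with `t`.
* `Hilb` : all involutions of the coset `w S2` are `S2`-conjugate, for the involutions `w ∈ S0 ∖ N` with
  `w * (t * w * t) ∈ N`. It gives the description of the involutions which commute with swapping elements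
  (`hO_of_hilb`) and the uniqueness of the class (`conj_of_hilb`).
* `OutData` : the complete list of facts which a type has to provide.
* `OutData.le` : `S0 ≤ E`;  `OutData.not_mem` : `t ∉ E`; `OutData.inf_eq` : **`P ∩ E = N`**.
-/

namespace Cfsg.Agent.StdRank2.OutSplit

open MulAction Subgroup Cfsg.Agent.StdEven.OuterKill
open scoped commutatorElement Pointwise

variable {G : Type*} [Group G]

section Pairs

variable {P S0 N S1 S2 : Subgroup G} {t : G}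

/-- components are unique -/
theorem SwapData.comp_eq (h : SwapData P S0 N S1 S2) {a b c d : G} (ha : a ∈ S1) (hb : b ∈ S2) (hc : c ∈ S1)
    (hd : d ∈ S2) (he : a * b = c * d) : a = c ∧ b = d := by
  have e : c⁻¹ * a = d * b⁻¹ := by
    calc c⁻¹ * a = c⁻¹ * (a * b) * b⁻¹ := by group
      _ = d * b⁻¹ := by rw [he]; group
  have h1 : c⁻¹ * a = 1 := h.hdisj _ (mul_mem (inv_mem hc) ha) (by rw [e]; exact mul_mem hd (inv_mem hb))
  have h2 : a = c := (inv_mul_eq_one.1 h1).symm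
  refine ⟨h2, ?_⟩
  rw [h2] at he
  exact mul_left_cancel he

/-- `S1`, `S2` are normalised by `S0` -/
def NormS (S0 S1 S2 : Subgroup G) : Prop :=
  (∀ x ∈ S0, ∀ a ∈ S1, x⁻¹ * a * x ∈ S1) ∧ (∀ x ∈ S0, ∀ a ∈ S2, x⁻¹ * a * x ∈ S2)

/-- an involution over `(s, s)` is congruent to an involution commuting with `t` -/
theorem exists_y (h : SwapData P S0 N S1 S2) (hn : NormS S0 S1 S2) (ht : t * t = 1) (htP : t ∈ P) (ht0 : t ∉ S0)
    {w : G} (hw : w ∈ S0) (hw2 : w * w = 1) (hwN : w * (t * w * t) ∈ N) :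
    ∃ v ∈ S2, w * v * w = v⁻¹ ∧ w * v * (w * v) = 1 ∧ (w * v) * t = t * (w * v) := by
  have hti : t⁻¹ = t := inv_eq_of_mul_eq_one_right ht
  have hwi : w⁻¹ = w := inv_eq_of_mul_eq_one_right hw2
  obtain ⟨a, ha, b, hb, he⟩ := h.hsup _ hwN
  have ht1 : ∀ x ∈ S1, t * x * t ∈ S2 := by
    intro x hx
    have := h.hsw1 t htP ht0 x hx
    rwa [hti] at this
  have ht2 : ∀ x ∈ S2, t * x * t ∈ S1 := by
    intro x hx
    have := h.hsw2 t htP ht0 x hx
    rwa [hti] at this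
  have htt : ∀ x : G, t * (t * x * t) * t = x := by
    intro x
    calc t * (t * x * t) * t = (t * t) * x * (t * t) := by group
      _ = x := by rw [ht]; group
  -- `v ^ t = v⁻¹`
  have hwt2 : (t * w * t) * (t * w * t) = 1 := by
    calc (t * w * t) * (t * w * t) = t * w * (t * t) * w * t := by group
      _ = t * (w * w) * t := by rw [ht]; group
      _ = 1 := by rw [hw2, mul_one, ht]
  have hvt : t * (a * b) * t = (a * b)⁻¹ := by
    rw [← he]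
    refine eq_inv_of_mul_eq_one_left ?_
    calc t * (w * (t * w * t)) * t * (w * (t * w * t)) = (t * w * t) * (w * t * t * w) * (t * w * t) := by group
      _ = (t * w * t) * (w * (t * t) * w) * (t * w * t) := by group
      _ = (t * w * t) * (w * w) * (t * w * t) := by rw [ht, mul_one]
      _ = 1 := by rw [hw2, mul_one, hwt2]
  have hab1 : (a * b)⁻¹ = a⁻¹ * b⁻¹ := by
    rw [mul_inv_rev]
    exact (h.hcomm _ (inv_mem ha) _ (inv_mem hb)).symm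
  have hvt' : (t * b * t) * (t * a * t) = a⁻¹ * b⁻¹ := by
    rw [← hab1, ← hvt]
    rw [(h.hcomm a ha b hb)]
    calc (t * b * t) * (t * a * t) = t * b * (t * t) * a * t := by group
      _ = t * (b * a) * t := by rw [ht]; group
  obtain ⟨hb1, ha1⟩ := h.comp_eq (ht2 b hb) (ht1 a ha) (inv_mem ha) (inv_mem hb) hvt'
  -- `v ^ w = v⁻¹`
  have hvw : w * (a * b) * w = (a * b)⁻¹ := by
    rw [← he]
    refine eq_inv_of_mul_eq_one_left ?_
    calc w * (w * (t * w * t)) * w * (w * (t * w * t)) = (w * w) * (t * w * t) * (w * w) * (t * w * t) := by group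
      _ = 1 := by rw [hw2, one_mul, mul_one, hwt2]
  have hvw' : (w * a * w) * (w * b * w) = a⁻¹ * b⁻¹ := by
    rw [← hab1, ← hvw]
    calc (w * a * w) * (w * b * w) = w * a * (w * w) * b * w := by group
      _ = w * (a * b) * w := by rw [hw2]; group
  have hwa : w * a * w ∈ S1 := by
    have := hn.1 w hw a ha
    rwa [hwi] at this
  have hwb : w * b * w ∈ S2 := by
    have := hn.2 w hw b hb
    rwa [hwi] at this
  obtain ⟨-, hb2⟩ := h.comp_eq hwa hwb (inv_mem ha) (inv_mem hb) hvw'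
  refine ⟨b, hb, hb2, ?_, ?_⟩
  · calc w * b * (w * b) = (w * b * w) * b := by group
      _ = 1 := by rw [hb2, inv_mul_cancel]
  · -- `t w t = w a b`, `t b t = a⁻¹`
    have e1 : t * w * t = w * (a * b) := by
      calc t * w * t = (w * w) * (t * w * t) := by rw [hw2, one_mul]
        _ = w * (w * (t * w * t)) := by group
        _ = w * (a * b) := by rw [he]
    have e2 : t * (w * b) * t = w * b := by
      calc t * (w * b) * t = t * w * (t * t) * b * t := by rw [ht]; group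
        _ = (t * w * t) * (t * b * t) := by group
        _ = w * (b * a) * a⁻¹ := by rw [e1, hb1, h.hcomm a ha b hb]
        _ = w * b := by group
    calc (w * b) * t = (t * (w * b) * t) * t := by rw [e2]
      _ = t * (w * b) * (t * t) := by group
      _ = t * (w * b) := by rw [ht, mul_one]

/-- all involutions of the coset `w S2` are `S2`-conjugate, for the involutions `w ∈ S0 ∖ N` over `(s, s)` -/
def Hilb (S0 N S2 : Subgroup G) (t : G) : Prop :=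
  ∀ w ∈ S0, w ∉ N → w * w = 1 → w * (t * w * t) ∈ N → ∀ v ∈ S2, w * v * w = v⁻¹ → ∃ b ∈ S2, b⁻¹ * w * b = w * v

theorem hO_of_hilb (h : SwapData P S0 N S1 S2) (hn : NormS S0 S1 S2) (ht : t * t = 1) (htP : t ∈ P) (ht0 : t ∉ S0)
    (hH : Hilb S0 N S2 t) {w : G} (hw : w ∈ S0) (hwN : w ∉ N) (hw2 : w * w = 1) (hwt : w * (t * w * t) ∈ N) :
    ∃ x : G, (x⁻¹ * t * x) * w = w * (x⁻¹ * t * x) := by
  obtain ⟨v, hv, hvw, -, hc⟩ := exists_y h hn ht htP ht0 hw hw2 hwt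
  obtain ⟨b, -, hb⟩ := hH w hw hwN hw2 hwt v hv hvw
  rw [← hb] at hc
  refine ⟨b⁻¹, ?_⟩
  calc (b⁻¹⁻¹ * t * b⁻¹) * w = b * (t * (b⁻¹ * w * b)) * b⁻¹ := by group
    _ = b * ((b⁻¹ * w * b) * t) * b⁻¹ := by rw [hc]
    _ = w * (b⁻¹⁻¹ * t * b⁻¹) := by group

/-- two involutions over `(s, s)`, one of them commuting with `t`, are conjugate under `N` -/
theorem conj_of_hilb (h : SwapData P S0 N S1 S2) (hn : NormS S0 S1 S2) (ht : t * t = 1) (htP : t ∈ P) (ht0 : t ∉ S0)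
    (hH : Hilb S0 N S2 t) {y w : G} (hy : y ∈ S0) (hyN : y ∉ N) (hy2 : y * y = 1) (hyt : y * t = t * y)
    (hw2 : w * w = 1) (hyw : y⁻¹ * w ∈ N) : ∃ b ∈ N, b⁻¹ * y * b = w := by
  have hti : t⁻¹ = t := inv_eq_of_mul_eq_one_right ht
  have hyi : y⁻¹ = y := inv_eq_of_mul_eq_one_right hy2
  have hyty : t * y * t = y := by rw [← hyt, mul_assoc, ht, mul_one]
  have hyN' : y * (t * y * t) ∈ N := by rw [hyty, hy2]; exact one_mem N
  obtain ⟨a, ha, b, hb, he⟩ := h.hsup _ hyw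
  have hwe : w = y * (a * b) := by rw [← he]; group
  have e1 : y * (a * b) * y * (a * b) = 1 := by
    have : w * w = y * (a * b) * y * (a * b) := by rw [hwe]; group
    rw [← this, hw2]
  have e2 : y * (a * b) * y = (a * b)⁻¹ := eq_inv_of_mul_eq_one_left e1
  have hab1 : (a * b)⁻¹ = a⁻¹ * b⁻¹ := by
    rw [mul_inv_rev]
    exact (h.hcomm _ (inv_mem ha) _ (inv_mem hb)).symm
  have e3 : (y * a * y) * (y * b * y) = a⁻¹ * b⁻¹ := by
    rw [← hab1, ← e2]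
    calc (y * a * y) * (y * b * y) = y * a * (y * y) * b * y := by group
      _ = y * (a * b) * y := by rw [hy2]; group
  have hya : y * a * y ∈ S1 := by
    have := hn.1 y hy a ha
    rwa [hyi] at this
  have hyb : y * b * y ∈ S2 := by
    have := hn.2 y hy b hb
    rwa [hyi] at this
  obtain ⟨ea, eb⟩ := h.comp_eq hya hyb (inv_mem ha) (inv_mem hb) e3
  obtain ⟨d, hd, hde⟩ := hH y hy hyN hy2 hyN' b hb eb
  -- the first component, through `t`
  have htaS : t * a * t ∈ S2 := by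
    have := h.hsw1 t htP ht0 a ha
    rwa [hti] at this
  have hta : y * (t * a * t) * y = (t * a * t)⁻¹ := by
    have e4 : y * (t * a * t) * y = t * (y * a * y) * t := by
      calc y * (t * a * t) * y = (y * t) * a * (t * y) := by group
        _ = (t * y) * a * (y * t) := by rw [hyt]
        _ = t * (y * a * y) * t := by group
    rw [e4, ea, mul_inv_rev, mul_inv_rev, hti]
    group
  obtain ⟨c, hc, hce⟩ := hH y hy hyN hy2 hyN' _ htaS hta
  have hc1 : t * c * t ∈ S1 := by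
    have := h.hsw2 t htP ht0 c hc
    rwa [hti] at this
  have hce1 : (t * c * t)⁻¹ * y * (t * c * t) = y * a := by
    have e5 : (t * c * t)⁻¹ * y * (t * c * t) = t * (c⁻¹ * y * c) * t := by
      calc (t * c * t)⁻¹ * y * (t * c * t) = t⁻¹ * c⁻¹ * (t⁻¹ * y * t) * c * t := by group
        _ = t * (c⁻¹ * y * c) * t := by rw [hti, hyty]; group
    rw [e5, hce]
    calc t * (y * (t * a * t)) * t = (t * y * t) * a * (t * t) := by group
      _ = y * a := by rw [hyty, ht, mul_one]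
  refine ⟨(t * c * t) * d, mul_mem (h.h1N hc1) (h.h2N hd), ?_⟩
  calc ((t * c * t) * d)⁻¹ * y * ((t * c * t) * d) = d⁻¹ * ((t * c * t)⁻¹ * y * (t * c * t)) * d := by group
    _ = d⁻¹ * (y * a) * d := by rw [hce1]
    _ = (d⁻¹ * y * d) * (d⁻¹ * (a * d)) := by group
    _ = (d⁻¹ * y * d) * (d⁻¹ * (d * a)) := by rw [h.hcomm a ha d hd]
    _ = (d⁻¹ * y * d) * a := by group
    _ = y * (b * a) := by rw [hde]; group
    _ = w := by rw [hwe, h.hcomm a ha b hb]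

end Pairs

/-- `inf_eq_table` with a subgroup `B` of the group of types: only the conjugates `y'` of `y` whose two types differ mod
`B` have to be excluded, where `ψ y ∉ B`. -/
theorem inf_eq_tableB [Finite G] {P : Sylow 2 G} {S0 E N : Subgroup G} [E.Normal] (hS0 : S0 ≤ (P : Subgroup G))
    (hidx : ∀ a ∈ (P : Subgroup G), ∀ b ∈ (P : Subgroup G), a ∉ S0 → b ∉ S0 → a * b ∈ S0)
    {t : G} (ht : t * t = 1) (htP : t ∈ (P : Subgroup G)) (htE : t ∉ E) (hE : commutator E = ⊤) (h1 : S0 ≤ E)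
    {A : Type*} [CommGroup A] (ψ : S0 →* A) (htS : ∀ x ∈ S0, t * x * t ∈ S0)
    (hψ : ∀ u (_ : u ∈ (P : Subgroup G)), u ∉ S0 → ∀ x (hx : x ∈ S0), u * x = x * u → ψ ⟨_, htS x hx⟩ = ψ ⟨x, hx⟩)
    (hy : S0 ≠ N → ∃ y, ∃ hyS : y ∈ S0, y * y = 1 ∧ y * t = t * y ∧
      (∀ g : G, g⁻¹ * t * g ∈ (P : Subgroup G) → g⁻¹ * y * g ∈ (P : Subgroup G) →
        ∃ h : g⁻¹ * y * g ∈ S0, ψ ⟨_, h⟩ = ψ ⟨y, hyS⟩ ∧ ψ ⟨_, htS _ h⟩ = ψ ⟨y, hyS⟩) ∧
      (∀ w (hw : w ∈ S0), w * w = 1 → ψ ⟨w, hw⟩ = ψ ⟨y, hyS⟩ → ψ ⟨_, htS _ hw⟩ = ψ ⟨y, hyS⟩ →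
        Nat.card (cen (P : Subgroup G) w) ≤ Nat.card (cen (P : Subgroup G) y)) ∧
      ∃ B : Subgroup A, ψ ⟨y, hyS⟩ ∉ B ∧ (∀ g ∈ E, ∀ h : g⁻¹ * y * g ∈ S0, ψ ⟨_, h⟩ * ψ ⟨_, htS _ h⟩ ∉ B →
        (cen S0 y).map (MulAut.conj g⁻¹).toMonoidHom ≠ cen S0 (g⁻¹ * y * g))) :
    (P : Subgroup G) ⊓ E = N := by
  have ht0 : t ∉ S0 := fun h => htE (h1 h)
  have hPE : ∀ x ∈ (P : Subgroup G), x ∈ E → x ∈ S0 := by
    intro x hx hxE
    by_contra hx0
    have h2 := h1 (hidx x hx t htP hx0 ht0)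
    exact htE ((mul_mem_cancel_left hxE).1 h2)
  have hinf : (P : Subgroup G) ⊓ E = S0 := le_antisymm (fun x hx => hPE x hx.1 hx.2) (le_inf hS0 h1)
  rw [hinf]
  by_contra hne
  obtain ⟨y, hyS, hy2, hyt, hM, hEX, B, hyB, htab⟩ := hy hne
  let τ : S0 →* S0 :=
    { toFun := fun x => ⟨t * x * t, htS x x.2⟩
      map_one' := Subtype.ext (by show t * ((1 : S0) : G) * t = 1; rw [OneMemClass.coe_one, mul_one, ht])
      map_mul' := fun a b => Subtype.ext (by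
        show t * ((a : G) * b) * t = t * a * t * (t * b * t)
        calc t * ((a : G) * b) * t = t * a * (t * t) * b * t := by rw [ht]; group
          _ = t * a * t * (t * b * t) := by group) }
  let Ψ : S0 →* A × A := ψ.prod (ψ.comp τ)
  have hΨ : ∀ x (hx : x ∈ S0), Ψ ⟨x, hx⟩ = (ψ ⟨x, hx⟩, ψ ⟨_, htS x hx⟩) := fun _ _ => rfl
  let Φ : S0 →* A ⧸ B := (QuotientGroup.mk' B).comp ψ
  have hΦ : ∀ x (hx : x ∈ S0), Φ ⟨x, hx⟩ = ((ψ ⟨x, hx⟩ : A) : A ⧸ B) := fun _ _ => rfl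
  have hyty : t * y * t = y := by rw [← hyt, mul_assoc, ht, mul_one]
  have hψyt : ψ ⟨_, htS y hyS⟩ = ψ ⟨y, hyS⟩ := by
    congr 1; exact Subtype.ext hyty
  have hR2 : IsPGroup 2 (cen S0 y) := P.isPGroup'.to_le (inf_le_left.trans hS0)
  have hM' : ∀ g : G, g⁻¹ * t * g ∈ (P : Subgroup G) → g⁻¹ * y * g ∈ (P : Subgroup G) →
      ∃ h : g⁻¹ * y * g ∈ S0, Ψ ⟨_, h⟩ = Ψ ⟨y, hyS⟩ := by
    intro g hg hgy
    obtain ⟨h, e1, e2⟩ := hM g hg hgy
    refine ⟨h, ?_⟩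
    rw [hΨ, hΨ, e1, e2, hψyt]
  have hΦy : Φ ⟨y, hyS⟩ ≠ 1 := by
    intro h
    rw [hΦ] at h
    exact hyB ((QuotientGroup.eq_one_iff _).1 h)
  obtain ⟨g, hgE, hgR, hgt, h, h', hpair⟩ := exists_pair hE hinf ht htP Φ hy2 hyS hyt hΦy hR2
    (inf_le_left.trans h1) (mem_cen.2 ⟨hyS, rfl⟩) (fun r hr => (mem_cen.1 hr).2) (by
      intro r hr
      refine mem_cen.2 ⟨htS r (mem_cen.1 hr).1, ?_⟩
      have h2 := (mem_cen.1 hr).2
      calc t * r * t * y = t * r * (y * t) := by rw [hyt]; group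
        _ = t * (y * r) * t := by rw [← h2]; group
        _ = y * (t * r * t) := by rw [← mul_assoc t y r, ← hyt]; group) (by
      intro g hg hgt hgR h
      obtain ⟨_, he⟩ := hM' g hgt (hS0 h)
      have e1 := congrArg Prod.fst he
      rw [hΨ, hΨ] at e1
      rw [hΦ, hΦ]
      exact congrArg _ e1)
  have hpair' : ψ ⟨_, h⟩ * ψ ⟨_, h'⟩ ∉ B := by
    intro hB
    apply hpair
    rw [hΦ, hΦ, ← QuotientGroup.mk_mul]
    exact (QuotientGroup.eq_one_iff _).2 hB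
  have hy'2 : g⁻¹ * y * g * (g⁻¹ * y * g) = 1 := by
    calc g⁻¹ * y * g * (g⁻¹ * y * g) = g⁻¹ * (y * y) * g := by group
      _ = 1 := by rw [hy2]; group
  have hA2 : ψ ⟨_, h⟩ * ψ ⟨_, h⟩ = 1 := by
    rw [← map_mul]
    have : (⟨_, h⟩ : S0) * ⟨_, h⟩ = 1 := Subtype.ext hy'2
    rw [this, map_one]
  have hne2 : ψ ⟨_, h⟩ ≠ ψ ⟨_, htS _ h⟩ := by
    intro heq
    apply hpair'
    have e4 : ψ ⟨_, h'⟩ = ψ ⟨_, h⟩ := heq.symm
    rw [e4, hA2]
    exact one_mem B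
  refine htab g hgE h hpair' ?_
  refine conj_eq hS0 hidx Ψ htP ht0 hyS hyt hy2 hM' ?_ h ?_ ?_ hgR
  · intro w hw hw2 he
    have e1 := congrArg Prod.fst he
    have e2 := congrArg Prod.snd he
    rw [hΨ, hΨ] at e1 e2
    exact hEX w hw hw2 e1 (e2.trans hψyt)
  · intro he
    rw [hΨ, hΨ] at he
    have e1 : ψ ⟨_, h⟩ = ψ ⟨y, hyS⟩ := congrArg Prod.fst he
    have e2 : ψ ⟨_, htS _ h⟩ = ψ ⟨_, htS y hyS⟩ := congrArg Prod.snd he
    exact hne2 (by rw [e1, e2, hψyt])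
  · intro u hu hc
    by_contra hu0
    exact hne2 (hψ u hu hu0 _ h hc).symm

/-- **All the facts which a type provides in the split case with outer 2-elements.**
`ψ` = the type (in a commutative group `A`) of the action of an element of `S0` on the first factor. -/
structure OutData [Finite G] (P : Sylow 2 G) (S0 N S1 S2 E Z : Subgroup G) (t : G) {A : Type*} [CommGroup A]
    (ψ : S0 →* A) : Prop where
  swap : SwapData (P : Subgroup G) S0 N S1 S2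
  ht : t * t = 1
  htP : t ∈ (P : Subgroup G)
  /-- (F1) -/
  F1 : ∀ g : G, g⁻¹ * t * g ∉ S0
  hE : commutator E = ⊤
  hEn : E.Normal
  hGE : ∀ g : G, g ∈ E ∨ t * g ∈ E
  norm : NormS S0 S1 S2
  hN : ∀ x (hx : x ∈ S0) (hx' : t * x * t ∈ S0), x ∈ N ↔ ψ ⟨x, hx⟩ = 1 ∧ ψ ⟨_, hx'⟩ = 1
  hZ1 : Z ≤ S1
  hZc : ∀ z ∈ Z, ∀ a ∈ S1, z * a = a * z
  hZ' : Z ≤ ⁅S1, S1⁆
  hZ2 : ∀ z ∈ Z, z * z = 1
  hZ4 : ∃ b ∈ Z, ∃ b' ∈ Z, b ≠ 1 ∧ b' ≠ 1 ∧ b ≠ b'
  hZn : ∀ l ∈ S0, ∀ z ∈ Z, l * z * l⁻¹ ∈ Z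
  /-- all involutions of `w S2` are conjugate -/
  hilb : Hilb S0 N S2 t
  /-- elements of `S0` over involutory types can be corrected to involutions -/
  split : ∀ x ∈ S0, x ∉ N → x * x ∈ N → x * (t * x * t) ∈ N → ∃ n ∈ N, x * n * (x * n) = 1
  /-- (M3') -/
  M3 : ∀ y (hyS : y ∈ S0), y * y = 1 → y * t = t * y → y ∉ N →
    ∀ g : G, g⁻¹ * t * g ∈ (P : Subgroup G) → g⁻¹ * y * g ∈ (P : Subgroup G) →
      ∃ (h : g⁻¹ * y * g ∈ S0) (h' : t * (g⁻¹ * y * g) * t ∈ S0),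
        ψ ⟨_, h⟩ = ψ ⟨y, hyS⟩ ∧ ψ ⟨_, h'⟩ = ψ ⟨y, hyS⟩
  /-- the table -/
  tab : ∀ y (hyS : y ∈ S0), y * y = 1 → y * t = t * y → y ∉ N →
    ∃ B : Subgroup A, ψ ⟨y, hyS⟩ ∉ B ∧ ∀ g ∈ E, ∀ (h : g⁻¹ * y * g ∈ S0) (h' : t * (g⁻¹ * y * g) * t ∈ S0),
      ψ ⟨_, h⟩ * ψ ⟨_, h'⟩ ∉ B → (cen S0 y).map (MulAut.conj g⁻¹).toMonoidHom ≠ cen S0 (g⁻¹ * y * g)

namespace OutData

variable [Finite G] {P : Sylow 2 G} {S0 N S1 S2 E Z : Subgroup G} {t : G} {A : Type*} [CommGroup A] {ψ : S0 →* A}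

theorem ht0 (D : OutData P S0 N S1 S2 E Z t ψ) : t ∉ S0 := by
  have := D.F1 1
  intro h
  apply this
  simpa using h

theorem hti (D : OutData P S0 N S1 S2 E Z t ψ) : t⁻¹ = t := inv_eq_of_mul_eq_one_right D.ht

/-- `S0` is invariant under `t` -/
theorem htS (D : OutData P S0 N S1 S2 E Z t ψ) : ∀ x ∈ S0, t * x * t ∈ S0 := by
  intro x hx
  by_contra h
  have hxt : t * x ∉ S0 := fun h' => D.ht0 ((mul_mem_cancel_right hx).1 h')
  have htxP : t * x ∈ (P : Subgroup G) := mul_mem D.htP (D.swap.hS0 hx)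
  exact h (D.swap.hidx _ htxP _ D.htP hxt D.ht0)

/-- types of elements which commute with swapping elements -/
theorem type_comm (D : OutData P S0 N S1 S2 E Z t ψ) (u : G) (hu : u ∈ (P : Subgroup G)) (hu0 : u ∉ S0) (x : G)
    (hx : x ∈ S0) (hc : u * x = x * u) : ψ ⟨_, D.htS x hx⟩ = ψ ⟨x, hx⟩ := by
  have hs : t * u ∈ S0 := D.swap.hidx _ D.htP _ hu D.ht0 hu0
  have e : (⟨t * x * t, D.htS x hx⟩ : S0) = ⟨t * u, hs⟩ * ⟨x, hx⟩ * ⟨t * u, hs⟩⁻¹ := by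
    apply Subtype.ext
    show t * x * t = t * u * x * (t * u)⁻¹
    rw [mul_inv_rev, D.hti]
    calc t * x * t = t * (x * u) * u⁻¹ * t := by group
      _ = t * (u * x) * u⁻¹ * t := by rw [hc]
      _ = t * u * x * (u⁻¹ * t) := by group
  rw [e, map_mul, map_mul, map_inv, mul_comm (ψ ⟨t * u, hs⟩), mul_inv_cancel_right]

theorem mem_N (D : OutData P S0 N S1 S2 E Z t ψ) {x : G} (hx : x ∈ S0) :
    x ∈ N ↔ ψ ⟨x, hx⟩ = 1 ∧ ψ ⟨_, D.htS x hx⟩ = 1 := D.hN x hx _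

/-- an involution with equal types -/
theorem sym_mem (D : OutData P S0 N S1 S2 E Z t ψ) {x : G} (hx : x ∈ S0) (hx2 : x * x ∈ N)
    (he : ψ ⟨_, D.htS x hx⟩ = ψ ⟨x, hx⟩) : x * (t * x * t) ∈ N := by
  have h2 := (D.mem_N (mul_mem hx hx)).1 hx2
  have e1 : ψ ⟨x, hx⟩ * ψ ⟨x, hx⟩ = 1 := by
    rw [← h2.1, ← map_mul]; rfl
  rw [D.mem_N (mul_mem hx (D.htS x hx))]
  constructor
  · have : (⟨x * (t * x * t), mul_mem hx (D.htS x hx)⟩ : S0) = ⟨x, hx⟩ * ⟨_, D.htS x hx⟩ := rfl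
    rw [this, map_mul, he, e1]
  · have : (⟨t * (x * (t * x * t)) * t, D.htS _ (mul_mem hx (D.htS x hx))⟩ : S0) = ⟨_, D.htS x hx⟩ * ⟨x, hx⟩ := by
      apply Subtype.ext
      show t * (x * (t * x * t)) * t = t * x * t * x
      calc t * (x * (t * x * t)) * t = t * x * t * x * (t * t) := by group
        _ = t * x * t * x := by rw [D.ht, mul_one]
    rw [this, map_mul, he, e1]

theorem comm_mem (D : OutData P S0 N S1 S2 E Z t ψ) (a : G) (ha : a ∈ S0) (b : G) (hb : b ∈ S0) : ⁅a, b⁆ ∈ N := by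
  have hab : ⁅a, b⁆ ∈ S0 := by
    rw [commutatorElement_def]
    exact mul_mem (mul_mem (mul_mem ha hb) (inv_mem ha)) (inv_mem hb)
  rw [D.mem_N hab]
  constructor
  · have : (⟨⁅a, b⁆, hab⟩ : S0) = ⁅(⟨a, ha⟩ : S0), ⟨b, hb⟩⁆ := rfl
    rw [this, map_commutatorElement]
    exact commutatorElement_eq_one_iff_mul_comm.2 (mul_comm _ _)
  · have : (⟨t * ⁅a, b⁆ * t, D.htS _ hab⟩ : S0) =
        ⁅(⟨t * a * t, D.htS a ha⟩ : S0), ⟨t * b * t, D.htS b hb⟩⁆ := by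
      apply Subtype.ext
      show t * ⁅a, b⁆ * t = ⁅t * a * t, t * b * t⁆
      rw [commutatorElement_def, commutatorElement_def]
      calc t * (a * b * a⁻¹ * b⁻¹) * t
          = t * (a * b * a⁻¹ * b⁻¹) * t⁻¹ := by rw [D.hti]
        _ = (t * a * t⁻¹) * (t * b * t⁻¹) * (t * a * t⁻¹)⁻¹ * (t * b * t⁻¹)⁻¹ := by group
        _ = (t * a * t) * (t * b * t) * (t * a * t)⁻¹ * (t * b * t)⁻¹ := by rw [D.hti]
    rw [this, map_commutatorElement]
    exact commutatorElement_eq_one_iff_mul_comm.2 (mul_comm _ _)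

theorem transfer_t (D : OutData P S0 N S1 S2 E Z t ψ) :
    MonoidHom.transfer (sgn (P : Subgroup G) S0 D.swap.hidx) t = -1 :=
  transfer_sgn_t D.swap.hidx D.ht D.htP (fun g _ => D.F1 g)

theorem not_mem (D : OutData P S0 N S1 S2 E Z t ψ) : t ∉ E := not_mem_of_transfer D.transfer_t D.hE

/-- **`S0 ≤ E`** -/
theorem le (D : OutData P S0 N S1 S2 E Z t ψ) : S0 ≤ E := by
  refine le_of_data D.swap D.ht D.htP D.F1 D.hE D.hGE D.comm_mem D.hZ1 D.hZc D.hZ' D.hZ2 D.hZ4 D.hZn ?_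
  intro w hw hwN hw2 u hu hu0 hc
  refine hO_of_hilb D.swap D.norm D.ht D.htP D.ht0 D.hilb hw hwN hw2 ?_
  exact D.sym_mem hw (by rw [hw2]; exact one_mem N) (D.type_comm u hu hu0 w hw hc)

/-- an element of `S0 ∖ N` with square in `N` and equal types -/
theorem exists_sym (D : OutData P S0 N S1 S2 E Z t ψ) (hne : S0 ≠ N) :
    ∃ x ∈ S0, x ∉ N ∧ x * x ∈ N ∧ x * (t * x * t) ∈ N := by
  obtain ⟨x, hx, hxN⟩ : ∃ x ∈ S0, x ∉ N := by
    by_contra h
    push Not at h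
    exact hne (le_antisymm h D.swap.hNS)
  -- powers: from a symmetric element outside `N` to one with square in `N`
  have key : ∀ z ∈ S0, z ∉ N → (∀ k : ℕ, z ^ 2 ^ k * z ^ 2 ^ k ∈ N → (z ^ 2 ^ k) * (t * z ^ 2 ^ k * t) ∈ N) →
      ∃ x ∈ S0, x ∉ N ∧ x * x ∈ N ∧ x * (t * x * t) ∈ N := by
    intro z hz hzN hsym
    obtain ⟨k, hk⟩ := P.isPGroup' ⟨z, D.swap.hS0 hz⟩
    have hk' : z ^ 2 ^ k = 1 := congrArg Subtype.val hk
    have hkN : z ^ 2 ^ k ∈ N := by rw [hk']; exact one_mem N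
    clear hk hk'
    induction k with
    | zero => exact absurd (by simpa using hkN) hzN
    | succ k ih =>
      by_cases h : z ^ 2 ^ k ∈ N
      · exact ih h
      · have h2 : z ^ 2 ^ k * z ^ 2 ^ k ∈ N := by
          rw [← pow_add, ← two_mul, ← pow_succ']; exact hkN
        exact ⟨z ^ 2 ^ k, pow_mem hz _, h, h2, hsym k h2⟩
  have htt : ∀ x : G, t * (t * x * t) * t = x := by
    intro x
    calc t * (t * x * t) * t = (t * t) * x * (t * t) := by group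
      _ = x := by rw [D.ht]; group
  by_cases hx' : x * (t * x * t) ∈ N
  · refine key x hx hxN (fun k _ => ?_)
    -- types `(a, a⁻¹)`
    have h1 := (D.mem_N (mul_mem hx (D.htS x hx))).1 hx'
    have e1 : ψ ⟨x, hx⟩ * ψ ⟨_, D.htS x hx⟩ = 1 := by rw [← map_mul]; exact h1.1
    have hpt : ∀ n : ℕ, t * x ^ n * t = (t * x * t) ^ n := by
      intro n
      have := conj_pow (i := n) (a := t) (b := x)
      rw [D.hti] at this
      exact this.symm
    have hp1 : ∀ n : ℕ, ψ ⟨x ^ n, pow_mem hx n⟩ = ψ ⟨x, hx⟩ ^ n := by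
      intro n; rw [← map_pow]; rfl
    have hp2 : ∀ n : ℕ, ψ ⟨t * x ^ n * t, D.htS _ (pow_mem hx n)⟩ = ψ ⟨_, D.htS x hx⟩ ^ n := by
      intro n
      rw [← map_pow]
      congr 1
      exact Subtype.ext (hpt n)
    rw [D.mem_N (mul_mem (pow_mem hx _) (D.htS _ (pow_mem hx _)))]
    constructor
    · have : (⟨x ^ 2 ^ k * (t * x ^ 2 ^ k * t), mul_mem (pow_mem hx _) (D.htS _ (pow_mem hx _))⟩ : S0) =
          ⟨x ^ 2 ^ k, pow_mem hx _⟩ * ⟨t * x ^ 2 ^ k * t, D.htS _ (pow_mem hx _)⟩ := rfl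
      rw [this, map_mul, hp1, hp2, ← mul_pow, e1, one_pow]
    · have : (⟨t * (x ^ 2 ^ k * (t * x ^ 2 ^ k * t)) * t,
          D.htS _ (mul_mem (pow_mem hx _) (D.htS _ (pow_mem hx _)))⟩ : S0) =
          ⟨t * x ^ 2 ^ k * t, D.htS _ (pow_mem hx _)⟩ * ⟨x ^ 2 ^ k, pow_mem hx _⟩ := by
        apply Subtype.ext
        show t * (x ^ 2 ^ k * (t * x ^ 2 ^ k * t)) * t = t * x ^ 2 ^ k * t * x ^ 2 ^ k
        calc t * (x ^ 2 ^ k * (t * x ^ 2 ^ k * t)) * t = t * x ^ 2 ^ k * t * x ^ 2 ^ k * (t * t) := by group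
          _ = t * x ^ 2 ^ k * t * x ^ 2 ^ k := by rw [D.ht, mul_one]
      rw [this, map_mul, hp1, hp2, ← mul_pow, mul_comm, e1, one_pow]
  · -- `z = x (t x t)` is symmetric
    obtain ⟨z, hzdef⟩ : ∃ z, z = x * (t * x * t) := ⟨_, rfl⟩
    have hz : z ∈ S0 := by rw [hzdef]; exact mul_mem hx (D.htS x hx)
    rw [← hzdef] at hx'
    have hpt : ∀ n : ℕ, t * z ^ n * t = (t * z * t) ^ n := by
      intro n
      have := conj_pow (i := n) (a := t) (b := z)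
      rw [D.hti] at this
      exact this.symm
    have hzt : ψ ⟨_, D.htS z hz⟩ = ψ ⟨z, hz⟩ := by
      have e1 : (⟨_, D.htS z hz⟩ : S0) = ⟨_, D.htS x hx⟩ * ⟨x, hx⟩ := by
        apply Subtype.ext
        show t * z * t = t * x * t * x
        rw [hzdef]
        calc t * (x * (t * x * t)) * t = t * x * t * x * (t * t) := by group
          _ = t * x * t * x := by rw [D.ht, mul_one]
      have e2 : (⟨z, hz⟩ : S0) = ⟨x, hx⟩ * ⟨_, D.htS x hx⟩ := Subtype.ext hzdef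
      rw [e1, e2, map_mul, map_mul, mul_comm]
    refine key z hz hx' (fun k hk => D.sym_mem (pow_mem hz _) hk ?_)
    have e1 : (⟨_, D.htS _ (pow_mem hz (2 ^ k))⟩ : S0) = ⟨_, D.htS z hz⟩ ^ 2 ^ k := Subtype.ext (hpt _)
    have e2 : (⟨_, pow_mem hz (2 ^ k)⟩ : S0) = ⟨z, hz⟩ ^ 2 ^ k := rfl
    rw [e1, e2, map_pow, map_pow, hzt]

/-- an involution `y ∈ S0 ∖ N` commuting with `t` -/
theorem exists_inv (D : OutData P S0 N S1 S2 E Z t ψ) (hne : S0 ≠ N) :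
    ∃ y ∈ S0, y ∉ N ∧ y * y = 1 ∧ y * t = t * y := by
  obtain ⟨x, hx, hxN, hx2, hxt⟩ := D.exists_sym hne
  obtain ⟨n, hn, hxn⟩ := D.split x hx hxN hx2 hxt
  have hnS : n ∈ S0 := D.swap.hNS hn
  have hw : x * n ∈ S0 := mul_mem hx hnS
  have hwN : x * n ∉ N := fun h => hxN ((mul_mem_cancel_right hn).1 h)
  -- types of `x n` are those of `x`
  have h1 := (D.mem_N hnS).1 hn
  have h2 := (D.mem_N (mul_mem hx (D.htS x hx))).1 hxt
  have h3 := (D.mem_N (mul_mem hx hx)).1 hx2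
  have e1 : ψ ⟨x * n, hw⟩ = ψ ⟨x, hx⟩ := by
    have : (⟨x * n, hw⟩ : S0) = ⟨x, hx⟩ * ⟨n, hnS⟩ := rfl
    rw [this, map_mul, h1.1, mul_one]
  have e2 : ψ ⟨_, D.htS _ hw⟩ = ψ ⟨_, D.htS x hx⟩ := by
    have : (⟨_, D.htS _ hw⟩ : S0) = ⟨_, D.htS x hx⟩ * ⟨_, D.htS n hnS⟩ := by
      apply Subtype.ext
      show t * (x * n) * t = t * x * t * (t * n * t)
      calc t * (x * n) * t = t * x * (t * t) * n * t := by rw [D.ht]; group
        _ = t * x * t * (t * n * t) := by group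
    rw [this, map_mul, h1.2, mul_one]
  have e3 : ψ ⟨_, D.htS x hx⟩ = ψ ⟨x, hx⟩ := by
    have a1 : ψ ⟨x, hx⟩ * ψ ⟨_, D.htS x hx⟩ = 1 := by rw [← map_mul]; exact h2.1
    have a2 : ψ ⟨x, hx⟩ * ψ ⟨x, hx⟩ = 1 := by rw [← map_mul]; exact h3.1
    exact mul_left_cancel (a1.trans a2.symm)
  have hwt : (x * n) * (t * (x * n) * t) ∈ N :=
    D.sym_mem hw (by rw [hxn]; exact one_mem N) (by rw [e1, e2, e3])
  obtain ⟨v, hv, -, hv2, hvt⟩ := exists_y D.swap D.norm D.ht D.htP D.ht0 hw hxn hwt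
  have hvN := D.swap.h2N hv
  exact ⟨x * n * v, mul_mem hw (D.swap.hNS hvN), fun h => hwN ((mul_mem_cancel_right hvN).1 h), hv2, hvt⟩

/-- **`P ∩ E = N`** -/
theorem inf_eq (D : OutData P S0 N S1 S2 E Z t ψ) : (P : Subgroup G) ⊓ E = N := by
  have := D.hEn
  refine inf_eq_tableB D.swap.hS0 D.swap.hidx D.ht D.htP D.not_mem D.hE D.le ψ D.htS D.type_comm ?_
  intro hne
  obtain ⟨y, hyS, hyN, hy2, hyt⟩ := D.exists_inv hne
  obtain ⟨B, hB, htab⟩ := D.tab y hyS hy2 hyt hyN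
  refine ⟨y, hyS, hy2, hyt, ?_, ?_, B, hB, fun g hg h => htab g hg h _⟩
  · intro g hgt hgy
    obtain ⟨h, h', e1, e2⟩ := D.M3 y hyS hy2 hyt hyN g hgt hgy
    exact ⟨h, e1, e2⟩
  · intro w hw hw2 e1 e2
    have hyty : t * y * t = y := by rw [← hyt, mul_assoc, D.ht, mul_one]
    have hψyt : ψ ⟨_, D.htS y hyS⟩ = ψ ⟨y, hyS⟩ := by
      congr 1; exact Subtype.ext hyty
    have hyw : y⁻¹ * w ∈ N := by
      rw [D.mem_N (mul_mem (inv_mem hyS) hw)]
      constructor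
      · have : (⟨y⁻¹ * w, mul_mem (inv_mem hyS) hw⟩ : S0) = ⟨y, hyS⟩⁻¹ * ⟨w, hw⟩ := rfl
        rw [this, map_mul, map_inv, e1, inv_mul_cancel]
      · have : (⟨_, D.htS _ (mul_mem (inv_mem hyS) hw)⟩ : S0) = ⟨_, D.htS y hyS⟩⁻¹ * ⟨_, D.htS w hw⟩ := by
          apply Subtype.ext
          show t * (y⁻¹ * w) * t = (t * y * t)⁻¹ * (t * w * t)
          rw [mul_inv_rev, mul_inv_rev, D.hti]
          calc t * (y⁻¹ * w) * t = t * y⁻¹ * (t * t) * w * t := by rw [D.ht]; group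
            _ = t * (y⁻¹ * t) * (t * w * t) := by group
        rw [this, map_mul, map_inv, hψyt, e2, inv_mul_cancel]
    obtain ⟨b, hb, hbe⟩ := conj_of_hilb D.swap D.norm D.ht D.htP D.ht0 D.hilb hyS hyN hy2 hyt hw2 hyw
    have hbP : b ∈ (P : Subgroup G) := D.swap.hS0 (D.swap.hNS hb)
    rw [← card_conj (cen (P : Subgroup G) w) b⁻¹]
    refine Subgroup.card_le_of_le ?_
    intro x hx
    rw [mem_map_conj, inv_inv] at hx
    obtain ⟨h1, h2⟩ := mem_cen.1 hx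
    refine mem_cen.2 ⟨?_, ?_⟩
    · have : x = b * (b⁻¹ * x * b) * b⁻¹ := by group
      rw [this]
      exact mul_mem (mul_mem hbP h1) (inv_mem hbP)
    · rw [← hbe] at h2
      calc x * y = b * ((b⁻¹ * x * b) * (b⁻¹ * y * b)) * b⁻¹ := by group
        _ = b * ((b⁻¹ * y * b) * (b⁻¹ * x * b)) * b⁻¹ := by rw [h2]
        _ = y * x := by group

end OutData

end Cfsg.Agent.StdRank2.OutSplit
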