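import Cfsg.Agent.StdRank2.OutSplit.UEnd

/-!
# The split case of `U₄(q)`, `U₅(q)`: the order of the Sylow 2-subgroup of `L`
-/

set_option autoImplicit false
set_option linter.unusedSectionVars false

namespace Cfsg.Agent.StdRank2.OutSplit.UEnd

open Subgroup
open Cfsg Cfsg.Agent.StdEven.Syl Cfsg.Agent.StdEven.Loc Cfsg.Agent.StdL2.Setup Cfsg.Agent.SwapEnd
open Cfsg.Agent.TitsThree.B2Pkg Cfsg.Agent.TitsThree.RankTwoIdentB2
  Cfsg.Agent.TitsThree.CoreB2 Cfsg.Agent.TitsThree.RankTwoIdx Cfsg.Agent.TitsThree.RankTwoRGD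
  Cfsg.Agent.TitsThree.StdData
open Cfsg.Agent.StdRank2.OddLift Cfsg.Agent.StdRank2.B2Lift Cfsg.Agent.StdRank2.B2Std
  Cfsg.Agent.StdRank2.B2Torus Cfsg.Agent.StdRank2.B2Act Cfsg.Agent.StdRank2.B2Act.Std
  Cfsg.Agent.StdRank2.B2Par Cfsg.Agent.StdRank2.B2Par.Std Cfsg.Agent.StdRank2.B2Self
  Cfsg.Agent.StdRank2.B2Amb
open Cfsg.Agent.StdRank2.OutB2Par Cfsg.Agent.StdRank2.OutB2G Cfsg.Agent.StdRank2.OutB2Aut
  Cfsg.Agent.StdRank2.OutB2Tw Cfsg.Agent.StdRank2.OutB2Data Cfsg.Agent.StdRank2.OutB2Inv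
open Cfsg.Agent.StdRank2.UStart (UDat WS WG Fx T_ext isSyl_UG)
open Cfsg.Agent.StdRank2.UFour (Bar)

universe u

section gen

variable {F : Type*} [Field F] {V : Type*} [AddCommGroup V] [Module F V] {D : PQDatum F V}
variable [Finite F] [CharP F 2]
variable {G : Type u} [Group G] [Finite G] {L A M : Subgroup G} {t : G} {N : FData D}

theorem card_UG (S : Std D ↥A) : Nat.card (UG S) = Nat.card F ^ 2 * Nat.card D.T ^ 2 := by
  rw [← S.card_U]
  exact (Nat.card_congr (S.U.equivMapOfInjective A.subtype A.subtype_injective).toEquiv).symm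

/-- **The Sylow 2-subgroup of `L`.** -/
theorem exists_isSyl_sup (C : Conf L A t) (Sw : Swap M t) (Di : Swap.Dia Sw A) (S : Std D ↥A) [Finite D.T]
    (hN : Ty.{u} N) (hD : UDat D) (hcard : Nat.card D.T ≠ Nat.card F) (hq : 4 ≤ Nat.card (Fx D)) :
    ∃ S' : Std D ↥M, IsSyl (UG S' ⊔ U2 S' t) L ∧ IsSyl (UG S') M := by
  have hZ := odd_center_M Sw C Di
  obtain ⟨P, S', cfg, -⟩ := exists_cfg Sw Di C hN hcard (liftStd (cov_dgA Sw Di C) (comm_M Sw) S)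
  exact ⟨S', isSyl_L Sw Di C cfg hD hq hN, isSyl_UG hN.scal hZ S'⟩

theorem card_sup_le (Sw : Swap M t) (S : Std D ↥M) :
    Nat.card (UG S ⊔ U2 S t : Subgroup G) ≤ (Nat.card F ^ 2 * Nat.card D.T ^ 2) ^ 2 := by
  have hc12 : ∀ a ∈ UG S, ∀ b ∈ U2 S t, a * b = b * a := fun a ha b hb =>
    Sw.commM (UG_le S ha) (u2_le Sw hb)
  have h1 : Nat.card (UG S ⊔ U2 S t : Subgroup G) ≤ Nat.card (UG S × U2 S t) := by
    refine Nat.card_le_card_of_surjective (fun z : UG S × U2 S t =>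
      (⟨z.1 * z.2, mul_mem (mem_sup_left z.1.2) (mem_sup_right z.2.2)⟩ : (UG S ⊔ U2 S t : Subgroup G))) ?_
    rintro ⟨x, hx⟩
    obtain ⟨a, ha, b, hb, rfl⟩ := (mem_sup_comm hc12).1 hx
    exact ⟨(⟨a, ha⟩, ⟨b, hb⟩), rfl⟩
  have h2 : Nat.card (U2 S t) = Nat.card (UG S) := card_conj_t _
  rw [Nat.card_prod, h2, card_UG] at h1
  rwa [pow_two]

/-- **the order of a Sylow 2-subgroup of `L`** -/
theorem exists_isSyl_card (C : Conf L A t) (Sw : Swap M t) (Di : Swap.Dia Sw A) (S : Std D ↥A) [Finite D.T]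
    (hN : Ty.{u} N) (hD : UDat D) (hcard : Nat.card D.T ≠ Nat.card F) (hq : 4 ≤ Nat.card (Fx D)) :
    ∃ Y : Subgroup G, IsSyl Y L ∧ Nat.card Y ≤ (Nat.card F ^ 2 * Nat.card D.T ^ 2) ^ 2 := by
  obtain ⟨S', h, -⟩ := exists_isSyl_sup C Sw Di S hN hD hcard hq
  exact ⟨_, h, card_sup_le Sw S'⟩

theorem four_le (hD : UDat D) (hF : 16 ≤ Nat.card F) : 4 ≤ Nat.card (Fx D) := by
  have h1 := UStart.card_Fx hD
  by_contra h
  push Not at h
  nlinarith

end gen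

section std

variable {F : Type*} [Field F] [Finite F] [CharP F 2] {B : Bar F}
variable {G : Type u} [Group G] [Finite G] {L A M : Subgroup G} {t : G}

theorem card_T0_le : Nat.card (stdU0 F B.s B.invol).T ≤ Nat.card (Fx (stdU0 F B.s B.invol)) := by
  apply Nat.card_le_card_of_injective
    (fun p => (⟨p.c, (UStart.udat0 B).σ_c (Subsingleton.elim _ _)⟩ : Fx (stdU0 F B.s B.invol)))
  intro p q h
  exact T_ext (Subsingleton.elim _ _) (congrArg Subtype.val h)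

theorem finite_T0 : Finite (stdU0 F B.s B.invol).T :=
  Finite.of_injective (fun p => p.c) fun p q h => T_ext (Subsingleton.elim _ _) h

/-- **Split case of `U₄(q)`** : `|Sylow of L| ≤ |F|⁶` -/
theorem exists_isSyl_U4 (hF : 16 ≤ Nat.card F) (C : Conf L A t) (Sw : Swap M t) (Di : Swap.Dia Sw A)
    (S : Std (stdU0 F B.s B.invol) ↥A) : ∃ Y : Subgroup G, IsSyl Y L ∧ Nat.card Y ≤ Nat.card F ^ 6 := by
  have hD := UStart.udat0 B
  have := finite_T0 (B := B)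
  obtain ⟨Y, hY, hc⟩ := exists_isSyl_card C Sw Di S
    (tyU0 B.s B.invol (UStart.s_ne_one B) (by omega)) hD (UStart.card_T0 B) (four_le hD hF)
  refine ⟨Y, hY, hc.trans ?_⟩
  have h1 := card_T0_le (B := B)
  have h2 := UStart.card_Fx hD
  have h3 : Nat.card (stdU0 F B.s B.invol).T ^ 2 ≤ Nat.card F := by
    rw [← h2, pow_two]
    exact Nat.mul_le_mul h1 h1
  calc (Nat.card F ^ 2 * Nat.card (stdU0 F B.s B.invol).T ^ 2) ^ 2 ≤ (Nat.card F ^ 2 * Nat.card F) ^ 2 :=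
        Nat.pow_le_pow_left (Nat.mul_le_mul_left _ h3) 2
    _ = Nat.card F ^ 6 := by ring

theorem card_T1_le : Nat.card (stdU1 F B.s B.invol).T ≤ Nat.card F * Nat.card (Fx (stdU1 F B.s B.invol)) := by
  have hD := UStart.udat1 B
  have h1 : ∀ w : F, ∃ q : (stdU1 F B.s B.invol).T, q.w = w := exists_w B.s B.invol (UStart.s_ne_one B)
  choose g hg using h1
  rw [← Nat.card_prod]
  have hw : ∀ p : (stdU1 F B.s B.invol).T, ((g p.w)⁻¹ * p).w = 0 := by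
    intro p
    rw [PQDatum.T.mul_w, PQDatum.T.inv_w, hg]
    show -p.w + p.w = 0
    ring
  apply Nat.card_le_card_of_injective (fun p : (stdU1 F B.s B.invol).T =>
    ((p.w, ⟨((g p.w)⁻¹ * p).c, hD.σ_c (hw p)⟩) : F × Fx (stdU1 F B.s B.invol)))
  intro p q h
  have h2 : p.w = q.w := congrArg Prod.fst h
  have h3 : ((g p.w)⁻¹ * p).c = ((g q.w)⁻¹ * q).c :=
    congrArg (fun z : F × Fx (stdU1 F B.s B.invol) => (z.2 : F)) h
  have h4 : (g p.w)⁻¹ * p = (g q.w)⁻¹ * q := T_ext (by rw [hw, hw]) h3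
  rw [h2] at h4
  exact mul_left_cancel h4

/-- **Split case of `U₅(q)`** : `|Sylow of L| ≤ |F|¹⁰` -/
theorem exists_isSyl_U5 (hF : 16 ≤ Nat.card F) (C : Conf L A t) (Sw : Swap M t) (Di : Swap.Dia Sw A)
    (S : Std (stdU1 F B.s B.invol) ↥A) : ∃ Y : Subgroup G, IsSyl Y L ∧ Nat.card Y ≤ Nat.card F ^ 10 := by
  have hD := UStart.udat1 B
  obtain ⟨Y, hY, hc⟩ := exists_isSyl_card C Sw Di S
    (tyU1 B.s B.invol (UStart.s_ne_one B) (by omega)) hD (UStart.card_T1 B) (four_le hD hF)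
  refine ⟨Y, hY, hc.trans ?_⟩
  have h1 := card_T1_le (B := B)
  have h2 := UStart.card_Fx hD
  have h3 : Nat.card (stdU1 F B.s B.invol).T ^ 2 ≤ Nat.card F ^ 3 := by
    calc Nat.card (stdU1 F B.s B.invol).T ^ 2 ≤ (Nat.card F * Nat.card (Fx (stdU1 F B.s B.invol))) ^ 2 :=
          Nat.pow_le_pow_left h1 2
      _ = Nat.card F ^ 2 * (Nat.card (Fx (stdU1 F B.s B.invol)) * Nat.card (Fx (stdU1 F B.s B.invol))) := by ring
      _ = Nat.card F ^ 3 := by rw [h2]; ring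
  calc (Nat.card F ^ 2 * Nat.card (stdU1 F B.s B.invol).T ^ 2) ^ 2 ≤ (Nat.card F ^ 2 * Nat.card F ^ 3) ^ 2 :=
        Nat.pow_le_pow_left (Nat.mul_le_mul_left _ h3) 2
    _ = Nat.card F ^ 10 := by ring

end std

end Cfsg.Agent.StdRank2.OutSplit.UEnd
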