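import Cfsg.Agent.StdRank2.OutSplit.Group

set_option autoImplicit false

/-!
# The end of the split case with outer 2-elements: pairs of cosets interchanged by `t`

* `prod_fixed` : an invariant function with values of order `≤ 2` on a set with an action of a 2-group `R` has the same
  product as its restriction to the fixed points.
* `transfer_pairs` : the transfer of `φ : H → A` at an involution `y ∈ R ≤ L`, `R` a 2-group centralising `y`, `θ` an
  involutory automorphism of `L` normalising `H`, `R` and fixing `y`: the cosets which are not fixed by `θ` come in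
  pairs.
* `exists_pair` : `S0 = P ∩ E`, `E` perfect, `G = E ∪ t E`, `ψ : S0 → A`, `y ∈ C_{S0}(t)` an involution, `ψ y ≠ 1`: there
  is `g ∈ E`, `R ^ g ≤ S0`, with `ψ (y ^ g) * ψ (t * y ^ g * t) ≠ 1`.
-/

namespace Cfsg.Agent.StdRank2.OutSplit

open MulAction Subgroup Cfsg.Agent.StdEven.OuterKill

section Prod

open Classical in
theorem prod_fixed {X R A : Type*} [Fintype X] [Group R] [MulAction R X] [CommGroup A] (hR : IsPGroup 2 R)
    (f : X → A) (hinv : ∀ (r : R) (q : X), f (r • q) = f q) (hsq : ∀ q, f q ^ 2 = 1) :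
    ∏ q, f q = ∏ q ∈ Finset.univ.filter (fun q : X => ∀ r : R, r • q = q), f q := by
  have : Fact (Nat.Prime 2) := ⟨Nat.prime_two⟩
  set F : Finset X := Finset.univ.filter (fun q : X => ∀ r : R, r • q = q) with hF
  have h1 : ∏ q, f q = ∏ b ∈ Finset.univ.image f, b ^ (Finset.univ.filter (fun q => f q = b)).card :=
    Finset.prod_comp (fun a : A => a) f
  have h2 : ∏ q ∈ F, f q = ∏ b ∈ F.image f, b ^ (F.filter (fun q => f q = b)).card :=
    Finset.prod_comp (fun a : A => a) f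
  have h3 : ∏ b ∈ F.image f, b ^ (F.filter (fun q => f q = b)).card =
      ∏ b ∈ Finset.univ.image f, b ^ (F.filter (fun q => f q = b)).card := by
    refine Finset.prod_subset (Finset.image_subset_image (Finset.subset_univ _)) ?_
    intro b _ hb
    have : F.filter (fun q => f q = b) = ∅ := by
      rw [Finset.filter_eq_empty_iff]
      intro q hq he
      exact hb (Finset.mem_image.2 ⟨q, hq, he⟩)
    rw [this, Finset.card_empty, pow_zero]
  rw [h1, h2, h3]
  refine Finset.prod_congr rfl ?_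
  intro b hb
  obtain ⟨q0, _, hq0⟩ := Finset.mem_image.1 hb
  have hb2 : b ^ 2 = 1 := by rw [← hq0]; exact hsq q0
  let B : Type _ := {q : X // f q = b}
  let act : MulAction R B :=
    { smul := fun r q => ⟨r • q.1, by rw [hinv]; exact q.2⟩
      one_smul := fun q => Subtype.ext (one_smul R q.1)
      mul_smul := fun x y q => Subtype.ext (mul_smul x y q.1) }
  have hB := hR.card_modEq_card_fixedPoints B
  have hc1 : Nat.card B = (Finset.univ.filter (fun q => f q = b)).card := by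
    rw [Nat.card_eq_fintype_card]
    exact Fintype.card_subtype _
  have hc2 : Nat.card (fixedPoints R B) = (F.filter (fun q => f q = b)).card := by
    have e : fixedPoints R B ≃ {q : X // q ∈ F.filter (fun q => f q = b)} :=
      { toFun := fun q => ⟨q.1.1, Finset.mem_filter.2 ⟨Finset.mem_filter.2 ⟨Finset.mem_univ _,
          fun r => congrArg Subtype.val (q.2 r)⟩, q.1.2⟩⟩
        invFun := fun q => ⟨⟨q.1, (Finset.mem_filter.1 q.2).2⟩,
          fun r => Subtype.ext ((Finset.mem_filter.1 (Finset.mem_filter.1 q.2).1).2 r)⟩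
        left_inv := fun q => rfl
        right_inv := fun q => rfl }
    rw [Nat.card_congr e, Nat.card_eq_fintype_card, Fintype.card_coe]
  rw [hc1, hc2] at hB
  rw [← Nat.div_add_mod (Finset.univ.filter (fun q => f q = b)).card 2,
    ← Nat.div_add_mod (F.filter (fun q => f q = b)).card 2, pow_add, pow_add, pow_mul, pow_mul, hb2, one_pow, one_pow,
    hB]

end Prod

section Pairs

variable {L : Type*} [Group L]

/-- the map induced on cosets by an automorphism -/
def cosetMap {H : Subgroup L} (θ : L →* L) (hθ : ∀ x ∈ H, θ x ∈ H) : L ⧸ H → L ⧸ H :=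
  Quotient.map' θ (by
    intro a b h
    rw [QuotientGroup.leftRel_apply] at h ⊢
    rw [← map_inv, ← map_mul]
    exact hθ _ h)

theorem cosetMap_mk {H : Subgroup L} (θ : L →* L) (hθ : ∀ x ∈ H, θ x ∈ H) (g : L) :
    cosetMap θ hθ (g : L ⧸ H) = ((θ g : L) : L ⧸ H) := rfl

theorem transfer_pairs [Finite L] {A : Type*} [CommGroup A] {H : Subgroup L} (hodd : Odd H.index) (φ : H →* A)
    {y : L} (hy : y * y = 1) (hyH : y ∈ H) {R : Subgroup L} (hR : IsPGroup 2 R) (hyR : y ∈ R)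
    (hRy : ∀ r ∈ R, r * y = y * r) (θ : L →* L) (hθ2 : ∀ x, θ (θ x) = x) (hθH : ∀ x ∈ H, θ x ∈ H)
    (hθR : ∀ r ∈ R, θ r ∈ R) (hθy : θ y = y)
    (hfix : ∀ g : L, g⁻¹ * θ g ∈ H → (∀ r ∈ R, g⁻¹ * r * g ∈ H) →
      ∀ h : g⁻¹ * y * g ∈ H, φ ⟨_, h⟩ = φ ⟨y, hyH⟩)
    (hpair : ∀ g : L, g⁻¹ * θ g ∉ H → (∀ r ∈ R, g⁻¹ * r * g ∈ H) →
      ∀ (h : g⁻¹ * y * g ∈ H) (h' : θ (g⁻¹ * y * g) ∈ H), φ ⟨_, h⟩ * φ ⟨_, h'⟩ = 1) :
    MonoidHom.transfer φ y = φ ⟨y, hyH⟩ := by
  classical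
  have : Fact (Nat.Prime 2) := ⟨Nat.prime_two⟩
  have hyi : y⁻¹ = y := inv_eq_of_mul_eq_one_right hy
  have : Fintype (L ⧸ H) := Fintype.ofFinite _
  obtain ⟨f, hf, hprod⟩ := Cfsg.Agent.StdL3.OneParity.transfer_eq_prod_fixed H φ y hy
  set ω : A := φ ⟨y, hyH⟩ with hω
  have hω2 : ω ^ 2 = 1 := by
    rw [hω, ← map_pow]
    have : (⟨y, hyH⟩ : H) ^ 2 = 1 := Subtype.ext (by simp [pow_two, hy])
    rw [this, map_one]
  have hmem : ∀ g : L, y • (g : L ⧸ H) = (g : L ⧸ H) → g⁻¹ * y * g ∈ H := fun g hg => smul_coset_eq.1 hg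
  have hf2 : ∀ q : L ⧸ H, y • q = q → f q ^ 2 = 1 := by
    intro q hq
    obtain ⟨g, rfl⟩ := QuotientGroup.mk_surjective q
    rw [hf _ g rfl (hmem g hq), ← map_pow]
    have : (⟨g⁻¹ * y * g, hmem g hq⟩ : H) ^ 2 = 1 := by
      apply Subtype.ext
      show (g⁻¹ * y * g) ^ 2 = 1
      calc (g⁻¹ * y * g) ^ 2 = g⁻¹ * (y * y) * g := by rw [pow_two]; group
        _ = 1 := by rw [hy]; group
    rw [this, map_one]
  have hinv : ∀ r ∈ R, ∀ q : L ⧸ H, y • q = q → y • (r • q) = r • q ∧ f (r • q) = f q := by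
    intro r hr q hq
    have h1 : y • (r • q) = r • q := by rw [← mul_smul, ← hRy r hr, mul_smul, hq]
    refine ⟨h1, ?_⟩
    obtain ⟨g, rfl⟩ := QuotientGroup.mk_surjective q
    have h2 : r • (g : L ⧸ H) = ((r * g : L) : L ⧸ H) := by rw [MulAction.Quotient.smul_mk, smul_eq_mul]
    rw [h2] at h1 ⊢
    rw [hf _ g rfl (hmem g hq), hf _ (r * g) rfl (hmem _ h1)]
    congr 1
    apply Subtype.ext
    show (r * g)⁻¹ * y * (r * g) = g⁻¹ * y * g
    calc (r * g)⁻¹ * y * (r * g) = g⁻¹ * (r⁻¹ * (y * r)) * g := by group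
      _ = g⁻¹ * y * g := by rw [← hRy r hr]; group
  -- step 1: only the fixed points of `R` matter
  let X : Type _ := {q : L ⧸ H // y • q = q}
  let actX : MulAction R X :=
    { smul := fun r q => ⟨(r : L) • q.1, (hinv r r.2 q.1 q.2).1⟩
      one_smul := fun q => Subtype.ext (one_smul L q.1)
      mul_smul := fun x z q => Subtype.ext (mul_smul (x : L) (z : L) q.1) }
  have hp1 : ∏ q ∈ Finset.univ.filter (fun q : L ⧸ H => y • q = q), f q = ∏ q : X, f q.1 := by
    rw [← Finset.prod_subtype_eq_prod_filter]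
    apply Finset.prod_congr
    · ext x; simp
    · intro x _; rfl
  have hp2 := prod_fixed (X := X) hR (fun q : X => f q.1) (fun r q => (hinv r r.2 q.1 q.2).2) (fun q => hf2 q.1 q.2)
  have hp3 : ∏ q ∈ Finset.univ.filter (fun q : X => ∀ r : R, r • q = q), f q.1 =
      ∏ q ∈ Finset.univ.filter (fun q : L ⧸ H => ∀ r ∈ R, r • q = q), f q := by
    refine Finset.prod_bij (fun q _ => q.1) ?_ ?_ ?_ ?_
    · intro q hq
      have := (Finset.mem_filter.1 hq).2
      exact Finset.mem_filter.2 ⟨Finset.mem_univ _, fun r hr => congrArg Subtype.val (this ⟨r, hr⟩)⟩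
    · intro a _ b _ h; exact Subtype.ext h
    · intro q hq
      have hq' := (Finset.mem_filter.1 hq).2
      exact ⟨⟨q, hq' y hyR⟩, Finset.mem_filter.2 ⟨Finset.mem_univ _, fun r => Subtype.ext (hq' r r.2)⟩, rfl⟩
    · intro q _; rfl
  rw [hprod, hp1, hp2, hp3]
  -- step 2: `θ`
  set Y : Finset (L ⧸ H) := Finset.univ.filter (fun q : L ⧸ H => ∀ r ∈ R, r • q = q) with hY
  let Θ : L ⧸ H → L ⧸ H := cosetMap θ hθH
  have hΘΘ : ∀ q, Θ (Θ q) = q := by
    intro q
    obtain ⟨g, rfl⟩ := QuotientGroup.mk_surjective q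
    show ((θ (θ g) : L) : L ⧸ H) = _
    rw [hθ2]
  have hYmem : ∀ q, q ∈ Y ↔ ∀ r ∈ R, r • q = q := by
    intro q
    rw [hY, Finset.mem_filter]
    exact ⟨fun h => h.2, fun h => ⟨Finset.mem_univ _, h⟩⟩
  have hΘY : ∀ q ∈ Y, Θ q ∈ Y := by
    intro q hq
    rw [hYmem] at hq ⊢
    intro r hr
    obtain ⟨g, rfl⟩ := QuotientGroup.mk_surjective q
    have h1 := smul_coset_eq.1 (hq (θ r) (hθR r hr))
    have h2 := hθH _ h1
    rw [map_mul, map_mul, map_inv, hθ2] at h2
    exact smul_coset_eq.2 h2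
  have hfixΘ : ∀ g : L, Θ (g : L ⧸ H) = (g : L ⧸ H) ↔ g⁻¹ * θ g ∈ H := by
    intro g
    show ((θ g : L) : L ⧸ H) = (g : L ⧸ H) ↔ _
    rw [eq_comm, QuotientGroup.eq]
  rw [← Finset.prod_filter_mul_prod_filter_not Y (fun q => Θ q = q)]
  have hB : ∏ q ∈ Y.filter (fun q => ¬ Θ q = q), f q = 1 := by
    refine Finset.prod_involution (fun q _ => Θ q) ?_ ?_ ?_ ?_
    · intro q hq
      obtain ⟨hqY, hqΘ⟩ := Finset.mem_filter.1 hq
      obtain ⟨g, rfl⟩ := QuotientGroup.mk_surjective q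
      have hR1 := (hYmem _).1 hqY
      have hR2 : ∀ r ∈ R, g⁻¹ * r * g ∈ H := fun r hr => smul_coset_eq.1 (hR1 r hr)
      have h1 : g⁻¹ * y * g ∈ H := hR2 y hyR
      have h2 : θ (g⁻¹ * y * g) ∈ H := hθH _ h1
      have h3 := hpair g (fun h => hqΘ ((hfixΘ g).2 h)) hR2 h1 h2
      have e : θ (g⁻¹ * y * g) = (θ g)⁻¹ * y * θ g := by rw [map_mul, map_mul, map_inv, hθy]
      have h4 : f (Θ (g : L ⧸ H)) = φ ⟨θ (g⁻¹ * y * g), h2⟩ := by
        rw [hf (Θ (g : L ⧸ H)) (θ g) rfl (by rw [← e]; exact h2)]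
        congr 1
        exact Subtype.ext e.symm
      rw [hf _ g rfl h1]
      show _ * f (Θ (g : L ⧸ H)) = 1
      rw [h4]
      exact h3
    · intro q hq _
      exact (Finset.mem_filter.1 hq).2
    · intro q hq
      obtain ⟨hqY, hqΘ⟩ := Finset.mem_filter.1 hq
      refine Finset.mem_filter.2 ⟨hΘY q hqY, fun h => ?_⟩
      rw [hΘΘ] at h
      exact hqΘ h.symm
    · intro q _
      exact hΘΘ q
  rw [hB, mul_one]
  rw [Finset.prod_congr (g := fun _ => ω) rfl (by
    intro q hq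
    obtain ⟨hqY, hqΘ⟩ := Finset.mem_filter.1 hq
    obtain ⟨g, rfl⟩ := QuotientGroup.mk_surjective q
    have hR1 := (hYmem _).1 hqY
    have hR2 : ∀ r ∈ R, g⁻¹ * r * g ∈ H := fun r hr => smul_coset_eq.1 (hR1 r hr)
    rw [hf _ g rfl (hR2 y hyR)]
    exact hfix g ((hfixΘ g).1 hqΘ) hR2 _), Finset.prod_const]
  -- the number of cosets fixed by `R` and `θ` is odd
  have hodd2 : Odd (Y.filter (fun q => Θ q = q)).card := by
    have h1 := hR.card_modEq_card_fixedPoints (L ⧸ H)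
    have h2 : Nat.card (fixedPoints R (L ⧸ H)) = Y.card := by
      have e : fixedPoints R (L ⧸ H) ≃ {q // q ∈ Y} :=
        { toFun := fun q => ⟨q.1, (hYmem _).2 (fun r hr => q.2 ⟨r, hr⟩)⟩
          invFun := fun q => ⟨q.1, fun r => (hYmem _).1 q.2 r r.2⟩
          left_inv := fun q => rfl
          right_inv := fun q => rfl }
      rw [Nat.card_congr e, Nat.card_eq_fintype_card, Fintype.card_coe]
    have h3 : Odd Y.card := by
      rw [← h2, Nat.odd_iff, ← h1, ← Nat.odd_iff]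
      exact hodd
    have h4 := card_mod_two (α := {q // q ∈ Y}) (fun q => ⟨Θ q.1, hΘY _ q.2⟩) (fun q => Subtype.ext (hΘΘ q.1))
    rw [Fintype.card_coe] at h4
    have h5 : Fintype.card {x : {q // q ∈ Y} // (fun q : {q // q ∈ Y} => (⟨Θ q.1, hΘY _ q.2⟩ : {q // q ∈ Y})) x = x} =
        (Y.filter (fun q => Θ q = q)).card := by
      have e : {x : {q // q ∈ Y} // (fun q : {q // q ∈ Y} => (⟨Θ q.1, hΘY _ q.2⟩ : {q // q ∈ Y})) x = x} ≃
          {q // q ∈ Y.filter (fun q => Θ q = q)} :=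
        { toFun := fun q => ⟨q.1.1, Finset.mem_filter.2 ⟨q.1.2, congrArg Subtype.val q.2⟩⟩
          invFun := fun q => ⟨⟨q.1, (Finset.mem_filter.1 q.2).1⟩, Subtype.ext (Finset.mem_filter.1 q.2).2⟩
          left_inv := fun q => rfl
          right_inv := fun q => rfl }
      rw [Fintype.card_congr e, Fintype.card_coe]
    rw [h5] at h4
    rw [Nat.odd_iff, ← h4]
    exact Nat.odd_iff.1 h3
  obtain ⟨k, hk⟩ := hodd2
  rw [hk, pow_succ, pow_mul, hω2, one_pow, one_mul]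

end Pairs

variable {G : Type*} [Group G]

/-- **Pairs.** `S0 = P ∩ E`, `ψ : S0 → A`, `y ∈ S0` an involution centralised by `t` with `ψ y ≠ 1`, `R` a 2-subgroup of `E`
centralising `y`, normalised by `t`, `y ∈ R`. If the cosets fixed by `t` have the value `ψ y`, there is `g ∈ E` with
`R ^ g ≤ S0`, `t ^ g ∉ P`, and `ψ (y ^ g) * ψ (t * y ^ g * t) ≠ 1`. -/
theorem exists_pair [Finite G] {A : Type*} [CommGroup A] {P : Sylow 2 G} {E S0 : Subgroup G} [E.Normal]
    (hE : commutator E = ⊤) (hinf : (P : Subgroup G) ⊓ E = S0) {t : G} (ht : t * t = 1) (htP : t ∈ (P : Subgroup G))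
    (ψ : S0 →* A) {y : G} (hy : y * y = 1) (hyS : y ∈ S0) (hyt : y * t = t * y) (hψ : ψ ⟨y, hyS⟩ ≠ 1)
    {R : Subgroup G} (hR : IsPGroup 2 R) (hRE : R ≤ E) (hyR : y ∈ R) (hRy : ∀ r ∈ R, r * y = y * r)
    (hRt : ∀ r ∈ R, t * r * t ∈ R)
    (hM : ∀ g ∈ E, g⁻¹ * t * g ∈ (P : Subgroup G) → (∀ r ∈ R, g⁻¹ * r * g ∈ S0) →
      ∀ h : g⁻¹ * y * g ∈ S0, ψ ⟨_, h⟩ = ψ ⟨y, hyS⟩) :
    ∃ g ∈ E, (∀ r ∈ R, g⁻¹ * r * g ∈ S0) ∧ g⁻¹ * t * g ∉ (P : Subgroup G) ∧
      ∃ (h : g⁻¹ * y * g ∈ S0) (h' : t * (g⁻¹ * y * g) * t ∈ S0), ψ ⟨_, h⟩ * ψ ⟨_, h'⟩ ≠ 1 := by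
  by_contra hcon
  push Not at hcon
  have hti : t⁻¹ = t := inv_eq_of_mul_eq_one_right ht
  have hmemS : ∀ x, x ∈ S0 ↔ x ∈ (P : Subgroup G) ∧ x ∈ E := fun x => by rw [← hinf, mem_inf]
  have hyE : y ∈ E := ((hmemS y).1 hyS).2
  have hyP : y ∈ (P : Subgroup G) := ((hmemS y).1 hyS).1
  have hEn : ∀ x ∈ E, t * x * t ∈ E := by
    intro x hx
    have := (inferInstance : E.Normal).conj_mem x hx t
    rwa [hti] at this
  let H : Subgroup E := (P : Subgroup G).subgroupOf E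
  let ι : H →* S0 :=
    { toFun := fun x => ⟨((x : E) : G), (hmemS _).2 ⟨mem_subgroupOf.1 x.2, x.1.2⟩⟩
      map_one' := rfl
      map_mul' := fun _ _ => rfl }
  have hyH : (⟨y, hyE⟩ : E) ∈ H := mem_subgroupOf.2 hyP
  have hR' : IsPGroup 2 (R.subgroupOf E) := hR.comap_of_injective E.subtype E.subtype_injective
  let θ : E →* E :=
    { toFun := fun x => ⟨t * x * t, hEn x x.2⟩
      map_one' := Subtype.ext (by show t * ((1 : E) : G) * t = 1; rw [OneMemClass.coe_one, mul_one, ht])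
      map_mul' := fun a b => Subtype.ext (by
        show t * ((a : G) * b) * t = t * a * t * (t * b * t)
        calc t * ((a : G) * b) * t = t * a * (t * t) * b * t := by rw [ht]; group
          _ = t * a * t * (t * b * t) := by group) }
  have hconj2 : ∀ x : G, t * (t * x * t) * t = x := by
    intro x
    calc t * (t * x * t) * t = (t * t) * x * (t * t) := by group
      _ = x := by rw [ht]; group
  have hP : ∀ x ∈ (P : Subgroup G), t * x * t ∈ (P : Subgroup G) := fun x hx => mul_mem (mul_mem htP hx) htP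
  have key := transfer_pairs (H := H) (odd_subgroupOf P E) (ψ.comp ι) (y := ⟨y, hyE⟩) (Subtype.ext hy) hyH
    (R := R.subgroupOf E) hR' (mem_subgroupOf.2 hyR) (fun r hr => Subtype.ext (hRy _ (mem_subgroupOf.1 hr))) θ
    (fun x => Subtype.ext (hconj2 x)) (fun x hx => mem_subgroupOf.2 (hP _ (mem_subgroupOf.1 hx)))
    (fun r hr => mem_subgroupOf.2 (hRt _ (mem_subgroupOf.1 hr)))
    (Subtype.ext (by show t * y * t = y; rw [← hyt, mul_assoc, ht, mul_one]))
    (by
      intro g hg hgR hgy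
      have h1 : (g : G)⁻¹ * (t * g * t) ∈ (P : Subgroup G) := mem_subgroupOf.1 hg
      have h2 : (g : G)⁻¹ * t * g ∈ (P : Subgroup G) := by
        have e : (g : G)⁻¹ * t * g = (g : G)⁻¹ * (t * g * t) * t := by
          calc (g : G)⁻¹ * t * g = (g : G)⁻¹ * t * g * (t * t) := by rw [ht, mul_one]
            _ = (g : G)⁻¹ * (t * g * t) * t := by group
        rw [e]; exact mul_mem h1 htP
      have h3 : ∀ r ∈ R, (g : G)⁻¹ * r * g ∈ S0 := by
        intro r hr
        have := hgR ⟨r, hRE hr⟩ (mem_subgroupOf.2 hr)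
        exact (hmemS _).2 ⟨mem_subgroupOf.1 this, mul_mem (mul_mem (inv_mem g.2) (hRE hr)) g.2⟩
      exact hM g g.2 h2 h3 _)
    (by
      intro g hg hgR hgy hgy'
      have h2 : (g : G)⁻¹ * t * g ∉ (P : Subgroup G) := by
        intro h
        apply hg
        have e : (g : G)⁻¹ * (t * g * t) = (g : G)⁻¹ * t * g * t := by group
        refine mem_subgroupOf.2 ?_
        show (g : G)⁻¹ * (t * g * t) ∈ (P : Subgroup G)
        rw [e]; exact mul_mem h htP
      have h3 : ∀ r ∈ R, (g : G)⁻¹ * r * g ∈ S0 := by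
        intro r hr
        have := hgR ⟨r, hRE hr⟩ (mem_subgroupOf.2 hr)
        exact (hmemS _).2 ⟨mem_subgroupOf.1 this, mul_mem (mul_mem (inv_mem g.2) (hRE hr)) g.2⟩
      exact hcon g g.2 h3 h2 _ _)
  have h2 := hom_eq_one hE (MonoidHom.transfer (ψ.comp ι)) ⟨y, hyE⟩
  rw [h2] at key
  exact hψ key.symm

end Cfsg.Agent.StdRank2.OutSplit
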