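import Cfsg.Agent.StdRank2.OutSplit.PureSwap
import Cfsg.Agent.StdRank2.OutSplit.PairEnd

set_option autoImplicit false

/-!
# The end of the split case with outer 2-elements: extremality and the order table

`P` a Sylow 2-subgroup of `G`, `S0 ≤ P` of index two, `t ∈ P ∖ S0` an involution, `ψ : S0 → C` a homomorphism to a
commutative group (the type of the action on the first factor), `ψ (t x t)` is the type of the action on the second factor,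
`N` the common kernel. `y ∈ S0` an involution commuting with `t`.

* `extremal` : `C_P(y)` is a Sylow 2-subgroup of `C_G(y)`.
* `conj_eq` : if `R = C_{S0}(y)`, `R ^ g ≤ S0` and `y ^ g` has types `a ≠ b`, then `R ^ g = C_{S0}(y ^ g)`.
* `inf_eq_table` : **`P ∩ E = N`**, if this does not happen.
-/

namespace Cfsg.Agent.StdRank2.OutSplit

open MulAction Subgroup Cfsg.Agent.StdEven.OuterKill
open scoped commutatorElement Pointwise

variable {G : Type*} [Group G]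

/-- centraliser in a subgroup -/
def cen (S : Subgroup G) (y : G) : Subgroup G := S ⊓ centralizer ({y} : Set G)

theorem mem_cen {S : Subgroup G} {x y : G} : x ∈ cen S y ↔ x ∈ S ∧ x * y = y * x := by
  rw [cen, mem_inf, mem_centralizer_singleton_iff]

/-- conjugation of 2-subgroups of `C_G(y)` into a maximal one -/
theorem exists_conj_into [Finite G] {y : G} {Q1 Q2 : Subgroup G} (h1 : IsPGroup 2 Q1) (h1y : ∀ x ∈ Q1, x * y = y * x)
    (h2 : IsPGroup 2 Q2) (h2y : ∀ x ∈ Q2, x * y = y * x)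
    (hmax : ∀ Q : Subgroup G, IsPGroup 2 Q → (∀ x ∈ Q, x * y = y * x) → Nat.card Q ≤ Nat.card Q2) :
    ∃ c : G, c * y = y * c ∧ ∀ x ∈ Q1, c⁻¹ * x * c ∈ Q2 := by
  have : Fact (Nat.Prime 2) := ⟨Nat.prime_two⟩
  let K : Subgroup G := centralizer ({y} : Set G)
  have hK : ∀ x, x ∈ K ↔ x * y = y * x := fun x => by rw [mem_centralizer_singleton_iff]
  have h1K : Q1 ≤ K := fun x hx => (hK x).2 (h1y x hx)
  have h2K : Q2 ≤ K := fun x hx => (hK x).2 (h2y x hx)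
  obtain ⟨R1, hR1⟩ := (h1.comap_of_injective K.subtype K.subtype_injective :
    IsPGroup 2 (Q1.subgroupOf K)).exists_le_sylow
  obtain ⟨R2, hR2⟩ := (h2.comap_of_injective K.subtype K.subtype_injective :
    IsPGroup 2 (Q2.subgroupOf K)).exists_le_sylow
  have hR2' : (R2 : Subgroup K).map K.subtype = Q2 := by
    have hle : Q2 ≤ (R2 : Subgroup K).map K.subtype := fun x hx => ⟨⟨x, h2K hx⟩, hR2 (mem_subgroupOf.2 hx), rfl⟩
    refine (Subgroup.eq_of_le_of_card_ge hle ?_).symm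
    refine hmax _ (R2.isPGroup'.map _) ?_
    rintro _ ⟨x, -, rfl⟩
    exact (hK _).1 x.2
  obtain ⟨c, hc⟩ := exists_smul_eq K R2 R1
  refine ⟨c, (hK c).1 c.2, ?_⟩
  intro x hx
  have hx1 : (⟨x, h1K hx⟩ : K) ∈ R1 := hR1 (mem_subgroupOf.2 hx)
  rw [← hc] at hx1
  have h3 : (⟨x, h1K hx⟩ : K) ∈ (MulAut.conj c • (R2 : Subgroup K)) := hx1
  rw [Subgroup.mem_pointwise_smul_iff_inv_smul_mem] at h3
  have e : (MulAut.conj c)⁻¹ • (⟨x, h1K hx⟩ : K) = c⁻¹ * ⟨x, h1K hx⟩ * c := by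
    rw [← map_inv, MulAut.smul_def, MulAut.conj_apply, inv_inv]
  rw [e] at h3
  rw [← hR2']
  exact ⟨_, h3, rfl⟩

/-- a 2-subgroup of `G` is conjugate into a Sylow 2-subgroup -/
theorem exists_conj_sylow [Finite G] (P : Sylow 2 G) {Q : Subgroup G} (hQ : IsPGroup 2 Q) :
    ∃ d : G, ∀ x ∈ Q, d⁻¹ * x * d ∈ (P : Subgroup G) := by
  have : Fact (Nat.Prime 2) := ⟨Nat.prime_two⟩
  obtain ⟨Q3, hQ3⟩ := hQ.exists_le_sylow
  obtain ⟨d, hd⟩ := exists_smul_eq G P Q3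
  refine ⟨d, fun x hx => ?_⟩
  have hx := hQ3 hx
  rw [← hd] at hx
  have h1 : x ∈ (MulAut.conj d • (P : Subgroup G)) := hx
  rw [Subgroup.mem_pointwise_smul_iff_inv_smul_mem] at h1
  have e : (MulAut.conj d)⁻¹ • x = d⁻¹ * x * d := by
    rw [← map_inv, MulAut.smul_def, MulAut.conj_apply, inv_inv]
  rw [e] at h1
  exact h1

theorem card_conj (Q : Subgroup G) (d : G) : Nat.card (Q.map (MulAut.conj d⁻¹).toMonoidHom) = Nat.card Q :=
  Nat.card_congr (Q.equivMapOfInjective _ (MulAut.conj d⁻¹).injective).toEquiv.symm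

theorem mem_map_conj {Q : Subgroup G} {d x : G} :
    x ∈ Q.map (MulAut.conj d⁻¹).toMonoidHom ↔ d * x * d⁻¹ ∈ Q := by
  constructor
  · rintro ⟨z, hz, rfl⟩
    have e : d * ((MulAut.conj d⁻¹).toMonoidHom z) * d⁻¹ = z := by
      show d * (d⁻¹ * z * d⁻¹⁻¹) * d⁻¹ = z
      group
    rw [e]; exact hz
  · intro h
    refine ⟨_, h, ?_⟩
    show d⁻¹ * (d * x * d⁻¹) * d⁻¹⁻¹ = x
    group

/-- **extremality** of `y` -/
theorem extremal [Finite G] {P : Sylow 2 G} {S0 : Subgroup G} (hS0 : S0 ≤ (P : Subgroup G)) {A : Type*} [CommGroup A]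
    (ψ : S0 →* A) {t y : G} (htP : t ∈ (P : Subgroup G)) (hyS : y ∈ S0) (hyt : y * t = t * y) (hy : y * y = 1)
    (hM : ∀ g : G, g⁻¹ * t * g ∈ (P : Subgroup G) → g⁻¹ * y * g ∈ (P : Subgroup G) →
      ∃ h : g⁻¹ * y * g ∈ S0, ψ ⟨_, h⟩ = ψ ⟨y, hyS⟩)
    (hEX : ∀ w (hw : w ∈ S0), w * w = 1 → ψ ⟨w, hw⟩ = ψ ⟨y, hyS⟩ →
      Nat.card (cen (P : Subgroup G) w) ≤ Nat.card (cen (P : Subgroup G) y))
    (Q : Subgroup G) (hQ : IsPGroup 2 Q) (hQy : ∀ x ∈ Q, x * y = y * x) :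
    Nat.card Q ≤ Nat.card (cen (P : Subgroup G) y) := by
  have : Fact (Nat.Prime 2) := ⟨Nat.prime_two⟩
  -- a Sylow 2-subgroup `R2` of `C_G(y)` containing `C_P(y)`
  let K : Subgroup G := centralizer ({y} : Set G)
  have hK : ∀ x, x ∈ K ↔ x * y = y * x := fun x => by rw [mem_centralizer_singleton_iff]
  have hcK : cen (P : Subgroup G) y ≤ K := inf_le_right
  have hc2 : IsPGroup 2 (cen (P : Subgroup G) y) := P.isPGroup'.to_le inf_le_left
  obtain ⟨R2, hR2⟩ := (hc2.comap_of_injective K.subtype K.subtype_injective :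
    IsPGroup 2 ((cen (P : Subgroup G) y).subgroupOf K)).exists_le_sylow
  obtain ⟨R1, hR1⟩ := (hQ.comap_of_injective K.subtype K.subtype_injective :
    IsPGroup 2 (Q.subgroupOf K)).exists_le_sylow
  have hR2p : IsPGroup 2 ((R2 : Subgroup K).map K.subtype) := R2.isPGroup'.map _
  have hQle : Nat.card Q ≤ Nat.card ((R2 : Subgroup K).map K.subtype) := by
    have e1 : Nat.card ((R2 : Subgroup K).map K.subtype) = Nat.card R2 :=
      Nat.card_congr ((R2 : Subgroup K).equivMapOfInjective _ K.subtype_injective).toEquiv.symm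
    have e2 : Nat.card (R2 : Subgroup K) = Nat.card (R1 : Subgroup K) := Nat.card_congr (R2.equiv R1).toEquiv
    have e3 : Nat.card (Q.subgroupOf K) ≤ Nat.card (R1 : Subgroup K) := by
      have := Subgroup.card_le_of_le hR1
      exact this
    have e4 : Nat.card (Q.subgroupOf K) = Nat.card Q :=
      Nat.card_congr (Subgroup.subgroupOfEquivOfLe (fun x hx => (hK x).2 (hQy x hx))).toEquiv
    rw [e1, e2, ← e4]
    exact e3
  refine hQle.trans ?_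
  obtain ⟨d, hd⟩ := exists_conj_sylow P hR2p
  have hmem : ∀ x, x ∈ (P : Subgroup G) → x * y = y * x → x ∈ (R2 : Subgroup K).map K.subtype := by
    intro x hx hxy
    exact ⟨⟨x, (hK x).2 hxy⟩, hR2 (mem_subgroupOf.2 (mem_cen.2 ⟨hx, hxy⟩)), rfl⟩
  obtain ⟨hyS', hψ'⟩ := hM d (hd t (hmem t htP hyt.symm)) (hd y (hmem y (hS0 hyS) rfl))
  have hy' : d⁻¹ * y * d * (d⁻¹ * y * d) = 1 := by
    calc d⁻¹ * y * d * (d⁻¹ * y * d) = d⁻¹ * (y * y) * d := by group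
      _ = 1 := by rw [hy]; group
  refine le_trans ?_ (hEX _ hyS' hy' hψ')
  rw [← card_conj _ d]
  refine Subgroup.card_le_of_le ?_
  intro x hx
  rw [mem_map_conj] at hx
  refine mem_cen.2 ⟨?_, ?_⟩
  · have := hd _ hx
    have e : d⁻¹ * (d * x * d⁻¹) * d = x := by group
    rwa [e] at this
  · obtain ⟨z, -, hz⟩ := hx
    have h1 : (d * x * d⁻¹) * y = y * (d * x * d⁻¹) := by
      rw [← hz]
      exact (hK _).1 z.2
    calc x * (d⁻¹ * y * d) = d⁻¹ * ((d * x * d⁻¹) * y) * d := by group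
      _ = d⁻¹ * (y * (d * x * d⁻¹)) * d := by rw [h1]
      _ = (d⁻¹ * y * d) * x := by group

theorem card_cen_double [Finite G] {P S0 : Subgroup G} (hS0 : S0 ≤ P)
    (hidx : ∀ a ∈ P, ∀ b ∈ P, a ∉ S0 → b ∉ S0 → a * b ∈ S0) {t y : G} (htP : t ∈ P) (ht0 : t ∉ S0)
    (hyt : y * t = t * y) : Nat.card (cen P y) = 2 * Nat.card (cen S0 y) := by
  have hle : cen S0 y ≤ cen P y := fun x hx => mem_cen.2 ⟨hS0 (mem_cen.1 hx).1, (mem_cen.1 hx).2⟩
  have h1 : (cen S0 y).relIndex (cen P y) = 2 := by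
    rw [relIndex_eq_two_iff_exists_notMem_and]
    refine ⟨t, mem_cen.2 ⟨htP, hyt.symm⟩, ?_, ?_⟩
    · intro h
      exact ht0 (mem_cen.1 h).1
    · intro b hb
      by_cases h : b ∈ S0
      · right; exact mem_cen.2 ⟨h, (mem_cen.1 hb).2⟩
      · left
        refine mem_cen.2 ⟨hidx _ (mem_cen.1 hb).1 _ htP h ht0, ?_⟩
        exact (mem_cen.1 (mul_mem hb (mem_cen.2 ⟨htP, hyt.symm⟩))).2
  have h2 := relIndex_mul_relIndex ⊥ (cen S0 y) (cen P y) bot_le hle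
  rw [relIndex_bot_left, relIndex_bot_left, h1] at h2
  rw [← h2, mul_comm]

/-- **the order argument** -/
theorem conj_eq [Finite G] {P : Sylow 2 G} {S0 : Subgroup G} (hS0 : S0 ≤ (P : Subgroup G))
    (hidx : ∀ a ∈ (P : Subgroup G), ∀ b ∈ (P : Subgroup G), a ∉ S0 → b ∉ S0 → a * b ∈ S0)
    {A : Type*} [CommGroup A] (ψ : S0 →* A) {t y : G} (htP : t ∈ (P : Subgroup G)) (ht0 : t ∉ S0) (hyS : y ∈ S0)
    (hyt : y * t = t * y) (hy : y * y = 1)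
    (hM : ∀ g : G, g⁻¹ * t * g ∈ (P : Subgroup G) → g⁻¹ * y * g ∈ (P : Subgroup G) →
      ∃ h : g⁻¹ * y * g ∈ S0, ψ ⟨_, h⟩ = ψ ⟨y, hyS⟩)
    (hEX : ∀ w (hw : w ∈ S0), w * w = 1 → ψ ⟨w, hw⟩ = ψ ⟨y, hyS⟩ →
      Nat.card (cen (P : Subgroup G) w) ≤ Nat.card (cen (P : Subgroup G) y))
    {g : G} (hgS : g⁻¹ * y * g ∈ S0) (hne : ψ ⟨_, hgS⟩ ≠ ψ ⟨y, hyS⟩)
    (hns : ∀ u ∈ (P : Subgroup G), u * (g⁻¹ * y * g) = (g⁻¹ * y * g) * u → u ∈ S0)
    (hR : ∀ r ∈ cen S0 y, g⁻¹ * r * g ∈ S0) :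
    (cen S0 y).map (MulAut.conj g⁻¹).toMonoidHom = cen S0 (g⁻¹ * y * g) := by
  have : Fact (Nat.Prime 2) := ⟨Nat.prime_two⟩
  have hle : (cen S0 y).map (MulAut.conj g⁻¹).toMonoidHom ≤ cen S0 (g⁻¹ * y * g) := by
    intro x hx
    rw [mem_map_conj] at hx
    have h1 := hR _ hx
    have e : g⁻¹ * (g * x * g⁻¹) * g = x := by group
    rw [e] at h1
    refine mem_cen.2 ⟨h1, ?_⟩
    have h2 := (mem_cen.1 hx).2
    calc x * (g⁻¹ * y * g) = g⁻¹ * ((g * x * g⁻¹) * y) * g := by group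
      _ = g⁻¹ * (y * (g * x * g⁻¹)) * g := by rw [h2]
      _ = (g⁻¹ * y * g) * x := by group
  refine Subgroup.eq_of_le_of_card_ge hle ?_
  rw [card_conj]
  by_contra hlt
  push Not at hlt
  -- both are powers of two
  have hp1 : IsPGroup 2 (cen S0 y) := P.isPGroup'.to_le (inf_le_left.trans hS0)
  have hp2 : IsPGroup 2 (cen S0 (g⁻¹ * y * g)) := P.isPGroup'.to_le (inf_le_left.trans hS0)
  obtain ⟨m, hm⟩ := IsPGroup.iff_card.1 hp1
  obtain ⟨n, hn⟩ := IsPGroup.iff_card.1 hp2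
  rw [hm, hn] at hlt
  have hmn : m < n := (Nat.pow_lt_pow_iff_right (by norm_num)).1 hlt
  have h2 : Nat.card (cen (P : Subgroup G) y) ≤ Nat.card (cen S0 (g⁻¹ * y * g)) := by
    rw [card_cen_double hS0 hidx htP ht0 hyt, hm, hn, ← pow_succ']
    exact Nat.pow_le_pow_right (by norm_num) hmn
  have hext := extremal hS0 ψ htP hyS hyt hy hM hEX
  -- conjugate `C_P(y)` into `C_{S0}(y ^ g)`
  obtain ⟨c, hcy, hc⟩ := exists_conj_into (y := g⁻¹ * y * g)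
    (Q1 := (cen (P : Subgroup G) y).map (MulAut.conj g⁻¹).toMonoidHom) (Q2 := cen S0 (g⁻¹ * y * g))
    ((P.isPGroup'.to_le inf_le_left).map _) (by
      intro x hx
      rw [mem_map_conj] at hx
      have h2 := (mem_cen.1 hx).2
      calc x * (g⁻¹ * y * g) = g⁻¹ * ((g * x * g⁻¹) * y) * g := by group
        _ = g⁻¹ * (y * (g * x * g⁻¹)) * g := by rw [h2]
        _ = (g⁻¹ * y * g) * x := by group) hp2 (fun x hx => (mem_cen.1 hx).2) (by
      intro Q hQ hQy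
      refine le_trans ?_ h2
      have h3 := hext (Q.map (MulAut.conj g⁻¹⁻¹).toMonoidHom) (hQ.map _) (by
        intro x hx
        rw [mem_map_conj] at hx
        have h4 := hQy _ hx
        calc x * y = g * ((g⁻¹ * x * g⁻¹⁻¹) * (g⁻¹ * y * g)) * g⁻¹ := by group
          _ = g * ((g⁻¹ * y * g) * (g⁻¹ * x * g⁻¹⁻¹)) * g⁻¹ := by rw [h4]
          _ = y * x := by group)
      rw [card_conj] at h3
      exact h3)
  have htc : c⁻¹ * (g⁻¹ * t * g) * c ∈ cen S0 (g⁻¹ * y * g) := by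
    refine hc _ ?_
    rw [mem_map_conj]
    have e : g * (g⁻¹ * t * g) * g⁻¹ = t := by group
    rw [e]
    exact mem_cen.2 ⟨htP, hyt.symm⟩
  have e1 : (g * c)⁻¹ * t * (g * c) = c⁻¹ * (g⁻¹ * t * g) * c := by group
  have e2 : (g * c)⁻¹ * y * (g * c) = g⁻¹ * y * g := by
    calc (g * c)⁻¹ * y * (g * c) = c⁻¹ * ((g⁻¹ * y * g) * c) := by group
      _ = c⁻¹ * (c * (g⁻¹ * y * g)) := by rw [hcy]
      _ = g⁻¹ * y * g := by group
  obtain ⟨h5, h6⟩ := hM (g * c) (by rw [e1]; exact hS0 (mem_cen.1 htc).1) (by rw [e2]; exact hS0 hgS)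
  apply hne
  rw [← h6]
  congr 1
  exact Subtype.ext e2.symm

/-- **The end.** `S0 ≤ E`; `ψ : S0 → A`, `N` the set of `x` with `ψ x = ψ (t x t) = 1`. If `S0 ≠ N` there is an
involution `y ∈ C_{S0}(t)` with `ψ y ≠ 1`; fusion of `y` with `t`-fusion preserves types, involutions of the type of `y` do
not have larger centralisers, and an `E`-conjugate `y'` of `y` in `S0` with `ψ y' ≠ ψ (t y' t)` does not have
`C_{S0}(y') = C_{S0}(y) ^ g`. -/
theorem inf_eq_table [Finite G] {P : Sylow 2 G} {S0 E N : Subgroup G} [E.Normal] (hS0 : S0 ≤ (P : Subgroup G))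
    (hidx : ∀ a ∈ (P : Subgroup G), ∀ b ∈ (P : Subgroup G), a ∉ S0 → b ∉ S0 → a * b ∈ S0)
    {t : G} (ht : t * t = 1) (htP : t ∈ (P : Subgroup G)) (htE : t ∉ E) (hE : commutator E = ⊤) (h1 : S0 ≤ E)
    {A : Type*} [CommGroup A] (ψ : S0 →* A) (htS : ∀ x ∈ S0, t * x * t ∈ S0)
    (hN : ∀ x (hx : x ∈ S0), x ∈ N ↔ ψ ⟨x, hx⟩ = 1 ∧ ψ ⟨_, htS x hx⟩ = 1) (hNS : N ≤ S0)
    (hψ : ∀ u (_ : u ∈ (P : Subgroup G)), u ∉ S0 → ∀ x (hx : x ∈ S0), u * x = x * u → ψ ⟨_, htS x hx⟩ = ψ ⟨x, hx⟩)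
    (hy : S0 ≠ N → ∃ y, ∃ hyS : y ∈ S0, y * y = 1 ∧ y * t = t * y ∧ ψ ⟨y, hyS⟩ ≠ 1 ∧
      (∀ g : G, g⁻¹ * t * g ∈ (P : Subgroup G) → g⁻¹ * y * g ∈ (P : Subgroup G) →
        ∃ h : g⁻¹ * y * g ∈ S0, ψ ⟨_, h⟩ = ψ ⟨y, hyS⟩ ∧ ψ ⟨_, htS _ h⟩ = ψ ⟨y, hyS⟩) ∧
      (∀ w (hw : w ∈ S0), w * w = 1 → ψ ⟨w, hw⟩ = ψ ⟨y, hyS⟩ → ψ ⟨_, htS _ hw⟩ = ψ ⟨y, hyS⟩ →
        Nat.card (cen (P : Subgroup G) w) ≤ Nat.card (cen (P : Subgroup G) y)) ∧
      (∀ g ∈ E, ∀ h : g⁻¹ * y * g ∈ S0, ψ ⟨_, h⟩ ≠ ψ ⟨_, htS _ h⟩ →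
        (cen S0 y).map (MulAut.conj g⁻¹).toMonoidHom ≠ cen S0 (g⁻¹ * y * g))) :
    (P : Subgroup G) ⊓ E = N := by
  have hti : t⁻¹ = t := inv_eq_of_mul_eq_one_right ht
  have ht0 : t ∉ S0 := fun h => htE (h1 h)
  have hPE : ∀ x ∈ (P : Subgroup G), x ∈ E → x ∈ S0 := by
    intro x hx hxE
    by_contra hx0
    have h2 := h1 (hidx x hx t htP hx0 ht0)
    exact htE ((mul_mem_cancel_left hxE).1 h2)
  have hinf : (P : Subgroup G) ⊓ E = S0 := le_antisymm (fun x hx => hPE x hx.1 hx.2) (le_inf hS0 h1)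
  rw [hinf]
  by_contra hne
  obtain ⟨y, hyS, hy2, hyt, hψy, hM, hEX, htab⟩ := hy hne
  -- the homomorphism `x ↦ (ψ x, ψ (t x t))`
  let τ : S0 →* S0 :=
    { toFun := fun x => ⟨t * x * t, htS x x.2⟩
      map_one' := Subtype.ext (by show t * ((1 : S0) : G) * t = 1; rw [OneMemClass.coe_one, mul_one, ht])
      map_mul' := fun a b => Subtype.ext (by
        show t * ((a : G) * b) * t = t * a * t * (t * b * t)
        calc t * ((a : G) * b) * t = t * a * (t * t) * b * t := by rw [ht]; group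
          _ = t * a * t * (t * b * t) := by group) }
  let Ψ : S0 →* A × A := ψ.prod (ψ.comp τ)
  have hΨ : ∀ x (hx : x ∈ S0), Ψ ⟨x, hx⟩ = (ψ ⟨x, hx⟩, ψ ⟨_, htS x hx⟩) := fun _ _ => rfl
  have htt : ∀ x : G, t * (t * x * t) * t = x := by
    intro x
    calc t * (t * x * t) * t = (t * t) * x * (t * t) := by group
      _ = x := by rw [ht]; group
  have hyty : t * y * t = y := by rw [← hyt, mul_assoc, ht, mul_one]
  have hψyt : ψ ⟨_, htS y hyS⟩ = ψ ⟨y, hyS⟩ := by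
    congr 1; exact Subtype.ext hyty
  have hR2 : IsPGroup 2 (cen S0 y) := P.isPGroup'.to_le (inf_le_left.trans hS0)
  have hM' : ∀ g : G, g⁻¹ * t * g ∈ (P : Subgroup G) → g⁻¹ * y * g ∈ (P : Subgroup G) →
      ∃ h : g⁻¹ * y * g ∈ S0, Ψ ⟨_, h⟩ = Ψ ⟨y, hyS⟩ := by
    intro g hg hgy
    obtain ⟨h, e1, e2⟩ := hM g hg hgy
    refine ⟨h, ?_⟩
    rw [hΨ, hΨ, e1, e2, hψyt]
  have hΨy : Ψ ⟨y, hyS⟩ ≠ 1 := fun h => hψy (congrArg Prod.fst h)
  obtain ⟨g, hgE, hgR, hgt, h, h', hpair⟩ := exists_pair hE hinf ht htP Ψ hy2 hyS hyt hΨy hR2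
    (inf_le_left.trans h1) (mem_cen.2 ⟨hyS, rfl⟩) (fun r hr => (mem_cen.1 hr).2) (by
      intro r hr
      refine mem_cen.2 ⟨htS r (mem_cen.1 hr).1, ?_⟩
      have h2 := (mem_cen.1 hr).2
      calc t * r * t * y = t * r * (y * t) := by rw [hyt]; group
        _ = t * (y * r) * t := by rw [← h2]; group
        _ = y * (t * r * t) := by rw [← mul_assoc t y r, ← hyt]; group) (by
      intro g hg hgt hgR h
      exact (hM' g hgt (hS0 h)).2)
  -- the types of `y ^ g` are different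
  have hA2 : ∀ x (hx : x ∈ S0), x * x = 1 → ψ ⟨x, hx⟩ * ψ ⟨x, hx⟩ = 1 := by
    intro x hx hxx
    rw [← map_mul]
    have : (⟨x, hx⟩ : S0) * ⟨x, hx⟩ = 1 := Subtype.ext hxx
    rw [this, map_one]
  have hy'2 : g⁻¹ * y * g * (g⁻¹ * y * g) = 1 := by
    calc g⁻¹ * y * g * (g⁻¹ * y * g) = g⁻¹ * (y * y) * g := by group
      _ = 1 := by rw [hy2]; group
  have hne2 : ψ ⟨_, h⟩ ≠ ψ ⟨_, htS _ h⟩ := by
    intro heq
    apply hpair
    rw [hΨ, hΨ]
    have e3 : ψ ⟨_, htS _ h'⟩ = ψ ⟨_, h⟩ := by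
      congr 1; exact Subtype.ext (htt _)
    rw [e3]
    have e4 : ψ ⟨_, h'⟩ = ψ ⟨_, h⟩ := heq.symm
    rw [e4]
    have e5 := hA2 _ h hy'2
    exact Prod.ext e5 e5
  refine htab g hgE h hne2 ?_
  refine conj_eq hS0 hidx Ψ htP ht0 hyS hyt hy2 hM' ?_ h ?_ ?_ hgR
  · intro w hw hw2 he
    have e1 := congrArg Prod.fst he
    have e2 := congrArg Prod.snd he
    rw [hΨ, hΨ] at e1 e2
    exact hEX w hw hw2 e1 (e2.trans hψyt)
  · intro he
    rw [hΨ, hΨ] at he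
    have e1 : ψ ⟨_, h⟩ = ψ ⟨y, hyS⟩ := congrArg Prod.fst he
    have e2 : ψ ⟨_, htS _ h⟩ = ψ ⟨_, htS y hyS⟩ := congrArg Prod.snd he
    exact hne2 (by rw [e1, e2, hψyt])
  · intro u hu hc
    by_contra hu0
    exact hne2 (hψ u hu hu0 _ h hc).symm

end Cfsg.Agent.StdRank2.OutSplit
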