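import Cfsg.Agent.StdRank2.OutSplit.CycVal

set_option autoImplicit false

/-!
# Elements of `S0` commuting with `t`

If `x` commutes with the involution `t` and at every common fixed point of `t` and `x ^ k` the element `x ^ k` does not
swap, then `NoSwap P S0 x`.
-/

namespace Cfsg.Agent.StdRank2.OutSplit

open MulAction Subgroup

variable {G : Type*} [Group G]

theorem mem_iff_period_dvd {H : Subgroup G} (x g : G) (k : ℕ) :
    g⁻¹ * x ^ k * g ∈ H ↔ Function.minimalPeriod (x • ·) (g : G ⧸ H) ∣ k := by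
  rw [← Function.isPeriodicPt_iff_minimalPeriod_dvd, ← smul_coset_eq]
  have h := congrFun (smul_iterate (α := G ⧸ H) x k) (g : G ⧸ H)
  exact ⟨fun h1 => h.trans h1, fun h1 => h.symm.trans h1⟩

theorem noSwap_of_comm [Finite G] {P S0 : Subgroup G} (hidx : ∀ a ∈ P, ∀ b ∈ P, a ∉ S0 → b ∉ S0 → a * b ∈ S0)
    {t x : G} (ht : t * t = 1) (hxt : x * t = t * x) (hx2 : ∃ n : ℕ, x ^ 2 ^ n = 1)
    (hT : ∀ g : G, g⁻¹ * t * g ∈ P → ∀ k : ℕ, g⁻¹ * x ^ k * g ∈ P → g⁻¹ * x ^ k * g ∈ S0) :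
    NoSwap P S0 x := by
  have hct : Commute t x := hxt.symm
  refine ⟨zpowers t, ?_, ?_, ?_⟩
  · rintro ⟨h, hh⟩
    obtain ⟨k, rfl⟩ := mem_zpowers_iff.1 hh
    refine ⟨1, Subtype.ext ?_⟩
    show (t ^ k) ^ 2 ^ 1 = 1
    rw [pow_one, ← zpow_natCast, ← zpow_mul, mul_comm, zpow_mul, zpow_natCast, pow_two, ht, one_zpow]
  · intro h hh
    obtain ⟨k, rfl⟩ := mem_zpowers_iff.1 hh
    exact (hct.zpow_left k).eq
  intro g hg k hk
  obtain ⟨k0, hk0⟩ := hg t (mem_zpowers t)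
  obtain ⟨n, hn⟩ := hx2
  -- natural exponent
  obtain ⟨m0, hm0⟩ : ∃ m : ℕ, x ^ k0 = x ^ m := by
    have hpos : 0 < orderOf x := orderOf_pos x
    refine ⟨(k0 % (orderOf x : ℤ)).toNat, ?_⟩
    rw [← zpow_natCast, Int.toNat_of_nonneg (Int.emod_nonneg _ (by exact_mod_cast hpos.ne')), zpow_mod_orderOf]
  rw [hm0] at hk0
  by_contra hu
  set ℓ := Function.minimalPeriod (x • ·) (g : G ⧸ P) with hℓ
  have hmem : ∀ m : ℕ, g⁻¹ * x ^ m * g ∈ P ↔ ℓ ∣ m := fun m => mem_iff_period_dvd x g m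
  -- `t` does not fix the coset
  have htg : g⁻¹ * t * g ∉ P := fun h => hu (hT g h k hk)
  have hm0' : ¬ ℓ ∣ m0 := by
    intro h
    apply htg
    have h1 := (hmem m0).2 h
    have e : g⁻¹ * (x ^ m0 * t) * g = (g⁻¹ * x ^ m0 * g) * (g⁻¹ * t * g) := by group
    rw [e] at hk0
    exact (mul_mem_cancel_left h1).1 hk0
  -- its square
  have hsq : (g⁻¹ * (x ^ m0 * t) * g) * (g⁻¹ * (x ^ m0 * t) * g) = g⁻¹ * x ^ (2 * m0) * g := by
    have h1 : t * x ^ m0 = x ^ m0 * t := (hct.pow_right m0).eq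
    calc (g⁻¹ * (x ^ m0 * t) * g) * (g⁻¹ * (x ^ m0 * t) * g) = g⁻¹ * (x ^ m0 * (t * x ^ m0) * t) * g := by group
      _ = g⁻¹ * (x ^ m0 * x ^ m0 * (t * t)) * g := by rw [h1]; group
      _ = g⁻¹ * x ^ (2 * m0) * g := by rw [ht, mul_one, two_mul, pow_add]
  have h2P : g⁻¹ * x ^ (2 * m0) * g ∈ P := by rw [← hsq]; exact mul_mem hk0 hk0
  have hsqS : ∀ r ∈ P, r * r ∈ S0 := by
    intro r hr
    by_cases h : r ∈ S0
    · exact mul_mem h h
    · exact hidx r hr r hr h h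
  have h2S : g⁻¹ * x ^ (2 * m0) * g ∈ S0 := by rw [← hsq]; exact hsqS _ hk0
  have hd : ℓ ∣ 2 * m0 := (hmem _).1 h2P
  have hℓn : ℓ ∣ 2 ^ n := by
    rw [← hmem, hn]
    simp only [mul_one, inv_mul_cancel]
    exact one_mem P
  obtain ⟨j, _, hj⟩ := (Nat.dvd_prime_pow Nat.prime_two).1 hℓn
  -- `2 m0 = ℓ * odd`
  obtain ⟨c, hc⟩ := hd
  have hcodd : Odd c := by
    rcases Nat.even_or_odd c with he | ho
    · exfalso
      obtain ⟨d, hd⟩ := he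
      apply hm0'
      refine ⟨d, ?_⟩
      have : 2 * m0 = 2 * (ℓ * d) := by rw [hc, hd]; ring
      omega
    · exact ho
  obtain ⟨m, hm⟩ := (hmem k).1 hk
  have hs : g⁻¹ * x ^ ℓ * g ∈ P := (hmem ℓ).2 dvd_rfl
  have hpow : ∀ i : ℕ, g⁻¹ * x ^ (ℓ * i) * g = (g⁻¹ * x ^ ℓ * g) ^ i := by
    intro i
    rw [pow_mul]
    have := (conj_pow (i := i) (a := g⁻¹) (b := x ^ ℓ))
    rw [inv_inv] at this
    exact this.symm
  have hsS : g⁻¹ * x ^ ℓ * g ∉ S0 := by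
    intro h
    apply hu
    rw [hm, hpow]
    exact pow_mem h m
  rw [hc, hpow] at h2S
  obtain ⟨i, hi⟩ := hcodd
  rw [hi, pow_succ, pow_mul, pow_two] at h2S
  exact hsS ((mul_mem_cancel_left (pow_mem (hsqS _ hs) i)).1 h2S)

end Cfsg.Agent.StdRank2.OutSplit
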