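import Cfsg.Agent.StdRank2.OutSplit.Group

set_option autoImplicit false

/-!
# Transfer of a 2-element `l` with values in an abelian group

All values have square one; `Q` is a 2-group centralising `l ∈ Q`; `Q`-fixed points have value `ω`, longer `Q`-fixed
`⟨l⟩`-cycles have value `1`. Then the transfer at `l` is `ω`.
-/

namespace Cfsg.Agent.StdRank2.OutSplit

open MulAction Subgroup Cfsg.Agent.StdEven.OuterKill

variable {G : Type*} [Group G]

theorem odd_card_fixedPoints [Finite G] {H : Subgroup G} (hodd : Odd H.index) {Q : Subgroup G} (hQ : IsPGroup 2 Q) :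
    Odd (Nat.card (fixedPoints Q (G ⧸ H))) := by
  have : Fact (Nat.Prime 2) := ⟨Nat.prime_two⟩
  have h := hQ.card_modEq_card_fixedPoints (G ⧸ H)
  have h1 : Nat.card (G ⧸ H) = H.index := rfl
  rw [h1] at h
  rw [Nat.odd_iff] at hodd ⊢
  rw [← h]
  exact hodd

theorem transfer_eq_of_cycles [Finite G] {A : Type*} [CommGroup A] {H : Subgroup G} (hodd : Odd H.index) (φ : H →* A)
    (l : G) (Q : Subgroup G) (hQ : IsPGroup 2 Q) (hlQ : l ∈ Q) (hc : ∀ h ∈ Q, h * l = l * h) (ω : A) (hω : ω ^ 2 = 1)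
    (h2 : ∀ (g : G) (k : ℕ) (hk : g⁻¹ * l ^ k * g ∈ H), φ ⟨_, hk⟩ ^ 2 = 1)
    (h1 : ∀ g : G, (∀ h ∈ Q, g⁻¹ * h * g ∈ H) → ∀ hg : g⁻¹ * l ^ 1 * g ∈ H, φ ⟨_, hg⟩ = ω)
    (h3 : ∀ g : G, (∀ h ∈ Q, ∃ k : ℤ, g⁻¹ * (l ^ k * h) * g ∈ H) → g⁻¹ * l * g ∉ H →
      ∀ (k : ℕ) (hk : g⁻¹ * l ^ k * g ∈ H), φ ⟨_, hk⟩ = 1) :
    MonoidHom.transfer φ l = ω := by
  classical
  have : Fact (Nat.Prime 2) := ⟨Nat.prime_two⟩
  have : Fintype (G ⧸ H) := Fintype.ofFinite _
  have : Fintype (Cyc H l) := Fintype.ofFinite _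
  rw [MonoidHom.transfer_eq_prod_quotient_orbitRel_zpowers_quot]
  let act := cycAction (H := H) hc
  have hsm : ∀ (h : Q) (p : G ⧸ H), h • (Quotient.mk'' p : Cyc H l) = Quotient.mk'' ((h : G) • p) := fun _ _ => rfl
  have hFl : ∀ (k : ℤ) (p : G ⧸ H), Fv φ l (l ^ k • p) = Fv φ l p := fun k p =>
    Fv_smul φ l (l ^ k) ((Commute.refl l).zpow_left k) p
  have hFq : ∀ p : G ⧸ H, Fv φ l (Quotient.out (Quotient.mk'' p : Cyc H l)) = Fv φ l p := by
    intro p
    have h1 : (orbitRel (zpowers l) (G ⧸ H)) (Quotient.out (Quotient.mk'' p : Cyc H l)) p := Quotient.exact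
      (Quotient.out_eq (Quotient.mk'' p : Cyc H l))
    obtain ⟨⟨z, hz⟩, he⟩ := h1
    obtain ⟨k, rfl⟩ := mem_zpowers_iff.1 hz
    rw [← he]
    exact hFl k p
  have hinv : ∀ (h : Q) (q : Cyc H l), Fv φ l (Quotient.out (h • q)) = Fv φ l q.out := by
    intro h q
    obtain ⟨p, rfl⟩ := Quotient.mk''_surjective q
    rw [hsm, hFq, hFq]
    exact Fv_smul φ l h (hc h h.2) p
  have hsq : ∀ q : Cyc H l, Fv φ l q.out ^ 2 = 1 := by
    intro q
    obtain ⟨p, rfl⟩ := Quotient.mk''_surjective q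
    obtain ⟨g, rfl⟩ := QuotientGroup.mk_surjective p
    rw [hFq, Fv_eq]
    exact h2 g _ _
  -- a `Q`-fixed cycle
  have hfixrel : ∀ g : G, (∀ h : Q, h • (Quotient.mk'' (g : G ⧸ H) : Cyc H l) = Quotient.mk'' (g : G ⧸ H)) →
      ∀ h ∈ Q, ∃ k : ℤ, g⁻¹ * (l ^ k * h) * g ∈ H := by
    intro g hg h hh
    have h2 := hg ⟨h, hh⟩
    rw [hsm] at h2
    have h3 : (orbitRel (zpowers l) (G ⧸ H)) ((h : G) • (g : G ⧸ H)) (g : G ⧸ H) := Quotient.exact h2
    obtain ⟨⟨z, hz⟩, he⟩ := h3
    obtain ⟨k, rfl⟩ := mem_zpowers_iff.1 hz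
    refine ⟨-k, ?_⟩
    have h4 : l ^ k • (g : G ⧸ H) = h • (g : G ⧸ H) := he
    have h5 : (l ^ (-k) * h) • (g : G ⧸ H) = (g : G ⧸ H) := by
      rw [mul_smul, ← h4, ← mul_smul, ← zpow_add, neg_add_cancel, zpow_zero, one_smul]
    exact smul_coset_eq.1 h5
  -- value of a `Q`-fixed point
  have hfixval : ∀ g : G, (∀ h ∈ Q, h • (g : G ⧸ H) = (g : G ⧸ H)) → Fv φ l (g : G ⧸ H) = ω := by
    intro g hg
    have hper : Function.minimalPeriod (l • ·) (g : G ⧸ H) = 1 := by
      rw [Function.minimalPeriod_eq_one_iff_isFixedPt]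
      exact hg l hlQ
    rw [Fv_eq]
    have hg1 : g⁻¹ * l ^ 1 * g ∈ H := by rw [pow_one]; exact smul_coset_eq.1 (hg l hlQ)
    have e : (⟨g⁻¹ * l ^ Function.minimalPeriod (l • ·) (g : G ⧸ H) * g, mem_of_period l g⟩ : H) =
        ⟨g⁻¹ * l ^ 1 * g, hg1⟩ := Subtype.ext (by simp only [hper])
    rw [e]
    exact h1 g (fun h hh => smul_coset_eq.1 (hg h hh)) _
  let B : A → Type _ := fun a => {q : Cyc H l // Fv φ l q.out = a}
  have actB : ∀ a : A, ∃ act' : MulAction Q (B a), ∀ (h : Q) (q : B a), (act'.toSMul.smul h q).1 = h • q.1 := by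
    intro a
    exact ⟨{ smul := fun h q => ⟨h • q.1, by rw [hinv]; exact q.2⟩
             one_smul := fun q => Subtype.ext (one_smul Q q.1)
             mul_smul := fun x y q => Subtype.ext (mul_smul x y q.1) }, fun _ _ => rfl⟩
  have hcard : ∀ a : A, Nat.card (B a) = (Finset.univ.filter (fun q : Cyc H l => Fv φ l q.out = a)).card := by
    intro a
    rw [Nat.card_eq_fintype_card]
    exact Fintype.card_subtype _
  -- values `a ≠ 1, ω`
  have heven : ∀ a : A, a ≠ 1 → a ≠ ω → Even (Finset.univ.filter (fun q : Cyc H l => Fv φ l q.out = a)).card := by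
    intro a ha1 haω
    obtain ⟨act', hact'⟩ := actB a
    have hB := hQ.card_modEq_card_fixedPoints (B a)
    have h0 : Nat.card (fixedPoints Q (B a)) = 0 := by
      rw [Nat.card_eq_zero]
      left
      refine ⟨fun ⟨⟨q, hq⟩, hfix⟩ => ?_⟩
      have hfix' : ∀ h : Q, h • q = q := fun h => (hact' h ⟨q, hq⟩).symm.trans (congrArg Subtype.val (hfix h))
      obtain ⟨p, rfl⟩ := Quotient.mk''_surjective q
      obtain ⟨g, rfl⟩ := QuotientGroup.mk_surjective p
      have hrel := hfixrel g hfix'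
      rw [hFq] at hq
      by_cases hgl : g⁻¹ * l * g ∈ H
      · -- a fixed point
        apply haω
        rw [← hq]
        apply hfixval
        intro h hh
        obtain ⟨k, hk⟩ := hrel h hh
        rw [smul_coset_eq]
        have h5 : g⁻¹ * l ^ k * g ∈ H := by
          have e : g⁻¹ * l ^ k * g = (g⁻¹ * l * g) ^ k := by
            have := (conj_zpow (i := k) (a := g⁻¹) (b := l))
            rw [inv_inv] at this
            exact this.symm
          rw [e]; exact zpow_mem hgl k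
        have e : g⁻¹ * (l ^ k * h) * g = (g⁻¹ * l ^ k * g) * (g⁻¹ * h * g) := by group
        rw [e] at hk
        exact (mul_mem_cancel_left h5).1 hk
      · apply ha1
        rw [← hq, Fv_eq]
        exact h3 g hrel hgl _ _
    rw [h0, hcard] at hB
    exact Nat.even_iff.2 hB
  -- the product
  have hval : ∀ q : Cyc H l, φ ⟨q.out.out⁻¹ * l ^ Function.minimalPeriod (l • ·) q.out * q.out.out,
      QuotientGroup.out_conj_pow_minimalPeriod_mem H l q.out⟩ = Fv φ l q.out := fun q => rfl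
  simp only [hval]
  by_cases hω1 : ω = 1
  · rw [hω1, Finset.prod_comp (fun a : A => a) (fun q : Cyc H l => Fv φ l q.out)]
    apply Finset.prod_eq_one
    intro b hb
    by_cases hb1 : b = 1
    · rw [hb1, one_pow]
    · obtain ⟨q, _, rfl⟩ := Finset.mem_image.1 hb
      obtain ⟨k, hk⟩ := heven _ hb1 (by rw [hω1]; exact hb1)
      have e : (Finset.univ.filter (fun a : Cyc H l => Fv φ l a.out = Fv φ l q.out)).card = k + k := hk
      rw [e, ← two_mul, pow_mul, hsq, one_pow]
  · -- the fibre of `ω` is odd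
    have hoddω : Odd (Finset.univ.filter (fun q : Cyc H l => Fv φ l q.out = ω)).card := by
      obtain ⟨act', hact'⟩ := actB ω
      have hB := hQ.card_modEq_card_fixedPoints (B ω)
      have hbij : Nat.card (fixedPoints Q (G ⧸ H)) = Nat.card (fixedPoints Q (B ω)) := by
        have hval' : ∀ p : fixedPoints Q (G ⧸ H), Fv φ l (Quotient.mk'' p.1 : Cyc H l).out = ω := by
          rintro ⟨p, hp⟩
          obtain ⟨g, rfl⟩ := QuotientGroup.mk_surjective p
          rw [hFq]
          exact hfixval g (fun h hh => hp ⟨h, hh⟩)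
        refine Nat.card_congr (Equiv.ofBijective (fun p : fixedPoints Q (G ⧸ H) =>
          (⟨⟨Quotient.mk'' p.1, hval' p⟩, fun h => Subtype.ext (by
            rw [show (h • (⟨Quotient.mk'' p.1, hval' p⟩ : B ω)).1 = h • (Quotient.mk'' p.1 : Cyc H l) from
              hact' h _, hsm]
            exact congrArg Quotient.mk'' (p.2 h))⟩ : fixedPoints Q (B ω))) ⟨?_, ?_⟩)
        · rintro ⟨p, hp⟩ ⟨p', hp'⟩ he
          have h1 : (Quotient.mk'' p : Cyc H l) = Quotient.mk'' p' := congrArg (fun x => x.1.1) he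
          have h2 : (orbitRel (zpowers l) (G ⧸ H)) p p' := Quotient.exact h1
          obtain ⟨⟨z, hz⟩, hez⟩ := h2
          obtain ⟨k, rfl⟩ := mem_zpowers_iff.1 hz
          have h3 : l ^ k • p' = p := hez
          have h4 : l ^ k • p' = p' := hp' ⟨l ^ k, zpow_mem hlQ k⟩
          exact Subtype.ext (h3.symm.trans h4)
        · rintro ⟨⟨q, hq⟩, hfix⟩
          have hfix' : ∀ h : Q, h • q = q := fun h => (hact' h ⟨q, hq⟩).symm.trans (congrArg Subtype.val (hfix h))
          obtain ⟨p, rfl⟩ := Quotient.mk''_surjective q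
          obtain ⟨g, rfl⟩ := QuotientGroup.mk_surjective p
          have hrel := hfixrel g hfix'
          rw [hFq] at hq
          have hgl : g⁻¹ * l * g ∈ H := by
            by_contra hgl
            rw [Fv_eq, h3 g hrel hgl] at hq
            exact hω1 hq.symm
          have hpf : ∀ h : Q, h • (g : G ⧸ H) = (g : G ⧸ H) := by
            intro h
            obtain ⟨k, hk⟩ := hrel h h.2
            rw [show h • (g : G ⧸ H) = (h : G) • (g : G ⧸ H) from rfl, smul_coset_eq]
            have h5 : g⁻¹ * l ^ k * g ∈ H := by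
              have e : g⁻¹ * l ^ k * g = (g⁻¹ * l * g) ^ k := by
                have := (conj_zpow (i := k) (a := g⁻¹) (b := l))
                rw [inv_inv] at this
                exact this.symm
              rw [e]; exact zpow_mem hgl k
            have e : g⁻¹ * (l ^ k * h) * g = (g⁻¹ * l ^ k * g) * (g⁻¹ * h * g) := by group
            rw [e] at hk
            exact (mul_mem_cancel_left h5).1 hk
          exact ⟨⟨(g : G ⧸ H), hpf⟩, Subtype.ext (Subtype.ext rfl)⟩
      rw [← hbij, hcard] at hB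
      have ho := odd_card_fixedPoints hodd hQ
      rw [Nat.odd_iff] at ho ⊢
      rw [← ho]
      exact hB
    rw [Finset.prod_comp (fun a : A => a) (fun q : Cyc H l => Fv φ l q.out)]
    have hωmem : ω ∈ (Finset.univ : Finset (Cyc H l)).image (fun q : Cyc H l => Fv φ l q.out) := by
      obtain ⟨q, hq⟩ : (Finset.univ.filter (fun q : Cyc H l => Fv φ l q.out = ω)).Nonempty := by
        rw [← Finset.card_pos]; exact hoddω.pos
      exact Finset.mem_image.2 ⟨q, Finset.mem_univ _, (Finset.mem_filter.1 hq).2⟩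
    rw [Finset.prod_eq_single_of_mem ω hωmem]
    · obtain ⟨k, hk⟩ := hoddω
      have e : (Finset.univ.filter (fun a : Cyc H l => Fv φ l a.out = ω)).card = 2 * k + 1 := hk
      rw [e, pow_succ, pow_mul, hω, one_pow, one_mul]
    · intro b hb hbω
      by_cases hb1 : b = 1
      · rw [hb1, one_pow]
      · obtain ⟨q, _, rfl⟩ := Finset.mem_image.1 hb
        obtain ⟨k, hk⟩ := heven _ hb1 hbω
        have e : (Finset.univ.filter (fun a : Cyc H l => Fv φ l a.out = Fv φ l q.out)).card = k + k := hk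
        rw [e, ← two_mul, pow_mul, hsq, one_pow]

end Cfsg.Agent.StdRank2.OutSplit
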