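import Mathlib

set_option autoImplicit false

/-!
# Transfer of a central element of a 2-group, real characters

`φ : H → {±1}`, `l : G`, `Q` a 2-group centralising `l`. Only the `⟨l⟩`-cycles on `G/H` which are fixed by `Q`
contribute to the transfer of `φ` at `l`.
-/

namespace Cfsg.Agent.StdRank2.OutSplit

open MulAction Subgroup

variable {G : Type*} [Group G]

/-- the value of a cycle -/
noncomputable def Fv {A : Type*} [CommGroup A] {H : Subgroup G} (φ : H →* A) (l : G) (p : G ⧸ H) : A :=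
  φ ⟨p.out⁻¹ * l ^ Function.minimalPeriod (l • ·) p * p.out,
    QuotientGroup.out_conj_pow_minimalPeriod_mem H l p⟩

theorem mem_of_period {H : Subgroup G} (l g : G) :
    g⁻¹ * l ^ Function.minimalPeriod (l • ·) (g : G ⧸ H) * g ∈ H := by
  have h := Function.isPeriodicPt_minimalPeriod (l • ·) (g : G ⧸ H)
  have h2 : l ^ Function.minimalPeriod (l • ·) (g : G ⧸ H) • (g : G ⧸ H) = (g : G ⧸ H) := by
    have h3 := congrFun (smul_iterate (α := G ⧸ H) l (Function.minimalPeriod (l • ·) (g : G ⧸ H))) (g : G ⧸ H)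
    exact h3.symm.trans h
  rw [MulAction.Quotient.smul_mk, smul_eq_mul, eq_comm, QuotientGroup.eq] at h2
  rw [mul_assoc]
  exact h2

theorem Fv_eq {A : Type*} [CommGroup A] {H : Subgroup G} (φ : H →* A) (l g : G) :
    Fv φ l (g : G ⧸ H) = φ ⟨_, mem_of_period l g⟩ := by
  obtain ⟨⟨h, hh⟩, he⟩ := QuotientGroup.mk_out_eq_mul H g
  simp only [Fv]
  have he' : Quotient.out (g : G ⧸ H) = g * h := he
  have e : (⟨(g : G ⧸ H).out⁻¹ * l ^ Function.minimalPeriod (l • ·) (g : G ⧸ H) * (g : G ⧸ H).out,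
      QuotientGroup.out_conj_pow_minimalPeriod_mem H l _⟩ : H) =
      ⟨h, hh⟩⁻¹ * ⟨_, mem_of_period l g⟩ * ⟨h, hh⟩ := by
    apply Subtype.ext
    simp only [he', Subgroup.coe_mul, Subgroup.coe_inv]
    group
  rw [e, map_mul, map_mul, map_inv, mul_comm (φ ⟨h, hh⟩)⁻¹, mul_assoc, inv_mul_cancel, mul_one]

theorem period_smul {H : Subgroup G} (l c : G) (hc : c * l = l * c) (p : G ⧸ H) :
    Function.minimalPeriod (l • ·) (c • p) = Function.minimalPeriod (l • ·) p := by
  rw [Function.minimalPeriod_eq_minimalPeriod_iff]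
  intro n
  have hcn : l ^ n * c = c * l ^ n := ((show Commute l c from hc.symm).pow_left n)
  unfold Function.IsPeriodicPt Function.IsFixedPt
  rw [smul_iterate]
  simp only
  rw [← mul_smul, hcn, mul_smul]
  exact ⟨fun h => smul_left_cancel c h, fun h => congrArg (c • ·) h⟩

theorem Fv_smul {A : Type*} [CommGroup A] {H : Subgroup G} (φ : H →* A) (l c : G) (hc : c * l = l * c)
    (p : G ⧸ H) : Fv φ l (c • p) = Fv φ l p := by
  obtain ⟨g, rfl⟩ := QuotientGroup.mk_surjective p
  have h1 : c • (g : G ⧸ H) = ((c * g : G) : G ⧸ H) := by rw [MulAction.Quotient.smul_mk, smul_eq_mul]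
  have h2 := period_smul l c hc (g : G ⧸ H)
  rw [h1] at h2
  rw [h1, Fv_eq, Fv_eq]
  congr 1
  apply Subtype.ext
  simp only [h2]
  have hcn : c * l ^ Function.minimalPeriod (l • ·) (g : G ⧸ H) =
      l ^ Function.minimalPeriod (l • ·) (g : G ⧸ H) * c := (show Commute c l from hc).pow_right _
  calc (c * g)⁻¹ * l ^ Function.minimalPeriod (l • ·) (g : G ⧸ H) * (c * g)
      = g⁻¹ * (c⁻¹ * (l ^ Function.minimalPeriod (l • ·) (g : G ⧸ H) * c)) * g := by group
    _ = g⁻¹ * l ^ Function.minimalPeriod (l • ·) (g : G ⧸ H) * g := by rw [← hcn]; group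

/-- the set of cycles -/
abbrev Cyc (H : Subgroup G) (l : G) := Quotient (orbitRel (zpowers l) (G ⧸ H))

/-- action of the centraliser on cycles -/
def cycSmul {H : Subgroup G} {l : G} {Q : Subgroup G} (hc : ∀ h ∈ Q, h * l = l * h) (h : Q) :
    Cyc H l → Cyc H l :=
  Quotient.map' (fun p => (h : G) • p) (by
    intro p q hpq
    obtain ⟨⟨z, hz⟩, rfl⟩ := hpq
    obtain ⟨k, rfl⟩ := mem_zpowers_iff.1 hz
    refine ⟨⟨l ^ k, hz⟩, ?_⟩
    show l ^ k • ((h : G) • q) = (h : G) • (l ^ k • q)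
    rw [← mul_smul, ← mul_smul, ((show Commute (h : G) l from hc h h.2).zpow_right k).eq])

/-- the action -/
@[instance_reducible] def cycAction {H : Subgroup G} {l : G} {Q : Subgroup G} (hc : ∀ h ∈ Q, h * l = l * h) :
    MulAction Q (Cyc H l) where
  smul := cycSmul hc
  one_smul := by
    intro q
    induction q using Quotient.inductionOn' with | _ p
    show Quotient.mk'' (((1 : Q) : G) • p) = _
    rw [OneMemClass.coe_one, one_smul]
  mul_smul := by
    intro a b q
    induction q using Quotient.inductionOn' with | _ p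
    show Quotient.mk'' (((a * b : Q) : G) • p) = Quotient.mk'' ((a : G) • ((b : G) • p))
    rw [Subgroup.coe_mul, mul_smul]

theorem transfer_eq_one [Finite G] {H : Subgroup G} (φ : H →* ℤˣ) (l : G) (Q : Subgroup G) (hQ : IsPGroup 2 Q)
    (hc : ∀ h ∈ Q, h * l = l * h)
    (hno : ∀ g : G, (∀ h ∈ Q, ∃ k : ℤ, g⁻¹ * (l ^ k * h) * g ∈ H) →
      ∀ (k : ℕ) (hk : g⁻¹ * l ^ k * g ∈ H), φ ⟨_, hk⟩ = 1) :
    MonoidHom.transfer φ l = 1 := by
  classical
  have : Fact (Nat.Prime 2) := ⟨Nat.prime_two⟩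
  have : Fintype (G ⧸ H) := Fintype.ofFinite _
  have : Fintype (Cyc H l) := Fintype.ofFinite _
  rw [MonoidHom.transfer_eq_prod_quotient_orbitRel_zpowers_quot]
  let act := cycAction (H := H) hc
  have hsm : ∀ (h : Q) (p : G ⧸ H), h • (Quotient.mk'' p : Cyc H l) = Quotient.mk'' ((h : G) • p) := fun _ _ => rfl
  -- the value is a function on cycles
  have hFl : ∀ (k : ℤ) (p : G ⧸ H), Fv φ l (l ^ k • p) = Fv φ l p := fun k p =>
    Fv_smul φ l (l ^ k) ((Commute.refl l).zpow_left k) p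
  have hFq : ∀ p : G ⧸ H, Fv φ l (Quotient.out (Quotient.mk'' p : Cyc H l)) = Fv φ l p := by
    intro p
    have h1 : (orbitRel (zpowers l) (G ⧸ H)) (Quotient.out (Quotient.mk'' p : Cyc H l)) p := Quotient.exact
      (Quotient.out_eq (Quotient.mk'' p : Cyc H l))
    obtain ⟨⟨z, hz⟩, he⟩ := h1
    obtain ⟨k, rfl⟩ := mem_zpowers_iff.1 hz
    rw [← he]
    exact hFl k p
  have hinv : ∀ (h : Q) (q : Cyc H l), Fv φ l (Quotient.out (h • q)) = Fv φ l q.out := by
    intro h q
    obtain ⟨p, rfl⟩ := Quotient.mk''_surjective q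
    rw [hsm, hFq, hFq]
    exact Fv_smul φ l h (hc h h.2) p
  let B : Type _ := {q : Cyc H l // Fv φ l q.out = -1}
  let actB : MulAction Q B :=
    { smul := fun h q => ⟨h • q.1, by rw [hinv]; exact q.2⟩
      one_smul := fun q => Subtype.ext (one_smul Q q.1)
      mul_smul := fun a b q => Subtype.ext (mul_smul a b q.1) }
  have hB := hQ.card_modEq_card_fixedPoints B
  have hfp : Nat.card (fixedPoints Q B) = 0 := by
    rw [Nat.card_eq_zero]
    left
    refine ⟨fun ⟨⟨q, hq⟩, hfix⟩ => ?_⟩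
    have hfix' : ∀ h : Q, h • q = q := fun h => congrArg Subtype.val (hfix h)
    obtain ⟨p, rfl⟩ := Quotient.mk''_surjective q
    obtain ⟨g, rfl⟩ := QuotientGroup.mk_surjective p
    rw [hFq, Fv_eq] at hq
    have h1 := hno g (by
      intro h hh
      have h2 := hfix' ⟨h, hh⟩
      rw [hsm] at h2
      have h3 : (orbitRel (zpowers l) (G ⧸ H)) ((h : G) • (g : G ⧸ H)) (g : G ⧸ H) := Quotient.exact h2
      obtain ⟨⟨z, hz⟩, he⟩ := h3
      obtain ⟨k, rfl⟩ := mem_zpowers_iff.1 hz
      refine ⟨-k, ?_⟩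
      have h4 : l ^ k • (g : G ⧸ H) = h • (g : G ⧸ H) := he
      have h5 : (l ^ (-k) * h) • (g : G ⧸ H) = (g : G ⧸ H) := by
        rw [mul_smul, ← h4, ← mul_smul, ← zpow_add, neg_add_cancel, zpow_zero, one_smul]
      rw [MulAction.Quotient.smul_mk, smul_eq_mul, eq_comm, QuotientGroup.eq] at h5
      rw [mul_assoc]; exact h5) _ (mem_of_period l g)
    rw [h1] at hq
    exact absurd hq (by decide)
  rw [hfp] at hB
  have heven : Even (Finset.univ.filter (fun q : Cyc H l => Fv φ l q.out = -1)).card := by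
    have h1 : Nat.card B = (Finset.univ.filter (fun q : Cyc H l => Fv φ l q.out = -1)).card := by
      rw [Nat.card_eq_fintype_card]
      exact Fintype.card_subtype _
    rw [← h1]
    exact Nat.even_iff.2 hB
  have hval : ∀ q : Cyc H l, φ ⟨q.out.out⁻¹ * l ^ Function.minimalPeriod (l • ·) q.out * q.out.out,
      QuotientGroup.out_conj_pow_minimalPeriod_mem H l q.out⟩ = Fv φ l q.out := fun q => rfl
  simp only [hval]
  rw [← Finset.prod_filter_mul_prod_filter_not Finset.univ (fun q : Cyc H l => Fv φ l q.out = -1)]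
  rw [Finset.prod_congr (g := fun _ => (-1 : ℤˣ)) rfl (by
    intro q hq
    exact (Finset.mem_filter.1 hq).2), Finset.prod_const, heven.neg_one_pow, one_mul]
  apply Finset.prod_eq_one
  intro q hq
  have := (Finset.mem_filter.1 hq).2
  rcases Int.units_eq_one_or (Fv φ l q.out) with h | h
  · exact h
  · exact absurd h this

end Cfsg.Agent.StdRank2.OutSplit
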