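import Cfsg.Agent.StdRank2.OutSplit.Final

set_option autoImplicit false

/-!
# `Hilb` and `split` from the centraliser of `t`

* `hilb_of_t` : it is enough to know `Hilb` for the involutions which commute with `t`.
* `hilb_of_U` : it is enough to know that the involutions of `yU`, `U = C_N(t)`, are `U`-conjugate to `y`, for the
  involutions `y ∈ C_{S0}(t) ∖ N`.
* `conj_t` : involutions of `tN` are `S2`-conjugate to `t`.
* `split_of_t` : the field `split` of `OutData` from the elements which commute with `t`.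
-/

namespace Cfsg.Agent.StdRank2.OutSplit

open MulAction Subgroup

variable {G : Type*} [Group G] {P S0 N S1 S2 : Subgroup G} {t : G}

theorem norm_N (h : SwapData P S0 N S1 S2) (hn : NormS S0 S1 S2) {x n : G} (hx : x ∈ S0) (hnN : n ∈ N) :
    x⁻¹ * n * x ∈ N := by
  obtain ⟨a, ha, b, hb, rfl⟩ := h.hsup n hnN
  have e : x⁻¹ * (a * b) * x = (x⁻¹ * a * x) * (x⁻¹ * b * x) := by group
  rw [e]
  exact mul_mem (h.h1N (hn.1 x hx a ha)) (h.h2N (hn.2 x hx b hb))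

theorem hilb_of_t (h : SwapData P S0 N S1 S2) (hn : NormS S0 S1 S2) (ht : t * t = 1) (htP : t ∈ P) (ht0 : t ∉ S0)
    (hy : ∀ y ∈ S0, y ∉ N → y * y = 1 → y * t = t * y → ∀ v ∈ S2, y * v * y = v⁻¹ → ∃ b ∈ S2, b⁻¹ * y * b = y * v) :
    Hilb S0 N S2 t := by
  intro w hw hwN hw2 hwt v hv hwv
  obtain ⟨z, hz, hwz, hz2, hzt⟩ := exists_y h hn ht htP ht0 hw hw2 hwt
  have hzN := h.h2N hz
  have hyS : w * z ∈ S0 := mul_mem hw (h.hNS hzN)
  have hyN : w * z ∉ N := fun h' => hwN ((mul_mem_cancel_right hzN).1 h')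
  -- `w = y z⁻¹`
  have e1 : (w * z) * z⁻¹ * (w * z) = z⁻¹⁻¹ := by
    rw [inv_inv]
    calc (w * z) * z⁻¹ * (w * z) = (w * w) * z := by group
      _ = z := by rw [hw2, one_mul]
  obtain ⟨b, hb, hbe⟩ := hy _ hyS hyN hz2 hzt _ (inv_mem hz) e1
  have hwb : b⁻¹ * (w * z) * b = w := by rw [hbe]; group
  -- `w v = y (z⁻¹ v)`
  have e2 : (w * z) * (z⁻¹ * v) * (w * z) = (z⁻¹ * v)⁻¹ := by
    have : (w * z) * (z⁻¹ * v) * (w * z) = (w * v * w) * z := by group
    rw [this, hwv, mul_inv_rev, inv_inv]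
  obtain ⟨c, hc, hce⟩ := hy _ hyS hyN hz2 hzt _ (mul_mem (inv_mem hz) hv) e2
  have hwc : c⁻¹ * (w * z) * c = w * v := by rw [hce]; group
  refine ⟨b⁻¹ * c, mul_mem (inv_mem hb) hc, ?_⟩
  calc (b⁻¹ * c)⁻¹ * w * (b⁻¹ * c) = c⁻¹ * (b * w * b⁻¹) * c := by group
    _ = c⁻¹ * (b * (b⁻¹ * (w * z) * b) * b⁻¹) * c := by rw [hwb]
    _ = c⁻¹ * (w * z) * c := by group
    _ = w * v := hwc

theorem hilb_of_U (h : SwapData P S0 N S1 S2) (hn : NormS S0 S1 S2) (ht : t * t = 1) (htP : t ∈ P) (ht0 : t ∉ S0)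
    (hy : ∀ y ∈ S0, y ∉ N → y * y = 1 → y * t = t * y → ∀ n ∈ N, n * t = t * n → y * n * (y * n) = 1 →
      ∃ b ∈ N, b * t = t * b ∧ b⁻¹ * y * b = y * n) :
    Hilb S0 N S2 t := by
  refine hilb_of_t h hn ht htP ht0 ?_
  intro y hyS hyN hy2 hyt v hv hyv
  have hti : t⁻¹ = t := inv_eq_of_mul_eq_one_right ht
  have hyi : y⁻¹ = y := inv_eq_of_mul_eq_one_right hy2
  have hv1 : t * v * t ∈ S1 := by
    have := h.hsw2 t htP ht0 v hv
    rwa [hti] at this
  have hcm := h.hcomm _ hv1 v hv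
  have hut : ((t * v * t) * v) * t = t * ((t * v * t) * v) := by
    calc ((t * v * t) * v) * t = (t * v * t) * v * t := by group
      _ = (t * v * t) * (t * (t * v * t)) := by
          have : t * (t * v * t) = v * t := by rw [← mul_assoc, ← mul_assoc, ht, one_mul]
          rw [this]; group
      _ = t * v * (t * t) * (t * v * t) := by group
      _ = t * (v * (t * v * t)) := by rw [ht, mul_one]; group
      _ = t * ((t * v * t) * v) := by rw [hcm]
  have hyv' : y * (t * v * t) * y = (t * v * t)⁻¹ := by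
    calc y * (t * v * t) * y = (y * t) * v * (t * y) := by group
      _ = (t * y) * v * (y * t) := by rw [hyt]
      _ = t * (y * v * y) * t := by group
      _ = t * v⁻¹ * t := by rw [hyv]
      _ = (t * v * t)⁻¹ := by rw [mul_inv_rev, mul_inv_rev, hti]; group
  have hyu : y * ((t * v * t) * v) * (y * ((t * v * t) * v)) = 1 := by
    calc y * ((t * v * t) * v) * (y * ((t * v * t) * v))
        = (y * (t * v * t) * y) * (y⁻¹ * v * y) * ((t * v * t) * v) := by group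
      _ = (t * v * t)⁻¹ * (y * v * y) * ((t * v * t) * v) := by rw [hyv', hyi]
      _ = (t * v * t)⁻¹ * v⁻¹ * ((t * v * t) * v) := by rw [hyv]
      _ = (t * v * t)⁻¹ * v⁻¹ * (v * (t * v * t)) := by rw [hcm]
      _ = 1 := by group
  obtain ⟨b, hb, hbt, hbe⟩ := hy y hyS hyN hy2 hyt _ (mul_mem (h.h1N hv1) (h.h2N hv)) hut hyu
  obtain ⟨b1, hb1, b2, hb2, rfl⟩ := h.hsup b hb
  refine ⟨b2, hb2, ?_⟩
  -- components
  have e1 : (y * b1⁻¹ * y * b1) * (y * b2⁻¹ * y * b2) = (t * v * t) * v := by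
    have c1 : (y * b2⁻¹ * y) * b1 = b1 * (y * b2⁻¹ * y) := by
      refine (h.hcomm b1 hb1 _ ?_).symm
      have := hn.2 y hyS _ (inv_mem hb2)
      rwa [hyi] at this
    have e0 : y * ((b1 * b2)⁻¹ * y * (b1 * b2)) = (t * v * t) * v := by
      rw [hbe, ← mul_assoc, hy2, one_mul]
    rw [← e0, mul_inv_rev]
    calc (y * b1⁻¹ * y * b1) * (y * b2⁻¹ * y * b2) = (y * b1⁻¹ * y) * (b1 * (y * b2⁻¹ * y)) * b2 := by group
      _ = (y * b1⁻¹ * y) * ((y * b2⁻¹ * y) * b1) * b2 := by rw [c1]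
      _ = y * b1⁻¹ * (y * y) * b2⁻¹ * y * b1 * b2 := by group
      _ = y * (b1⁻¹ * b2⁻¹) * y * (b1 * b2) := by rw [hy2]; group
      _ = y * (b2⁻¹ * b1⁻¹) * y * (b1 * b2) := by rw [h.hcomm _ (inv_mem hb1) _ (inv_mem hb2)]
      _ = y * (b2⁻¹ * b1⁻¹ * y * (b1 * b2)) := by group
  have m1 : y * b1⁻¹ * y * b1 ∈ S1 := by
    have := hn.1 y hyS _ (inv_mem hb1)
    rw [hyi] at this
    exact mul_mem this hb1
  have m2 : y * b2⁻¹ * y * b2 ∈ S2 := by
    have := hn.2 y hyS _ (inv_mem hb2)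
    rw [hyi] at this
    exact mul_mem this hb2
  obtain ⟨-, e2⟩ := h.comp_eq m1 m2 hv1 hv e1
  rw [← e2]
  calc b2⁻¹ * y * b2 = (y * y) * (b2⁻¹ * y * b2) := by rw [hy2, one_mul]
    _ = y * (y * b2⁻¹ * y * b2) := by group

/-- involutions of `t N` are conjugate to `t` -/
theorem conj_t (h : SwapData P S0 N S1 S2) (ht : t * t = 1) (htP : t ∈ P) (ht0 : t ∉ S0) {m : G} (hm : m ∈ N)
    (h2 : t * m * (t * m) = 1) : ∃ b ∈ S2, b⁻¹ * t * b = t * m := by
  have hti : t⁻¹ = t := inv_eq_of_mul_eq_one_right ht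
  obtain ⟨a, ha, b, hb, rfl⟩ := h.hsup m hm
  have ha1 : t * a * t ∈ S2 := by
    have := h.hsw1 t htP ht0 a ha
    rwa [hti] at this
  have hb1 : t * b * t ∈ S1 := by
    have := h.hsw2 t htP ht0 b hb
    rwa [hti] at this
  have e1 : (t * b * t * a) * (t * a * t * b) = 1 * 1 := by
    rw [one_mul, ← h2]
    have c1 := h.hcomm _ hb1 _ ha1
    have c2 := h.hcomm a ha _ ha1
    calc (t * b * t * a) * (t * a * t * b) = (t * b * t) * (a * (t * a * t)) * b := by group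
      _ = (t * b * t) * ((t * a * t) * a) * b := by rw [c2]
      _ = ((t * b * t) * (t * a * t)) * a * b := by group
      _ = ((t * a * t) * (t * b * t)) * a * b := by rw [c1]
      _ = t * a * (t * t) * b * t * a * b := by group
      _ = t * (a * b) * (t * (a * b)) := by rw [ht]; group
  obtain ⟨e2, -⟩ := h.comp_eq (mul_mem hb1 ha) (mul_mem ha1 hb) (one_mem _) (one_mem _) e1
  refine ⟨b, hb, ?_⟩
  -- `a = (t b t)⁻¹`
  have e3 : a = t * b⁻¹ * t := by
    have : a = (t * b * t)⁻¹ := eq_inv_of_mul_eq_one_right e2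
    rw [this, mul_inv_rev, mul_inv_rev, hti]; group
  rw [e3]
  calc b⁻¹ * t * b = (t * t) * (b⁻¹ * t * b) := by rw [ht, one_mul]
    _ = t * (t * b⁻¹ * t * b) := by group

/-- the field `split` from the elements which commute with `t` -/
theorem split_of_t (h : SwapData P S0 N S1 S2) (hn : NormS S0 S1 S2) (ht : t * t = 1) (htP : t ∈ P) (ht0 : t ∉ S0)
    (hs : ∀ x ∈ S0, x ∉ N → x * t = t * x → x * x ∈ N → ∃ n ∈ N, x * n * (x * n) = 1) :
    ∀ x ∈ S0, x ∉ N → x * x ∈ N → x * (t * x * t) ∈ N → ∃ n ∈ N, x * n * (x * n) = 1 := by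
  intro x hx hxN hx2 hxt
  have hti : t⁻¹ = t := inv_eq_of_mul_eq_one_right ht
  have hm : t * (x⁻¹ * t * x) ∈ N := by
    have e : t * (x⁻¹ * t * x) = (x * (t * x * t))⁻¹ * (x * x) := by
      rw [mul_inv_rev, mul_inv_rev, mul_inv_rev, hti]
      group
    rw [e]
    exact mul_mem (inv_mem hxt) hx2
  obtain ⟨b, hb, hbe⟩ := conj_t h ht htP ht0 hm (by
    have e : t * (t * (x⁻¹ * t * x)) = x⁻¹ * t * x := by rw [← mul_assoc, ht, one_mul]
    rw [e]
    calc x⁻¹ * t * x * (x⁻¹ * t * x) = x⁻¹ * (t * t) * x := by group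
      _ = 1 := by rw [ht]; group)
  have hbe' : b⁻¹ * t * b = x⁻¹ * t * x := by
    rw [hbe, ← mul_assoc, ht, one_mul]
  have hbN := h.h2N hb
  have hxb : (x * b⁻¹) * t = t * (x * b⁻¹) := by
    calc (x * b⁻¹) * t = x * (b⁻¹ * t * b) * b⁻¹ := by group
      _ = x * (x⁻¹ * t * x) * b⁻¹ := by rw [hbe']
      _ = t * (x * b⁻¹) := by group
  have hx' : x * b⁻¹ ∈ S0 := mul_mem hx (inv_mem (h.hNS hbN))
  have hxN' : x * b⁻¹ ∉ N := fun h' => hxN ((mul_mem_cancel_right (inv_mem hbN)).1 h')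
  have hsq : (x * b⁻¹) * (x * b⁻¹) ∈ N := by
    have e : (x * b⁻¹) * (x * b⁻¹) = (x * x) * (x⁻¹ * b⁻¹ * x) * b⁻¹ := by group
    rw [e]
    exact mul_mem (mul_mem hx2 (norm_N h hn hx (inv_mem hbN))) (inv_mem hbN)
  obtain ⟨n, hnN, hne⟩ := hs _ hx' hxN' hxb hsq
  refine ⟨b⁻¹ * n, mul_mem (inv_mem hbN) hnN, ?_⟩
  rw [← hne]; group

end Cfsg.Agent.StdRank2.OutSplit
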