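import Cfsg.Agent.StdRank2.OutSplit.Cycles
import Cfsg.Agent.StdEven.OuterKill

set_option autoImplicit false

/-!
# S1778, split case with outer 2-elements (type independent)

`G = E ∪ tE`, `E` perfect, `P ∈ Syl₂(G)`, `S0 ≤ P` the subgroup of index two of the elements which do not swap the
two factors of `N = S₁ × S₂`, `t ∈ P ∖ S0`.

* `transfer_sgn_t` : no conjugate of `t` lies in `S0` ⟹ the transfer of `sgn : P → P/S0` is `-1` at `t`.
* `not_mem` : hence `t ∉ E` for `E` perfect.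
* `le_of_noSwap` : `S0 ≤ E`, if the elements of `S0` are not fused to swapping elements.
* `inf_eq` : `P ∩ E = N`.
-/

namespace Cfsg.Agent.StdRank2.OutSplit

open MulAction Subgroup Cfsg.Agent.StdEven.OuterKill

variable {G : Type*} [Group G]

open Classical in
/-- the character of `P` with kernel `S0` -/
noncomputable def sgn (P S0 : Subgroup G) (hidx : ∀ a ∈ P, ∀ b ∈ P, a ∉ S0 → b ∉ S0 → a * b ∈ S0) : P →* ℤˣ where
  toFun x := if (x : G) ∈ S0 then 1 else -1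
  map_one' := by rw [OneMemClass.coe_one, if_pos (one_mem S0)]
  map_mul' := by
    intro a b
    by_cases ha : (a : G) ∈ S0 <;> by_cases hb : (b : G) ∈ S0
    · rw [if_pos ha, if_pos hb, Subgroup.coe_mul, if_pos (mul_mem ha hb), one_mul]
    · rw [if_pos ha, if_neg hb, Subgroup.coe_mul, if_neg (fun h => hb ((mul_mem_cancel_left ha).1 h)), one_mul]
    · rw [if_neg ha, if_pos hb, Subgroup.coe_mul, if_neg (fun h => ha ((mul_mem_cancel_right hb).1 h)), mul_one]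
    · rw [if_neg ha, if_neg hb, Subgroup.coe_mul, if_pos (hidx _ a.2 _ b.2 ha hb)]
      decide

theorem sgn_of_mem {P S0 : Subgroup G} {hidx : ∀ a ∈ P, ∀ b ∈ P, a ∉ S0 → b ∉ S0 → a * b ∈ S0} {x : G}
    (hx : x ∈ P) (h : x ∈ S0) : sgn P S0 hidx ⟨x, hx⟩ = 1 := if_pos h

theorem sgn_of_not_mem {P S0 : Subgroup G} {hidx : ∀ a ∈ P, ∀ b ∈ P, a ∉ S0 → b ∉ S0 → a * b ∈ S0} {x : G}
    (hx : x ∈ P) (h : x ∉ S0) : sgn P S0 hidx ⟨x, hx⟩ = -1 := if_neg h

/-- an involution has an odd number of fixed points on the cosets of a subgroup of odd index -/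
theorem odd_fixed [Finite G] {H : Subgroup G} [Fintype (G ⧸ H)] [DecidableEq (G ⧸ H)] (hodd : Odd H.index) {t : G}
    (ht : t * t = 1) : Odd (Finset.univ.filter (fun q : G ⧸ H => t • q = q)).card := by
  classical
  have h1 := card_mod_two (α := G ⧸ H) (fun q => t • q) (fun q => by rw [← mul_smul, ht, one_smul])
  have h2 : Fintype.card {x : G ⧸ H // t • x = x} = (Finset.univ.filter (fun q : G ⧸ H => t • q = q)).card :=
    Fintype.card_subtype _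
  have h3 : Fintype.card (G ⧸ H) = H.index := by
    rw [Subgroup.index, Nat.card_eq_fintype_card]
  have h4 : Fintype.card {x : G ⧸ H // (fun q => t • q) x = x} = Fintype.card {x : G ⧸ H // t • x = x} :=
    Fintype.card_congr (Equiv.refl _)
  rw [h4, h2, h3, Nat.odd_iff.1 hodd] at h1
  exact Nat.odd_iff.2 h1.symm

/-- the transfer at an involution all of whose conjugates in `H` have the same value -/
theorem transfer_const [Finite G] {A : Type*} [CommGroup A] {H : Subgroup G} (hodd : Odd H.index) (φ : H →* A) {t : G}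
    (ht : t * t = 1) (htH : t ∈ H) (h : ∀ g : G, ∀ hg : g⁻¹ * t * g ∈ H, φ ⟨_, hg⟩ = φ ⟨t, htH⟩) :
    MonoidHom.transfer φ t = φ ⟨t, htH⟩ := by
  classical
  have hti : t⁻¹ = t := inv_eq_of_mul_eq_one_right ht
  have : Fintype (G ⧸ H) := Fintype.ofFinite _
  obtain ⟨f, hf, hprod⟩ := Cfsg.Agent.StdL3.OneParity.transfer_eq_prod_fixed H φ t ht
  rw [hprod, Finset.prod_congr (g := fun _ => φ ⟨t, htH⟩) rfl (by
    intro q hq
    have hq' := (Finset.mem_filter.1 hq).2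
    obtain ⟨g, rfl⟩ := QuotientGroup.mk_surjective q
    have hg : g⁻¹ * t * g ∈ H := by
      rw [MulAction.Quotient.smul_mk, smul_eq_mul, QuotientGroup.eq] at hq'
      have e : (t * g)⁻¹ * g = g⁻¹ * t * g := by rw [mul_inv_rev, hti]
      rwa [e] at hq'
    rw [hf _ g rfl hg]
    exact h g hg), Finset.prod_const]
  obtain ⟨k, hk⟩ := odd_fixed hodd ht
  have h2 : φ ⟨t, htH⟩ ^ 2 = 1 := by
    rw [← map_pow]
    have : (⟨t, htH⟩ : H) ^ 2 = 1 := Subtype.ext (by simp [pow_two, ht])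
    rw [this, map_one]
  rw [hk, pow_succ, pow_mul, h2, one_pow, one_mul]

theorem odd_index [Finite G] (P : Sylow 2 G) : Odd (P : Subgroup G).index := by
  have : Fact (Nat.Prime 2) := ⟨Nat.prime_two⟩
  rw [← Nat.not_even_iff_odd, even_iff_two_dvd]
  exact P.not_dvd_index

theorem transfer_sgn_t [Finite G] {P : Sylow 2 G} {S0 : Subgroup G}
    (hidx : ∀ a ∈ (P : Subgroup G), ∀ b ∈ (P : Subgroup G), a ∉ S0 → b ∉ S0 → a * b ∈ S0) {t : G}
    (ht : t * t = 1) (htP : t ∈ (P : Subgroup G))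
    (hF1 : ∀ g : G, g⁻¹ * t * g ∈ (P : Subgroup G) → g⁻¹ * t * g ∉ S0) :
    MonoidHom.transfer (sgn (P : Subgroup G) S0 hidx) t = -1 := by
  have ht0 : t ∉ S0 := by
    have := hF1 1
    simpa using this (by simpa using htP)
  rw [transfer_const (odd_index P) _ ht htP (by
    intro g hg
    rw [sgn_of_not_mem hg (hF1 g hg), sgn_of_not_mem htP ht0])]
  exact sgn_of_not_mem htP ht0

theorem not_mem [Finite G] {P : Sylow 2 G} {S0 E : Subgroup G}
    (hidx : ∀ a ∈ (P : Subgroup G), ∀ b ∈ (P : Subgroup G), a ∉ S0 → b ∉ S0 → a * b ∈ S0) {t : G}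
    (ht : t * t = 1) (htP : t ∈ (P : Subgroup G))
    (hF1 : ∀ g : G, g⁻¹ * t * g ∈ (P : Subgroup G) → g⁻¹ * t * g ∉ S0) (hE : commutator E = ⊤) : t ∉ E := by
  intro htE
  have h1 := transfer_sgn_t hidx ht htP hF1
  have h2 := hom_eq_one hE ((MonoidHom.transfer (sgn (P : Subgroup G) S0 hidx)).comp E.subtype) ⟨t, htE⟩
  have h3 : MonoidHom.transfer (sgn (P : Subgroup G) S0 hidx) t = 1 := h2
  rw [h1] at h3
  exact absurd h3 (by decide)

/-- `l` (an element of `S0`) is never fused to a swapping element, as seen from a 2-group centralising `l` -/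
def NoSwap (P S0 : Subgroup G) (l : G) : Prop :=
  ∃ Q : Subgroup G, IsPGroup 2 Q ∧ (∀ h ∈ Q, h * l = l * h) ∧
    ∀ g : G, (∀ h ∈ Q, ∃ k : ℤ, g⁻¹ * (l ^ k * h) * g ∈ P) → ∀ k : ℕ, g⁻¹ * l ^ k * g ∈ P → g⁻¹ * l ^ k * g ∈ S0

theorem le_of_noSwap [Finite G] {P : Sylow 2 G} {S0 E : Subgroup G}
    (hidx : ∀ a ∈ (P : Subgroup G), ∀ b ∈ (P : Subgroup G), a ∉ S0 → b ∉ S0 → a * b ∈ S0) {t : G}
    (ht : t * t = 1) (htP : t ∈ (P : Subgroup G))
    (hF1 : ∀ g : G, g⁻¹ * t * g ∈ (P : Subgroup G) → g⁻¹ * t * g ∉ S0) (hE : commutator E = ⊤)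
    (hGE : ∀ g : G, g ∈ E ∨ t * g ∈ E)
    (hNS : ∀ l ∈ S0, l ∉ E → ∃ l' : G, l' ∉ E ∧ NoSwap (P : Subgroup G) S0 l') : S0 ≤ E := by
  intro l hl
  by_contra hlE
  obtain ⟨l', hl', Q, hQ, hc, hno⟩ := hNS l hl hlE
  have h1 := transfer_sgn_t hidx ht htP hF1
  have h2 : MonoidHom.transfer (sgn (P : Subgroup G) S0 hidx) l' = 1 := by
    refine transfer_eq_one _ l' Q hQ hc (fun g hg k hk => ?_)
    exact sgn_of_mem hk (hno g hg k hk)
  have h3 : t * l' ∈ E := (hGE l').resolve_left hl'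
  have h4 := hom_eq_one hE ((MonoidHom.transfer (sgn (P : Subgroup G) S0 hidx)).comp E.subtype) ⟨t * l', h3⟩
  have h5 : MonoidHom.transfer (sgn (P : Subgroup G) S0 hidx) (t * l') = 1 := h4
  rw [map_mul, h1, h2] at h5
  exact absurd h5 (by decide)

/-- `P ∩ E` is a Sylow 2-subgroup of `E` -/
theorem odd_subgroupOf [Finite G] (P : Sylow 2 G) (E : Subgroup G) [E.Normal] :
    Odd ((P : Subgroup G).subgroupOf E).index := by
  rw [← Nat.not_even_iff_odd, even_iff_two_dvd]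
  exact not_dvd_relIndex P E

theorem final [Finite G] {A : Type*} [CommGroup A] {P : Sylow 2 G} {E S0 : Subgroup G} [E.Normal]
    (hE : commutator E = ⊤) (hPE : ∀ x ∈ (P : Subgroup G), x ∈ E → x ∈ S0)
    (ψ : S0 →* A) {y : G} (hy : y * y = 1) (hyP : y ∈ (P : Subgroup G)) (hyE : y ∈ E) (hyS : y ∈ S0) (hψ : ψ ⟨y, hyS⟩ ≠ 1)
    (hyc : ∀ g ∈ E, g⁻¹ * y * g ∈ (P : Subgroup G) → ∀ h : g⁻¹ * y * g ∈ S0, ψ ⟨_, h⟩ = ψ ⟨y, hyS⟩) : False := by
  let H : Subgroup E := (P : Subgroup G).subgroupOf E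
  let ι : H →* S0 :=
    { toFun := fun x => ⟨((x : E) : G), hPE _ (mem_subgroupOf.1 x.2) x.1.2⟩
      map_one' := rfl
      map_mul' := fun _ _ => rfl }
  have hyH : (⟨y, hyE⟩ : E) ∈ H := mem_subgroupOf.2 hyP
  have key := transfer_const (H := H) (odd_subgroupOf P E) (ψ.comp ι) (t := ⟨y, hyE⟩) (Subtype.ext hy) hyH
    (by
      intro g hg
      exact hyc g g.2 (mem_subgroupOf.1 hg) _)
  have h2 := hom_eq_one hE (MonoidHom.transfer (ψ.comp ι)) ⟨y, hyE⟩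
  rw [h2] at key
  exact hψ key.symm

/-- **Theorem OUT** -/
theorem inf_eq [Finite G] {A : Type*} [CommGroup A] {P : Sylow 2 G} {S0 E N : Subgroup G} [E.Normal]
    (hS0 : S0 ≤ (P : Subgroup G))
    (hidx : ∀ a ∈ (P : Subgroup G), ∀ b ∈ (P : Subgroup G), a ∉ S0 → b ∉ S0 → a * b ∈ S0) {t : G}
    (ht : t * t = 1) (htP : t ∈ (P : Subgroup G))
    (hF1 : ∀ g : G, g⁻¹ * t * g ∈ (P : Subgroup G) → g⁻¹ * t * g ∉ S0) (hE : commutator E = ⊤)
    (hGE : ∀ g : G, g ∈ E ∨ t * g ∈ E)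
    (hNS : ∀ l ∈ S0, l ∉ E → ∃ l' : G, l' ∉ E ∧ NoSwap (P : Subgroup G) S0 l')
    (ψ : S0 →* A) (hψ : ∀ x (hx : x ∈ S0), ψ ⟨x, hx⟩ = 1 ↔ x ∈ N) (hNS0 : N ≤ S0)
    (hy : (∃ x ∈ S0, x ∉ N) → S0 ≤ E → ∃ y ∈ S0, y * y = 1 ∧ y ∉ N ∧
      ∀ g ∈ E, g⁻¹ * y * g ∈ S0 → y⁻¹ * (g⁻¹ * y * g) ∈ N) :
    (P : Subgroup G) ⊓ E = N := by
  have h1 : S0 ≤ E := le_of_noSwap hidx ht htP hF1 hE hGE hNS
  have htE : t ∉ E := not_mem hidx ht htP hF1 hE
  have ht0 : t ∉ S0 := fun h => htE (h1 h)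
  have hPE : ∀ x ∈ (P : Subgroup G), x ∈ E → x ∈ S0 := by
    intro x hx hxE
    by_contra hx0
    have h2 := h1 (hidx x hx t htP hx0 ht0)
    exact htE ((mul_mem_cancel_left hxE).1 h2)
  have hinf : (P : Subgroup G) ⊓ E = S0 := le_antisymm (fun x hx => hPE x hx.1 hx.2) (le_inf hS0 h1)
  rw [hinf]
  refine le_antisymm ?_ hNS0
  intro x hx
  by_contra hxN
  obtain ⟨y, hyS, hy2, hyN, hyc⟩ := hy ⟨x, hx, hxN⟩ h1
  refine final hE hPE ψ hy2 (hS0 hyS) (h1 hyS) hyS (fun h => hyN ((hψ _ _).1 h)) ?_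
  intro g hg _ h
  have h3 := (hψ _ (mul_mem (inv_mem hyS) h)).2 (hyc g hg h)
  have h4 : ψ (⟨y, hyS⟩⁻¹ * ⟨_, h⟩) = 1 := h3
  rw [map_mul, map_inv] at h4
  exact (inv_mul_eq_one.1 h4).symm

end Cfsg.Agent.StdRank2.OutSplit
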