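import Cfsg.Agent.StdRank2.OutSplit.Group

set_option autoImplicit false

/-!
# `NoSwap` from one pure element

`l ∈ S0` commutes with an involution `m`. On a `⟨l⟩`-cycle of `G/P` which is fixed by `m`, either `m` fixes every
point of the cycle, and then the value of the cycle commutes with a conjugate of `m`, or `m` acts as half the cycle and
the value of the cycle is the inverse of a square of an element of `P`.

* `noSwap_of_pp` : `m` is pure and no conjugate of `m` lies in `P ∖ S0`  ⟹  `NoSwap P S0 l`.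
* `noSwap_of_pair` : two commuting involutions `a, b`, all of `a`, `b`, `a * b` pure  ⟹  `NoSwap P S0 l`.
* `le_of_pp` : **`S0 ≤ E`**.
-/

namespace Cfsg.Agent.StdRank2.OutSplit

open MulAction Subgroup Cfsg.Agent.StdEven.OuterKill

variable {G : Type*} [Group G]

/-- the half-cycle argument: if `l ^ k * m` is in `P ^ g⁻¹`, but `m` is not, then the powers of `l` in `P ^ g⁻¹` are in
`S0 ^ g⁻¹` -/
theorem half_cycle {P S0 : Subgroup G} (hidx : ∀ a ∈ P, ∀ b ∈ P, a ∉ S0 → b ∉ S0 → a * b ∈ S0)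
    {l m g : G} (hm : m * m = 1) (hml : m * l = l * m) {k : ℤ} (hk : g⁻¹ * (l ^ k * m) * g ∈ P)
    (hmg : g⁻¹ * m * g ∉ P) {j : ℤ} (hj : g⁻¹ * l ^ j * g ∈ P) : g⁻¹ * l ^ j * g ∈ S0 := by
  have hidx2 : ∀ a ∈ P, a * a ∈ S0 := by
    intro a ha
    by_cases h : a ∈ S0
    · exact mul_mem h h
    · exact hidx a ha a ha h h
  let X : AddSubgroup ℤ :=
    { carrier := {i | g⁻¹ * l ^ i * g ∈ P}
      zero_mem' := by
        show g⁻¹ * l ^ (0 : ℤ) * g ∈ P
        rw [zpow_zero, mul_one, inv_mul_cancel]; exact one_mem P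
      add_mem' := by
        intro a b ha hb
        show g⁻¹ * l ^ (a + b) * g ∈ P
        have e : g⁻¹ * l ^ (a + b) * g = (g⁻¹ * l ^ a * g) * (g⁻¹ * l ^ b * g) := by rw [zpow_add]; group
        rw [e]; exact mul_mem ha hb
      neg_mem' := by
        intro a ha
        show g⁻¹ * l ^ (-a) * g ∈ P
        have e : g⁻¹ * l ^ (-a) * g = (g⁻¹ * l ^ a * g)⁻¹ := by rw [zpow_neg]; group
        rw [e]; exact inv_mem ha }
  have hX : ∀ i, i ∈ X ↔ g⁻¹ * l ^ i * g ∈ P := fun i => Iff.rfl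
  obtain ⟨n, hn⟩ := Int.subgroup_cyclic X
  have hmem : ∀ i, i ∈ X ↔ n ∣ i := by
    intro i
    rw [hn, AddSubgroup.mem_closure_singleton]
    constructor
    · rintro ⟨c, rfl⟩; exact ⟨c, by rw [smul_eq_mul, mul_comm]⟩
    · rintro ⟨c, rfl⟩; exact ⟨c, by rw [smul_eq_mul, mul_comm]⟩
  have hnX : g⁻¹ * l ^ n * g ∈ P := (hX n).1 ((hmem n).2 dvd_rfl)
  -- `l ^ (2 k)` is a square
  have hlm : m * l ^ k = l ^ k * m := ((show Commute m l from hml).zpow_right k).eq
  have hsq : (g⁻¹ * (l ^ k * m) * g) * (g⁻¹ * (l ^ k * m) * g) = g⁻¹ * l ^ (2 * k) * g := by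
    calc (g⁻¹ * (l ^ k * m) * g) * (g⁻¹ * (l ^ k * m) * g) = g⁻¹ * (l ^ k * (m * l ^ k) * m) * g := by group
      _ = g⁻¹ * (l ^ k * l ^ k * (m * m)) * g := by rw [hlm]; group
      _ = g⁻¹ * l ^ (2 * k) * g := by rw [hm, mul_one, ← zpow_add, two_mul]
  have h2k : g⁻¹ * l ^ (2 * k) * g ∈ S0 := by rw [← hsq]; exact hidx2 _ hk
  have h2kX : 2 * k ∈ X := by rw [hX, ← hsq]; exact mul_mem hk hk
  have hkX : k ∉ X := by
    intro h
    rw [hX] at h
    apply hmg
    have e : g⁻¹ * (l ^ k * m) * g = (g⁻¹ * l ^ k * g) * (g⁻¹ * m * g) := by group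
    rw [e] at hk
    exact (mul_mem_cancel_left h).1 hk
  obtain ⟨e, he⟩ := (hmem _).1 h2kX
  -- `e` is odd
  have hodd : Odd e := by
    rw [← Int.not_even_iff_odd]
    rintro ⟨c, rfl⟩
    apply hkX
    rw [hmem]
    exact ⟨c, by linarith⟩
  have hpow : ∀ c : ℤ, g⁻¹ * l ^ (n * c) * g = (g⁻¹ * l ^ n * g) ^ c := by
    intro c
    have : (g⁻¹ * l ^ n * g) ^ c = g⁻¹ * (l ^ n) ^ c * g := by
      have := conj_zpow (i := c) (a := g⁻¹) (b := l ^ n)
      rw [inv_inv] at this
      exact this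
    rw [this, zpow_mul]
  have hnS : g⁻¹ * l ^ n * g ∈ S0 := by
    obtain ⟨c, hc⟩ := hodd
    rw [he, hpow, hc, zpow_add, zpow_one, zpow_mul] at h2k
    have h3 : ((g⁻¹ * l ^ n * g) ^ (2 : ℤ)) ^ c ∈ S0 := by
      apply zpow_mem
      have : (g⁻¹ * l ^ n * g) ^ (2 : ℤ) = (g⁻¹ * l ^ n * g) * (g⁻¹ * l ^ n * g) := by
        rw [zpow_ofNat, pow_two]
      rw [this]; exact hidx2 _ hnX
    exact (mul_mem_cancel_left h3).1 h2k
  obtain ⟨c, hc⟩ := (hmem j).1 ((hX j).2 hj)
  rw [hc, hpow]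
  exact zpow_mem hnS c

theorem isPGroup_zpowers {m : G} (hm : m * m = 1) : IsPGroup 2 (zpowers m) := by
  rintro ⟨x, hx⟩
  obtain ⟨i, rfl⟩ := mem_zpowers_iff.1 hx
  refine ⟨1, Subtype.ext ?_⟩
  show (m ^ i) ^ (2 ^ 1) = 1
  rw [pow_one, pow_two, ← zpow_add, ← two_mul, zpow_mul, zpow_ofNat, pow_two, hm, one_zpow]

/-- one pure element none of whose conjugates lies in `P ∖ S0` -/
theorem noSwap_of_pp {P S0 : Subgroup G} (hidx : ∀ a ∈ P, ∀ b ∈ P, a ∉ S0 → b ∉ S0 → a * b ∈ S0)
    {l m : G} (hm : m * m = 1) (hml : m * l = l * m) (pm : Pure P S0 m)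
    (hm' : ∀ g : G, g⁻¹ * m * g ∈ P → g⁻¹ * m * g ∈ S0) : NoSwap P S0 l := by
  refine ⟨zpowers m, isPGroup_zpowers hm, ?_, fun g hg k hk => ?_⟩
  · intro h hh
    obtain ⟨i, rfl⟩ := mem_zpowers_iff.1 hh
    exact ((show Commute m l from hml).zpow_left i).eq
  · by_cases hmg : g⁻¹ * m * g ∈ P
    · by_contra hu
      refine pm g _ (hm' g hmg) hk hu ?_
      have h1 : l ^ k * m = m * l ^ k := ((show Commute m l from hml).pow_right k).symm.eq
      calc (g⁻¹ * l ^ k * g) * (g⁻¹ * m * g) = g⁻¹ * (l ^ k * m) * g := by group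
        _ = g⁻¹ * (m * l ^ k) * g := by rw [h1]
        _ = (g⁻¹ * m * g) * (g⁻¹ * l ^ k * g) := by group
    · obtain ⟨i, hi⟩ := hg m (mem_zpowers m)
      have h := half_cycle (j := (k : ℤ)) hidx hm hml hi hmg
      rw [zpow_natCast] at h
      exact h hk

/-- two commuting involutions `a`, `b`, and `a`, `b`, `a * b` are all pure: fusion of pure elements to elements of
`P ∖ S0` is allowed -/
theorem noSwap_of_pair {P S0 : Subgroup G} (hidx : ∀ a ∈ P, ∀ b ∈ P, a ∉ S0 → b ∉ S0 → a * b ∈ S0)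
    {l a b : G} (ha : a * a = 1) (hb : b * b = 1) (hab : a * b = b * a) (hal : a * l = l * a) (hbl : b * l = l * b)
    (pa : Pure P S0 a) (pb : Pure P S0 b) (pab : Pure P S0 (a * b)) : NoSwap P S0 l := by
  have hQc : closure {a, b} ≤ centralizer ({l} : Set G) := by
    rw [closure_le]
    rintro x (rfl | rfl)
    · exact mem_centralizer_singleton_iff.2 hal
    · exact mem_centralizer_singleton_iff.2 hbl
  have hQ2 : ∀ x ∈ closure ({a, b} : Set G), x = 1 ∨ x = a ∨ x = b ∨ x = a * b := by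
    let K : Subgroup G :=
      { carrier := {x | x = 1 ∨ x = a ∨ x = b ∨ x = a * b}
        one_mem' := Or.inl rfl
        mul_mem' := by
          have h1 : a * (a * b) = b := by rw [← mul_assoc, ha, one_mul]
          have h2 : b * (a * b) = a := by rw [hab, ← mul_assoc, hb, one_mul]
          have h3 : a * b * a = b := by rw [hab, mul_assoc, ha, mul_one]
          have h4 : a * b * b = a := by rw [mul_assoc, hb, mul_one]
          have h5 : a * b * (a * b) = 1 := by rw [mul_assoc, h2, ha]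
          rintro x y (rfl | rfl | rfl | rfl) (rfl | rfl | rfl | rfl)
          · left; rw [one_mul]
          · right; left; rw [one_mul]
          · right; right; left; rw [one_mul]
          · right; right; right; rw [one_mul]
          · right; left; rw [mul_one]
          · left; exact ha
          · right; right; right; rfl
          · right; right; left; exact h1
          · right; right; left; rw [mul_one]
          · right; right; right; exact hab.symm
          · left; exact hb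
          · right; left; exact h2
          · right; right; right; rw [mul_one]
          · right; right; left; exact h3
          · right; left; exact h4
          · left; exact h5
        inv_mem' := by
          have h1 : a⁻¹ = a := inv_eq_of_mul_eq_one_right ha
          have h2 : b⁻¹ = b := inv_eq_of_mul_eq_one_right hb
          rintro x (rfl | rfl | rfl | rfl)
          · left; exact inv_one
          · right; left; exact h1
          · right; right; left; exact h2
          · right; right; right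
            rw [mul_inv_rev, h1, h2, hab] }
    have hK : closure ({a, b} : Set G) ≤ K := by
      rw [closure_le]
      rintro x (rfl | rfl)
      · right; left; rfl
      · right; right; left; rfl
    exact fun x hx => hK hx
  have hQsq : ∀ x ∈ closure ({a, b} : Set G), x * x = 1 := by
    intro x hx
    rcases hQ2 x hx with rfl | rfl | rfl | rfl
    · exact one_mul 1
    · exact ha
    · exact hb
    · have h2 : b * (a * b) = a := by rw [hab, ← mul_assoc, hb, one_mul]
      rw [mul_assoc, h2, ha]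
  refine ⟨closure {a, b}, ?_, ?_, fun g hg k hk => ?_⟩
  · rintro ⟨x, hx⟩
    refine ⟨1, Subtype.ext ?_⟩
    show x ^ (2 ^ 1) = 1
    rw [pow_one, pow_two, hQsq x hx]
  · intro h hh
    exact mem_centralizer_singleton_iff.1 (hQc hh)
  · have haQ : a ∈ closure ({a, b} : Set G) := subset_closure (Or.inl rfl)
    have hbQ : b ∈ closure ({a, b} : Set G) := subset_closure (Or.inr rfl)
    have hcomm : ∀ v : G, v * l = l * v →
        (g⁻¹ * l ^ k * g) * (g⁻¹ * v * g) = (g⁻¹ * v * g) * (g⁻¹ * l ^ k * g) := by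
      intro v hv
      have h1 : l ^ k * v = v * l ^ k := ((show Commute v l from hv).pow_right k).symm.eq
      calc (g⁻¹ * l ^ k * g) * (g⁻¹ * v * g) = g⁻¹ * (l ^ k * v) * g := by group
        _ = g⁻¹ * (v * l ^ k) * g := by rw [h1]
        _ = (g⁻¹ * v * g) * (g⁻¹ * l ^ k * g) := by group
    by_cases h1 : g⁻¹ * a * g ∈ P
    · by_cases h2 : g⁻¹ * b * g ∈ P
      · by_contra hu
        have h3 : g⁻¹ * a * g ∉ S0 := fun h => pa g _ h hk hu (hcomm a hal)
        have h4 : g⁻¹ * b * g ∉ S0 := fun h => pb g _ h hk hu (hcomm b hbl)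
        have h5 := hidx _ h1 _ h2 h3 h4
        have e : g⁻¹ * a * g * (g⁻¹ * b * g) = g⁻¹ * (a * b) * g := by group
        rw [e] at h5
        exact pab g _ h5 hk hu (hcomm _ (((show Commute a l from hal).mul_left hbl).eq))
      · obtain ⟨i, hi⟩ := hg b hbQ
        have h := half_cycle (j := (k : ℤ)) hidx hb hbl hi h2
        rw [zpow_natCast] at h
        exact h hk
    · obtain ⟨i, hi⟩ := hg a haQ
      have h := half_cycle (j := (k : ℤ)) hidx ha hal hi h1
      rw [zpow_natCast] at h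
      exact h hk

/-- an element normalising a nontrivial 2-group `Z`, inside a 2-group, centralises an involution of `Z` -/
theorem exists_comm [Finite G] {P Z : Subgroup G} (hP : IsPGroup 2 P) (hZP : Z ≤ P) (hZ : Z ≠ ⊥) {l : G} (hl : l ∈ P)
    (hlZ : ∀ z ∈ Z, l * z * l⁻¹ ∈ Z) : ∃ m ∈ Z, m ≠ 1 ∧ m * m = 1 ∧ m * l = l * m := by
  have : Fact (Nat.Prime 2) := ⟨Nat.prime_two⟩
  have hZ2 : IsPGroup 2 Z := hP.to_le hZP
  have hlP : IsPGroup 2 (zpowers l) := hP.to_le (zpowers_le.2 hl)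
  have hnorm : ∀ x ∈ zpowers l, ∀ z ∈ Z, x * z * x⁻¹ ∈ Z := by
    have h1 : l ∈ normalizer (Z : Set G) := mem_normalizer_fintype (fun z hz => hlZ z hz)
    have h2 : zpowers l ≤ normalizer (Z : Set G) := zpowers_le.2 h1
    intro x hx z hz
    exact (mem_normalizer_iff.1 (h2 hx) z).1 hz
  -- the action on `Z`
  let act : MulAction (zpowers l) Z :=
    { smul := fun x z => ⟨x * z * (x : G)⁻¹, hnorm x x.2 z z.2⟩
      one_smul := fun z => Subtype.ext (by
        show ((1 : zpowers l) : G) * z * ((1 : zpowers l) : G)⁻¹ = z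
        simp)
      mul_smul := fun x y z => Subtype.ext (by
        show ((x * y : zpowers l) : G) * z * ((x * y : zpowers l) : G)⁻¹ = x * (y * z * (y : G)⁻¹) * (x : G)⁻¹
        rw [Subgroup.coe_mul]; group) }
  have hc : 2 ∣ Nat.card Z := by
    obtain ⟨n, hn⟩ := IsPGroup.iff_card.1 hZ2
    rcases n with _ | n
    · exfalso
      rw [pow_zero] at hn
      exact hZ (Subgroup.eq_bot_of_card_eq Z hn)
    · rw [hn, pow_succ]; exact Dvd.intro_left _ rfl
  obtain ⟨z, hz, hz1⟩ := hlP.exists_fixed_point_of_prime_dvd_card_of_fixed_point Z hc (a := 1) (by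
    intro x
    apply Subtype.ext
    show (x : G) * ((1 : Z) : G) * (x : G)⁻¹ = _
    simp)
  have hzc : l * (z : G) * l⁻¹ = z := congrArg Subtype.val (hz ⟨l, mem_zpowers l⟩)
  have hzc' : Commute (z : G) l := by
    show (z : G) * l = l * z
    calc (z : G) * l = (l * z * l⁻¹) * l := by rw [hzc]
      _ = l * z := by group
  have hz1' : (z : G) ≠ 1 := fun h => hz1 (Subtype.ext h.symm)
  -- an involution in `⟨z⟩`
  obtain ⟨k, hk⟩ := hZ2 z
  have hk' : (z : G) ^ 2 ^ k = 1 := by
    have := congrArg Subtype.val hk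
    simpa using this
  clear hk
  induction k with
  | zero => exact absurd (by simpa using hk') hz1'
  | succ k ih =>
    by_cases h : (z : G) ^ 2 ^ k = 1
    · exact ih h
    · refine ⟨(z : G) ^ 2 ^ k, pow_mem z.2 _, h, ?_, (hzc'.pow_left _).eq⟩
      rw [← pow_two, ← pow_mul, ← pow_succ, hk']

/-- **`S0 ≤ E`** -/
theorem le_of_pp [Finite G] {P : Sylow 2 G} {S0 E Z : Subgroup G} (hS0 : S0 ≤ (P : Subgroup G))
    {hidx : ∀ a ∈ (P : Subgroup G), ∀ b ∈ (P : Subgroup G), a ∉ S0 → b ∉ S0 → a * b ∈ S0} {t : G}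
    (h1 : MonoidHom.transfer (sgn (P : Subgroup G) S0 hidx) t = -1) (hE : commutator E = ⊤)
    (hGE : ∀ g : G, g ∈ E ∨ t * g ∈ E) (hZS : Z ≤ S0) (hZ1 : Z ≠ ⊥) (hZn : ∀ l ∈ S0, ∀ z ∈ Z, l * z * l⁻¹ ∈ Z)
    (hpure : ∀ m ∈ Z, m ≠ 1 → m * m = 1 → Pure (P : Subgroup G) S0 m)
    (hpp : ∀ m ∈ Z, m ≠ 1 → m * m = 1 → ∀ g : G, g⁻¹ * m * g ∈ (P : Subgroup G) → g⁻¹ * m * g ∈ S0) :
    S0 ≤ E := by
  refine le_of_noSwap' h1 hE hGE (fun l hl hlE => ⟨l, hlE, ?_⟩)
  obtain ⟨m, hmZ, hm1, hm2, hml⟩ := exists_comm P.isPGroup' (hZS.trans hS0) hZ1 (hS0 hl) (hZn l hl)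
  exact noSwap_of_pp hidx hm2 hml (hpure m hmZ hm1 hm2) (hpp m hmZ hm1 hm2)

end Cfsg.Agent.StdRank2.OutSplit
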