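import Cfsg.Agent.StdRank2.OutSplit.OnePure

set_option autoImplicit false

/-!
# Pure elements are not conjugate to swapping elements

`P` a Sylow 2-subgroup, `S0 ≤ P` of index `≤ 2`, `N = S1 × S2 ≤ S0`, `S0 / N` abelian, the elements of `P ∖ S0`
interchange `S1` and `S2`. Assume

* `hW` : `N` is weakly closed in `P`;
* `hD` : an involution `a * b`, `a ∈ S1 ∖ 1`, `b ∈ S2 ∖ 1` is not conjugate into `S1 ∪ S2`.

Let `m` be an involution of `Z(S1)`.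

* `exists_conj` : 2-subgroups of `C_G(m)` are conjugate into `S0`, `m` going to `S1 ∪ S2`.
* `pure_of` : `m` is pure, if every involution of `S0 ∖ N` which commutes with an element of `P ∖ S0` commutes with a
  conjugate of `t`.
* `not_swap` : no conjugate of `m` lies in `P ∖ S0`, if `Z ≤ Z(S1) ∩ ⁅S1, S1⁆` is elementary of order `≥ 4`.
* `le_of_data` : **`S0 ≤ E`**.
-/

namespace Cfsg.Agent.StdRank2.OutSplit

open MulAction Subgroup Cfsg.Agent.StdEven.OuterKill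
open scoped commutatorElement Pointwise

variable {G : Type*} [Group G]

/-- the situation: `N = S1 × S2` weakly closed in `P`, `P ∖ S0` interchanges `S1` and `S2` -/
structure SwapData (P S0 N S1 S2 : Subgroup G) : Prop where
  hidx : ∀ a ∈ P, ∀ b ∈ P, a ∉ S0 → b ∉ S0 → a * b ∈ S0
  hS0 : S0 ≤ P
  hNS : N ≤ S0
  h1N : S1 ≤ N
  h2N : S2 ≤ N
  hsup : ∀ x ∈ N, ∃ a ∈ S1, ∃ b ∈ S2, x = a * b
  hcomm : ∀ a ∈ S1, ∀ b ∈ S2, a * b = b * a
  hdisj : ∀ a ∈ S1, a ∈ S2 → a = 1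
  hsw1 : ∀ u ∈ P, u ∉ S0 → ∀ a ∈ S1, u⁻¹ * a * u ∈ S2
  hsw2 : ∀ u ∈ P, u ∉ S0 → ∀ a ∈ S2, u⁻¹ * a * u ∈ S1
  hW : ∀ g : G, (∀ x ∈ N, g⁻¹ * x * g ∈ P) → ∀ x ∈ N, g⁻¹ * x * g ∈ N
  hD : ∀ a ∈ S1, ∀ b ∈ S2, a ≠ 1 → b ≠ 1 → a * a = 1 → b * b = 1 → ∀ g : G,
    g⁻¹ * (a * b) * g ∉ S1 ∧ g⁻¹ * (a * b) * g ∉ S2

namespace SwapData

variable {P S0 N S1 S2 : Subgroup G}

theorem symm (h : SwapData P S0 N S1 S2) : SwapData P S0 N S2 S1 where
  hidx := h.hidx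
  hS0 := h.hS0
  hNS := h.hNS
  h1N := h.h2N
  h2N := h.h1N
  hsup := by
    intro x hx
    obtain ⟨a, ha, b, hb, rfl⟩ := h.hsup x hx
    exact ⟨b, hb, a, ha, h.hcomm a ha b hb⟩
  hcomm := fun a ha b hb => (h.hcomm b hb a ha).symm
  hdisj := fun a h2 h1 => h.hdisj a h1 h2
  hsw1 := h.hsw2
  hsw2 := h.hsw1
  hW := h.hW
  hD := by
    intro a ha b hb ha1 hb1 ha2 hb2 g
    have := h.hD b hb a ha hb1 ha1 hb2 ha2 g
    rw [h.hcomm b hb a ha] at this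
    exact ⟨this.2, this.1⟩

/-- an element of `P` centralising a nontrivial element of `S1 ∪ S2` lies in `S0` -/
theorem mem_of_comm (h : SwapData P S0 N S1 S2) {u m : G} (hu : u ∈ P) (hm : m ∈ S1 ∨ m ∈ S2) (hm1 : m ≠ 1)
    (hc : u * m = m * u) : u ∈ S0 := by
  by_contra hu0
  have e : u⁻¹ * m * u = m := by rw [mul_assoc, ← hc, ← mul_assoc, inv_mul_cancel, one_mul]
  rcases hm with hm | hm
  · have := h.hsw1 u hu hu0 m hm
    rw [e] at this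
    exact hm1 (h.hdisj m hm this)
  · have := h.hsw2 u hu hu0 m hm
    rw [e] at this
    exact hm1 (h.hdisj m this hm)

/-- components of an involution -/
theorem comp_sq (h : SwapData P S0 N S1 S2) {a b : G} (ha : a ∈ S1) (hb : b ∈ S2) (hab : a * b * (a * b) = 1) :
    a * a = 1 ∧ b * b = 1 := by
  have e : a * a * (b * b) = 1 := by
    calc a * a * (b * b) = a * (a * b) * b := by group
      _ = a * (b * a) * b := by rw [h.hcomm a ha b hb]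
      _ = a * b * (a * b) := by group
      _ = 1 := hab
  have h1 : a * a = (b * b)⁻¹ := eq_inv_of_mul_eq_one_left e
  have h2 : a * a = 1 := h.hdisj _ (mul_mem ha ha) (by rw [h1]; exact inv_mem (mul_mem hb hb))
  refine ⟨h2, ?_⟩
  rw [h2, one_mul] at e
  exact e

/-- an involution of `N` which is conjugate into `S1 ∪ S2` is in `S1 ∪ S2` -/
theorem mem_or (h : SwapData P S0 N S1 S2) {x m g : G} (hx : x ∈ N) (hx2 : x * x = 1) (hm : m ∈ S1 ∨ m ∈ S2)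
    (he : g⁻¹ * x * g = m) : x ∈ S1 ∨ x ∈ S2 := by
  obtain ⟨a, ha, b, hb, rfl⟩ := h.hsup x hx
  obtain ⟨ha2, hb2⟩ := h.comp_sq ha hb hx2
  by_cases ha1 : a = 1
  · right; rw [ha1, one_mul]; exact hb
  by_cases hb1 : b = 1
  · left; rw [hb1, mul_one]; exact ha
  have := h.hD a ha b hb ha1 hb1 ha2 hb2 g
  rw [he] at this
  rcases hm with hm | hm
  · exact absurd hm this.1
  · exact absurd hm this.2

end SwapData

/-- **2-subgroups of the centraliser of a pure element.** -/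
theorem exists_conj [Finite G] {P : Sylow 2 G} {S0 N S1 S2 : Subgroup G} (h : SwapData (P : Subgroup G) S0 N S1 S2)
    {m : G} (hm : m ∈ S1) (hm1 : m ≠ 1) (hm2 : m * m = 1) (hmc : ∀ a ∈ S1, m * a = a * m) {C : Subgroup G}
    (hC : IsPGroup 2 C) (hCm : ∀ c ∈ C, c * m = m * c) :
    ∃ g : G, (∀ c ∈ C, g⁻¹ * c * g ∈ S0) ∧ (g⁻¹ * m * g ∈ S1 ∨ g⁻¹ * m * g ∈ S2) := by
  have : Fact (Nat.Prime 2) := ⟨Nat.prime_two⟩
  let K : Subgroup G := centralizer ({m} : Set G)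
  have hK : ∀ x, x ∈ K ↔ x * m = m * x := fun x => by
    rw [mem_centralizer_singleton_iff]
  have hNK : N ≤ K := by
    intro x hx
    obtain ⟨a, ha, b, hb, rfl⟩ := h.hsup x hx
    rw [hK, mul_assoc, ← h.hcomm m hm b hb, ← mul_assoc, ← hmc a ha, mul_assoc]
  have hCK : C ≤ K := fun x hx => (hK x).2 (hCm x hx)
  have hN2 : IsPGroup 2 N := P.isPGroup'.to_le (h.hNS.trans h.hS0)
  obtain ⟨Q1, hQ1⟩ := (hN2.comap_of_injective K.subtype K.subtype_injective :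
    IsPGroup 2 (N.subgroupOf K)).exists_le_sylow
  obtain ⟨Q2, hQ2⟩ := (hC.comap_of_injective K.subtype K.subtype_injective :
    IsPGroup 2 (C.subgroupOf K)).exists_le_sylow
  obtain ⟨c, hc⟩ := exists_smul_eq K Q1 Q2
  -- `Q1 ^ (c⁻¹) = Q2`
  have hQ : ∀ x ∈ Q2, c⁻¹ * x * c ∈ Q1 := by
    intro x hx
    rw [← hc] at hx
    have h1 : x ∈ (MulAut.conj c • (Q1 : Subgroup K)) := hx
    rw [Subgroup.mem_pointwise_smul_iff_inv_smul_mem] at h1
    have e : (MulAut.conj c)⁻¹ • x = c⁻¹ * x * c := by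
      rw [← map_inv, MulAut.smul_def, MulAut.conj_apply, inv_inv]
    rw [e] at h1
    exact h1
  have hQ1' : IsPGroup 2 ((Q1 : Subgroup K).map K.subtype) := Q1.isPGroup'.map _
  obtain ⟨Q3, hQ3⟩ := hQ1'.exists_le_sylow
  obtain ⟨d, hd⟩ := exists_smul_eq G P Q3
  have hd' : ∀ x ∈ Q3, d⁻¹ * x * d ∈ (P : Subgroup G) := by
    intro x hx
    rw [← hd] at hx
    have h1 : x ∈ (MulAut.conj d • (P : Subgroup G)) := hx
    rw [Subgroup.mem_pointwise_smul_iff_inv_smul_mem] at h1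
    have e : (MulAut.conj d)⁻¹ • x = d⁻¹ * x * d := by
      rw [← map_inv, MulAut.smul_def, MulAut.conj_apply, inv_inv]
    rw [e] at h1
    exact h1
  have hNd : ∀ x ∈ N, d⁻¹ * x * d ∈ N := h.hW d (fun x hx => hd' x (hQ3 ⟨⟨x, hNK hx⟩, hQ1 (mem_subgroupOf.2 hx), rfl⟩))
  have hcm : (c : G) * m = m * c := (hK c).1 c.2
  have hcm' : (c : G)⁻¹ * m * c = m := by rw [mul_assoc, ← hcm, ← mul_assoc, inv_mul_cancel, one_mul]
  have hmN : m ∈ N := h.h1N hm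
  have hmd : d⁻¹ * m * d ∈ S1 ∨ d⁻¹ * m * d ∈ S2 := by
    refine h.mem_or (g := d⁻¹) (hNd m hmN) ?_ (Or.inl hm) (by group)
    calc d⁻¹ * m * d * (d⁻¹ * m * d) = d⁻¹ * (m * m) * d := by group
      _ = 1 := by rw [hm2]; group
  have hmd1 : d⁻¹ * m * d ≠ 1 := by
    intro he
    apply hm1
    calc m = d * (d⁻¹ * m * d) * d⁻¹ := by group
      _ = 1 := by rw [he]; group
  refine ⟨c * d, ?_, ?_⟩
  · intro x hx
    have h1 : c⁻¹ * ⟨x, hCK hx⟩ * c ∈ Q1 := hQ _ (hQ2 (mem_subgroupOf.2 hx))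
    have h2 : d⁻¹ * ((c : G)⁻¹ * x * c) * d ∈ (P : Subgroup G) := hd' _ (hQ3 ⟨_, h1, rfl⟩)
    have e : ((c : G) * d)⁻¹ * x * (c * d) = d⁻¹ * ((c : G)⁻¹ * x * c) * d := by group
    rw [e]
    refine h.mem_of_comm h2 hmd hmd1 ?_
    have h3 : ((c : G)⁻¹ * x * c) * m = m * ((c : G)⁻¹ * x * c) := by
      calc ((c : G)⁻¹ * x * c) * m = (c : G)⁻¹ * x * (c * m) := by group
        _ = (c : G)⁻¹ * (x * m) * c := by rw [hcm]; group
        _ = (c : G)⁻¹ * (m * x) * c := by rw [hCm x hx]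
        _ = ((c : G)⁻¹ * m * c) * ((c : G)⁻¹ * x * c) := by group
        _ = m * ((c : G)⁻¹ * x * c) := by rw [hcm']
    calc d⁻¹ * ((c : G)⁻¹ * x * c) * d * (d⁻¹ * m * d) = d⁻¹ * (((c : G)⁻¹ * x * c) * m) * d := by group
      _ = d⁻¹ * (m * ((c : G)⁻¹ * x * c)) * d := by rw [h3]
      _ = d⁻¹ * m * d * (d⁻¹ * ((c : G)⁻¹ * x * c) * d) := by group
  · have e : ((c : G) * d)⁻¹ * m * (c * d) = d⁻¹ * m * d := by
      calc ((c : G) * d)⁻¹ * m * (c * d) = d⁻¹ * ((c : G)⁻¹ * m * c) * d := by group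
        _ = d⁻¹ * m * d := by rw [hcm']
    rw [e]
    exact hmd

/-- (a) a pure element commutes with no conjugate of `t` -/
theorem not_comm_t [Finite G] {P : Sylow 2 G} {S0 N S1 S2 : Subgroup G} (h : SwapData (P : Subgroup G) S0 N S1 S2)
    {t : G} (ht : t * t = 1) (hF1 : ∀ g : G, g⁻¹ * t * g ∉ S0)
    {m : G} (hm : m ∈ S1) (hm1 : m ≠ 1) (hm2 : m * m = 1) (hmc : ∀ a ∈ S1, m * a = a * m) (x : G) :
    (x⁻¹ * t * x) * m ≠ m * (x⁻¹ * t * x) := by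
  intro hc
  have h2 : (x⁻¹ * t * x) * (x⁻¹ * t * x) = 1 := by
    calc (x⁻¹ * t * x) * (x⁻¹ * t * x) = x⁻¹ * (t * t) * x := by group
      _ = 1 := by rw [ht]; group
  obtain ⟨g, hg, -⟩ := exists_conj h hm hm1 hm2 hmc (isPGroup_zpowers h2) (by
    intro c hcc
    obtain ⟨i, rfl⟩ := mem_zpowers_iff.1 hcc
    exact ((show Commute (x⁻¹ * t * x) m from hc).zpow_left i).eq)
  have h3 := hg _ (mem_zpowers _)
  have e : g⁻¹ * (x⁻¹ * t * x) * g = (x * g)⁻¹ * t * (x * g) := by group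
  rw [e] at h3
  exact hF1 _ h3

/-- (b) a pure element is pure -/
theorem pure_of [Finite G] {P : Sylow 2 G} {S0 N S1 S2 : Subgroup G} (h : SwapData (P : Subgroup G) S0 N S1 S2)
    {t : G} (ht : t * t = 1) (hF1 : ∀ g : G, g⁻¹ * t * g ∉ S0)
    (hO : ∀ w ∈ S0, w ∉ N → w * w = 1 → ∀ u ∈ (P : Subgroup G), u ∉ S0 → u * w = w * u →
      ∃ x : G, (x⁻¹ * t * x) * w = w * (x⁻¹ * t * x))
    {m : G} (hm : m ∈ S1) (hm1 : m ≠ 1) (hm2 : m * m = 1) (hmc : ∀ a ∈ S1, m * a = a * m) :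
    Pure (P : Subgroup G) S0 m := by
  intro g u hg hu hu0 hc
  have hw2 : g⁻¹ * m * g * (g⁻¹ * m * g) = 1 := by
    calc g⁻¹ * m * g * (g⁻¹ * m * g) = g⁻¹ * (m * m) * g := by group
      _ = 1 := by rw [hm2]; group
  have hw1 : g⁻¹ * m * g ≠ 1 := by
    intro he
    apply hm1
    calc m = g * (g⁻¹ * m * g) * g⁻¹ := by group
      _ = 1 := by rw [he]; group
  by_cases hN : g⁻¹ * m * g ∈ N
  · have h1 := h.mem_or (g := g⁻¹) hN hw2 (Or.inl hm) (by group)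
    exact hu0 (h.mem_of_comm hu h1 hw1 hc)
  · obtain ⟨x, hx⟩ := hO _ hg hN hw2 u hu hu0 hc
    refine not_comm_t h ht hF1 hm hm1 hm2 hmc (x * g⁻¹) ?_
    calc (x * g⁻¹)⁻¹ * t * (x * g⁻¹) * m = g * ((x⁻¹ * t * x) * (g⁻¹ * m * g)) * g⁻¹ := by group
      _ = g * ((g⁻¹ * m * g) * (x⁻¹ * t * x)) * g⁻¹ := by rw [hx]
      _ = m * ((x * g⁻¹)⁻¹ * t * (x * g⁻¹)) := by group

/-- (c) **a pure element is not conjugate to a swapping element** -/
theorem not_swap [Finite G] {P : Sylow 2 G} {S0 N S1 S2 Z : Subgroup G} (h : SwapData (P : Subgroup G) S0 N S1 S2)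
    (hab : ∀ a ∈ S0, ∀ b ∈ S0, ⁅a, b⁆ ∈ N) (hZ1 : Z ≤ S1) (hZc : ∀ z ∈ Z, ∀ a ∈ S1, z * a = a * z)
    (hZ' : Z ≤ ⁅S1, S1⁆) (hZ2 : ∀ z ∈ Z, z * z = 1)
    (hZ4 : ∃ b ∈ Z, ∃ b' ∈ Z, b ≠ 1 ∧ b' ≠ 1 ∧ b ≠ b')
    {m : G} (hm : m ∈ Z) (hm1 : m ≠ 1) {g : G} (hg : g⁻¹ * m * g ∈ (P : Subgroup G)) : g⁻¹ * m * g ∈ S0 := by
  by_contra hw0
  have hm2 := hZ2 m hm
  obtain ⟨w, hwdef⟩ : ∃ w, w = g⁻¹ * m * g := ⟨_, rfl⟩
  rw [← hwdef] at hg hw0
  have hw2 : w * w = 1 := by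
    rw [hwdef]
    calc g⁻¹ * m * g * (g⁻¹ * m * g) = g⁻¹ * (m * m) * g := by group
      _ = 1 := by rw [hm2]; group
  have hwi : w⁻¹ = w := inv_eq_of_mul_eq_one_right hw2
  -- the 2-group `C_P(w) ^ g⁻¹`
  let C : Subgroup G := ((P : Subgroup G) ⊓ centralizer ({w} : Set G)).map (MulAut.conj g).toMonoidHom
  have hC : IsPGroup 2 C := (P.isPGroup'.to_le inf_le_left).map _
  have hCmem : ∀ x ∈ (P : Subgroup G), x * w = w * x → g * x * g⁻¹ ∈ C := by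
    intro x hx hxw
    exact ⟨x, ⟨hx, mem_centralizer_singleton_iff.2 hxw⟩, by simp⟩
  have hCm : ∀ c ∈ C, c * m = m * c := by
    rintro c ⟨x, ⟨hx, hxw⟩, rfl⟩
    have hxw' : x * w = w * x := mem_centralizer_singleton_iff.1 hxw
    have hmw : m = g * w * g⁻¹ := by rw [hwdef]; group
    show g * x * g⁻¹ * m = m * (g * x * g⁻¹)
    calc g * x * g⁻¹ * m = g * (x * w) * g⁻¹ := by rw [hmw]; group
      _ = g * (w * x) * g⁻¹ := by rw [hxw']
      _ = m * (g * x * g⁻¹) := by rw [hmw]; group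
  obtain ⟨d, hd, hmd⟩ := exists_conj h (hZ1 hm) hm1 hm2 (hZc m hm) hC hCm
  -- `k = g⁻¹ d`
  obtain ⟨k, hk⟩ : ∃ k, k = g⁻¹ * d := ⟨_, rfl⟩
  have hkS : ∀ x ∈ (P : Subgroup G), x * w = w * x → k⁻¹ * x * k ∈ S0 := by
    intro x hx hxw
    have h1 := hd _ (hCmem x hx hxw)
    have e : k⁻¹ * x * k = d⁻¹ * (g * x * g⁻¹) * d := by rw [hk]; group
    rw [e]; exact h1
  obtain ⟨m1, hm1def⟩ : ∃ m1, m1 = k⁻¹ * w * k := ⟨_, rfl⟩
  have hm1e : m1 = d⁻¹ * m * d := by rw [hm1def, hk, hwdef]; group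
  rw [← hm1e] at hmd
  have hm1ne : m1 ≠ 1 := by
    intro he
    apply hm1
    rw [hm1e] at he
    calc m = d * (d⁻¹ * m * d) * d⁻¹ := by group
      _ = 1 := by rw [he]; group
  have hm1sq : m1 * m1 = 1 := by
    rw [hm1def]
    calc k⁻¹ * w * k * (k⁻¹ * w * k) = k⁻¹ * (w * w) * k := by group
      _ = 1 := by rw [hw2]; group
  -- the diagonal subgroup of `N` centralised by `w`
  have hS1P : ∀ a ∈ S1, a ∈ (P : Subgroup G) := fun a ha => h.hS0 (h.hNS (h.h1N ha))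
  have hdiag : ∀ a ∈ S1, ∀ b ∈ S1, a * (w⁻¹ * b * w) = (w⁻¹ * b * w) * a :=
    fun a ha b hb => h.hcomm a ha _ (h.hsw1 w hg hw0 b hb)
  have hdw : ∀ a ∈ S1, (a * (w⁻¹ * a * w)) * w = w * (a * (w⁻¹ * a * w)) := by
    intro a ha
    calc (a * (w⁻¹ * a * w)) * w = ((w⁻¹ * a * w) * a) * w := by rw [hdiag a ha a ha]
      _ = (w⁻¹ * a * w) * (a * w) := by group
      _ = (w * a * w) * (a * w) := by rw [hwi]
      _ = w * (a * (w * a * w)) := by group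
      _ = w * (a * (w⁻¹ * a * w)) := by rw [hwi]
  let δ : S1 →* G :=
    { toFun := fun a => k⁻¹ * ((a : G) * (w⁻¹ * a * w)) * k
      map_one' := by
        show k⁻¹ * (((1 : S1) : G) * (w⁻¹ * ((1 : S1) : G) * w)) * k = 1
        rw [OneMemClass.coe_one]; group
      map_mul' := by
        intro a b
        show k⁻¹ * (((a : G) * b) * (w⁻¹ * ((a : G) * b) * w)) * k = _
        have e := hdiag b b.2 a a.2
        calc k⁻¹ * (((a : G) * b) * (w⁻¹ * ((a : G) * b) * w)) * k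
            = k⁻¹ * ((a : G) * ((b : G) * (w⁻¹ * a * w)) * (w⁻¹ * b * w)) * k := by group
          _ = k⁻¹ * ((a : G) * ((w⁻¹ * a * w) * b) * (w⁻¹ * b * w)) * k := by rw [e]
          _ = k⁻¹ * ((a : G) * (w⁻¹ * a * w)) * k * (k⁻¹ * ((b : G) * (w⁻¹ * b * w)) * k) := by group }
  have hδ : ∀ a (ha : a ∈ S1), δ ⟨a, ha⟩ = k⁻¹ * (a * (w⁻¹ * a * w)) * k := fun _ _ => rfl
  have hδS : ∀ a : S1, δ a ∈ S0 := by
    intro a
    refine hkS _ (mul_mem (hS1P a a.2) (mul_mem (mul_mem (inv_mem hg) (hS1P a a.2)) hg)) (hdw a a.2)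
  have hδN : ∀ z (hz : z ∈ Z), δ ⟨z, hZ1 hz⟩ ∈ N := by
    intro z hz
    have h1 : ⁅S1, S1⁆ ≤ (N.comap δ).map S1.subtype := by
      rw [commutator_le]
      intro a ha b hb
      refine ⟨⁅(⟨a, ha⟩ : S1), ⟨b, hb⟩⁆, ?_, rfl⟩
      show δ ⁅(⟨a, ha⟩ : S1), ⟨b, hb⟩⁆ ∈ N
      rw [map_commutatorElement]
      exact hab _ (hδS _) _ (hδS _)
    obtain ⟨a, ha, he⟩ := h1 (hZ' hz)
    have : a = ⟨z, hZ1 hz⟩ := Subtype.ext he
    rw [← this]
    exact ha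
  -- the components
  have hcase : ∀ z (hz : z ∈ Z), z ≠ 1 → δ ⟨z, hZ1 hz⟩ ∉ S1 ∧ δ ⟨z, hZ1 hz⟩ ∉ S2 := by
    intro z hz hz1
    rw [hδ]
    refine h.hD z (hZ1 hz) _ (h.hsw1 w hg hw0 z (hZ1 hz)) hz1 ?_ (hZ2 z hz) ?_ k
    · intro he
      apply hz1
      calc z = w * (w⁻¹ * z * w) * w⁻¹ := by group
        _ = 1 := by rw [he]; group
    · calc w⁻¹ * z * w * (w⁻¹ * z * w) = w⁻¹ * (z * z) * w := by group
        _ = 1 := by rw [hZ2 z hz]; group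
  have hδsq : ∀ z (hz : z ∈ Z), δ ⟨z, hZ1 hz⟩ * δ ⟨z, hZ1 hz⟩ = 1 := by
    intro z hz
    rw [← map_mul]
    have : (⟨z, hZ1 hz⟩ : S1) * ⟨z, hZ1 hz⟩ = 1 := Subtype.ext (hZ2 z hz)
    rw [this, map_one]
  have hδm : ∀ z (hz : z ∈ Z), δ ⟨z, hZ1 hz⟩ * m1 = m1 * δ ⟨z, hZ1 hz⟩ := by
    intro z hz
    rw [hδ, hm1def]
    calc k⁻¹ * (z * (w⁻¹ * z * w)) * k * (k⁻¹ * w * k) = k⁻¹ * ((z * (w⁻¹ * z * w)) * w) * k := by group
      _ = k⁻¹ * (w * (z * (w⁻¹ * z * w))) * k := by rw [hdw z (hZ1 hz)]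
      _ = k⁻¹ * w * k * (k⁻¹ * (z * (w⁻¹ * z * w)) * k) := by group
  -- `m1 * δ z` is conjugate to `m`
  have hconj : ∀ z (hz : z ∈ Z), ∃ c : G, c⁻¹ * (m1 * δ ⟨z, hZ1 hz⟩) * c = m := by
    intro z hz
    have hzi : z⁻¹ = z := inv_eq_of_mul_eq_one_right (hZ2 z hz)
    have e1 : w * (z * (w⁻¹ * z * w)) = z⁻¹ * w * z := by
      calc w * (z * (w⁻¹ * z * w)) = w * ((w⁻¹ * z * w) * z) := by rw [hdiag z (hZ1 hz) z (hZ1 hz)]
        _ = z * w * z := by group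
        _ = z⁻¹ * w * z := by rw [hzi]
    refine ⟨k⁻¹ * z⁻¹ * g⁻¹, ?_⟩
    rw [hδ, hm1def]
    calc (k⁻¹ * z⁻¹ * g⁻¹)⁻¹ * (k⁻¹ * w * k * (k⁻¹ * (z * (w⁻¹ * z * w)) * k)) * (k⁻¹ * z⁻¹ * g⁻¹)
        = g * z * (w * (z * (w⁻¹ * z * w))) * z⁻¹ * g⁻¹ := by group
      _ = g * z * (z⁻¹ * w * z) * z⁻¹ * g⁻¹ := by rw [e1]
      _ = g * w * g⁻¹ := by group
      _ = m := by rw [hwdef]; group
  obtain ⟨b, hb, b', hb', hb1, hb'1, hbb⟩ := hZ4
  have hbb1 : b * b' ≠ 1 := by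
    intro he
    apply hbb
    have : b = b'⁻¹ := eq_inv_of_mul_eq_one_left he
    rw [this]
    exact inv_eq_of_mul_eq_one_right (hZ2 b' hb')
  have hmulδ : δ ⟨b * b', hZ1 (mul_mem hb hb')⟩ = δ ⟨b, hZ1 hb⟩ * δ ⟨b', hZ1 hb'⟩ := by
    rw [← map_mul]; rfl
  rcases hmd with hmd | hmd
  · have key : ∀ z (hz : z ∈ Z), z ≠ 1 → ∃ c ∈ S2, δ ⟨z, hZ1 hz⟩ = m1 * c := by
      intro z hz hz1
      obtain ⟨a, ha, c, hc, he⟩ := h.hsup _ (hδN z hz)
      obtain ⟨hn1, hn2⟩ := hcase z hz hz1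
      have hsq := hδsq z hz
      rw [he] at hsq hn1 hn2
      obtain ⟨ha2, hc2⟩ := h.comp_sq ha hc hsq
      have hc1 : c ≠ 1 := fun hc1 => hn1 (by rw [hc1, mul_one]; exact ha)
      have hcm := hδm z hz
      rw [he] at hcm
      have ham : a * m1 = m1 * a := by
        have e : a * m1 * c = m1 * a * c := by
          calc a * m1 * c = a * (m1 * c) := by group
            _ = a * (c * m1) := by rw [h.hcomm m1 hmd c hc]
            _ = a * c * m1 := by group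
            _ = m1 * (a * c) := hcm
            _ = m1 * a * c := by group
        exact mul_right_cancel e
      have h3 : m1 * a = 1 := by
        by_contra hne
        obtain ⟨x, hx⟩ := hconj z hz
        have h4 := h.hD (m1 * a) (mul_mem hmd ha) c hc hne hc1 (by
          calc m1 * a * (m1 * a) = m1 * (a * m1) * a := by group
            _ = m1 * (m1 * a) * a := by rw [ham]
            _ = (m1 * m1) * (a * a) := by group
            _ = 1 := by rw [hm1sq, ha2, one_mul]) hc2 x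
        rw [he, ← mul_assoc m1 a c] at hx
        rw [hx] at h4
        exact h4.1 (hZ1 hm)
      refine ⟨c, hc, ?_⟩
      rw [he]
      have : a = m1 := by
        have h5 : a = m1⁻¹ := eq_inv_of_mul_eq_one_right h3
        rw [h5]; exact inv_eq_of_mul_eq_one_right hm1sq
      rw [this]
    obtain ⟨c, hc, hce⟩ := key b hb hb1
    obtain ⟨c', hc', hce'⟩ := key b' hb' hb'1
    apply (hcase (b * b') (mul_mem hb hb') hbb1).2
    rw [hmulδ, hce, hce']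
    have e : m1 * c * (m1 * c') = c * c' := by
      calc m1 * c * (m1 * c') = m1 * (c * m1) * c' := by group
        _ = m1 * (m1 * c) * c' := by rw [h.hcomm m1 hmd c hc]
        _ = (m1 * m1) * (c * c') := by group
        _ = c * c' := by rw [hm1sq, one_mul]
    rw [e]
    exact mul_mem hc hc'
  · have key : ∀ z (hz : z ∈ Z), z ≠ 1 → ∃ c ∈ S1, δ ⟨z, hZ1 hz⟩ = c * m1 := by
      intro z hz hz1
      obtain ⟨a, ha, c, hc, he⟩ := h.hsup _ (hδN z hz)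
      obtain ⟨hn1, hn2⟩ := hcase z hz hz1
      have hsq := hδsq z hz
      rw [he] at hsq hn1 hn2
      obtain ⟨ha2, hc2⟩ := h.comp_sq ha hc hsq
      have ha1 : a ≠ 1 := fun ha1 => hn2 (by rw [ha1, one_mul]; exact hc)
      have hcm := hδm z hz
      rw [he] at hcm
      have hcm1 : c * m1 = m1 * c := by
        have e : a * (c * m1) = a * (m1 * c) := by
          calc a * (c * m1) = a * c * m1 := by group
            _ = m1 * (a * c) := hcm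
            _ = (m1 * a) * c := by group
            _ = (a * m1) * c := by rw [h.hcomm a ha m1 hmd]
            _ = a * (m1 * c) := by group
        exact mul_left_cancel e
      have h3 : m1 * c = 1 := by
        by_contra hne
        obtain ⟨x, hx⟩ := hconj z hz
        have h4 := h.hD a ha (m1 * c) (mul_mem hmd hc) ha1 hne ha2 (by
          calc m1 * c * (m1 * c) = m1 * (c * m1) * c := by group
            _ = m1 * (m1 * c) * c := by rw [hcm1]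
            _ = (m1 * m1) * (c * c) := by group
            _ = 1 := by rw [hm1sq, hc2, one_mul]) x
        rw [he] at hx
        have e : m1 * (a * c) = a * (m1 * c) := by
          calc m1 * (a * c) = (m1 * a) * c := by group
            _ = (a * m1) * c := by rw [h.hcomm a ha m1 hmd]
            _ = a * (m1 * c) := by group
        rw [e] at hx
        rw [hx] at h4
        exact h4.1 (hZ1 hm)
      refine ⟨a, ha, ?_⟩
      rw [he]
      have : c = m1 := by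
        have h5 : c = m1⁻¹ := eq_inv_of_mul_eq_one_right h3
        rw [h5]; exact inv_eq_of_mul_eq_one_right hm1sq
      rw [this]
    obtain ⟨c, hc, hce⟩ := key b hb hb1
    obtain ⟨c', hc', hce'⟩ := key b' hb' hb'1
    apply (hcase (b * b') (mul_mem hb hb') hbb1).1
    rw [hmulδ, hce, hce']
    have e : c * m1 * (c' * m1) = c * c' := by
      calc c * m1 * (c' * m1) = c * (m1 * c') * m1 := by group
        _ = c * (c' * m1) * m1 := by rw [h.hcomm c' hc' m1 hmd]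
        _ = (c * c') * (m1 * m1) := by group
        _ = c * c' := by rw [hm1sq, mul_one]
    rw [e]
    exact mul_mem hc hc'

/-- **`S0 ≤ E`** from weak closure of `N`, `(D)`, and the description of the involutions of `S0 ∖ N` which commute with
swapping elements -/
theorem le_of_data [Finite G] {P : Sylow 2 G} {S0 E N S1 S2 Z : Subgroup G}
    (h : SwapData (P : Subgroup G) S0 N S1 S2) {t : G} (ht : t * t = 1) (htP : t ∈ (P : Subgroup G))
    (hF1 : ∀ g : G, g⁻¹ * t * g ∉ S0) (hE : commutator E = ⊤) (hGE : ∀ g : G, g ∈ E ∨ t * g ∈ E)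
    (hab : ∀ a ∈ S0, ∀ b ∈ S0, ⁅a, b⁆ ∈ N) (hZ1 : Z ≤ S1) (hZc : ∀ z ∈ Z, ∀ a ∈ S1, z * a = a * z)
    (hZ' : Z ≤ ⁅S1, S1⁆) (hZ2 : ∀ z ∈ Z, z * z = 1)
    (hZ4 : ∃ b ∈ Z, ∃ b' ∈ Z, b ≠ 1 ∧ b' ≠ 1 ∧ b ≠ b') (hZn : ∀ l ∈ S0, ∀ z ∈ Z, l * z * l⁻¹ ∈ Z)
    (hO : ∀ w ∈ S0, w ∉ N → w * w = 1 → ∀ u ∈ (P : Subgroup G), u ∉ S0 → u * w = w * u →
      ∃ x : G, (x⁻¹ * t * x) * w = w * (x⁻¹ * t * x)) : S0 ≤ E := by
  obtain ⟨b, hb, b', -, hb1, -, -⟩ := id hZ4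
  refine le_of_pp (Z := Z) (hidx := h.hidx) h.hS0 (transfer_sgn_t h.hidx ht htP (fun g _ => hF1 g)) hE hGE
    (hZ1.trans (h.h1N.trans h.hNS)) ?_ hZn ?_ ?_
  · intro he
    rw [he, mem_bot] at hb
    exact hb1 hb
  · intro m hm hm1 hm2
    exact pure_of h ht hF1 hO (hZ1 hm) hm1 hm2 (hZc m hm)
  · intro m hm hm1 _ g hg
    exact not_swap h hab hZ1 hZc hZ' hZ2 hZ4 hm hm1 hg

end Cfsg.Agent.StdRank2.OutSplit
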