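import Cfsg.Agent.StdRank2.OutSplit.Main

set_option autoImplicit false

/-!
# S1778, split case with outer 2-elements: `S0 ≤ E` (short version)

If `l` commutes with an involution `e` no conjugate of which (in `P`) commutes with a swapping element of `P`, then
`l` is never fused to a swapping element in the sense of `NoSwap`.  Hence `S0 ≤ E` if every element of `S0` commutes
with such an involution.
-/

namespace Cfsg.Agent.StdRank2.OutSplit

open MulAction Subgroup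

variable {G : Type*} [Group G]

/-- No conjugate of `e` in `P` commutes with an element of `P ∖ S0`. -/
def PureE (P S0 : Subgroup G) (e : G) : Prop :=
  ∀ g : G, g⁻¹ * e * g ∈ P → ∀ u ∈ P, u ∉ S0 → u * (g⁻¹ * e * g) ≠ (g⁻¹ * e * g) * u

theorem noSwap_of_pure {P S0 : Subgroup G} (hS0 : S0 ≤ P)
    (hidx : ∀ a ∈ P, ∀ b ∈ P, a ∉ S0 → b ∉ S0 → a * b ∈ S0) {l e : G} (he : e * e = 1) (hel : e * l = l * e)
    (hp : PureE P S0 e) : NoSwap P S0 l := by
  have hsq : ∀ w ∈ P, w * w ∈ S0 := by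
    intro w hw
    by_cases h : w ∈ S0
    · exact mul_mem h h
    · exact hidx w hw w hw h h
  refine ⟨zpowers e, ?_, ?_, ?_⟩
  · rintro ⟨x, hx⟩
    refine ⟨1, Subtype.ext ?_⟩
    obtain ⟨k, rfl⟩ := mem_zpowers_iff.1 hx
    show (e ^ k) ^ 2 ^ 1 = 1
    rw [pow_one, pow_two, ← (Commute.refl e).mul_zpow, he, one_zpow]
  · intro h hh
    obtain ⟨k, rfl⟩ := mem_zpowers_iff.1 hh
    exact (show Commute e l from hel).zpow_left k
  · intro g hQ k hk
    obtain ⟨j, hj⟩ := hQ e (mem_zpowers e)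
    -- the exponents
    let D : AddSubgroup ℤ :=
      { carrier := {n | g⁻¹ * l ^ n * g ∈ P}
        zero_mem' := by simp
        add_mem' := by
          intro a b ha hb
          have e1 : g⁻¹ * l ^ (a + b) * g = (g⁻¹ * l ^ a * g) * (g⁻¹ * l ^ b * g) := by rw [zpow_add]; group
          show g⁻¹ * l ^ (a + b) * g ∈ P
          rw [e1]; exact mul_mem ha hb
        neg_mem' := by
          intro a ha
          have e1 : g⁻¹ * l ^ (-a) * g = (g⁻¹ * l ^ a * g)⁻¹ := by rw [zpow_neg]; group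
          show g⁻¹ * l ^ (-a) * g ∈ P
          rw [e1]; exact inv_mem ha }
    let D0 : AddSubgroup ℤ :=
      { carrier := {n | g⁻¹ * l ^ n * g ∈ S0}
        zero_mem' := by simp
        add_mem' := by
          intro a b ha hb
          have e1 : g⁻¹ * l ^ (a + b) * g = (g⁻¹ * l ^ a * g) * (g⁻¹ * l ^ b * g) := by rw [zpow_add]; group
          show g⁻¹ * l ^ (a + b) * g ∈ S0
          rw [e1]; exact mul_mem ha hb
        neg_mem' := by
          intro a ha
          have e1 : g⁻¹ * l ^ (-a) * g = (g⁻¹ * l ^ a * g)⁻¹ := by rw [zpow_neg]; group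
          show g⁻¹ * l ^ (-a) * g ∈ S0
          rw [e1]; exact inv_mem ha }
    have hD : ∀ n : ℤ, n ∈ D ↔ g⁻¹ * l ^ n * g ∈ P := fun _ => Iff.rfl
    have hD0 : ∀ n : ℤ, n ∈ D0 ↔ g⁻¹ * l ^ n * g ∈ S0 := fun _ => Iff.rfl
    have h2 : ∀ n ∈ D, n + n ∈ D0 := by
      intro n hn
      rw [hD0, zpow_add]
      have e1 : g⁻¹ * (l ^ n * l ^ n) * g = (g⁻¹ * l ^ n * g) * (g⁻¹ * l ^ n * g) := by group
      rw [e1]; exact hsq _ hn
    have hkD : (k : ℤ) ∈ D := by rw [hD, zpow_natCast]; exact hk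
    suffices h : D ≤ D0 by
      have := h hkD
      rwa [hD0, zpow_natCast] at this
    obtain ⟨N, hN⟩ := Int.subgroup_cyclic D
    have hNz : D = AddSubgroup.zmultiples N := by rw [hN, AddSubgroup.zmultiples_eq_closure]
    by_contra hcon
    have hND : N ∈ D := by rw [hNz]; exact AddSubgroup.mem_zmultiples N
    have hN0 : N ∉ D0 := by
      intro h
      apply hcon
      rw [hNz, AddSubgroup.zmultiples_le]
      exact h
    have hej : e * l ^ j = l ^ j * e := (show Commute e l from hel).zpow_right j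
    have hjj : j + j ∈ D0 := by
      rw [hD0, zpow_add]
      have e1 : g⁻¹ * (l ^ j * l ^ j) * g = (g⁻¹ * (l ^ j * e) * g) * (g⁻¹ * (l ^ j * e) * g) := by
        calc g⁻¹ * (l ^ j * l ^ j) * g = g⁻¹ * (l ^ j * l ^ j * (e * e)) * g := by rw [he, mul_one]
          _ = g⁻¹ * (l ^ j * (l ^ j * e) * e) * g := by group
          _ = g⁻¹ * (l ^ j * (e * l ^ j) * e) * g := by rw [hej]
          _ = _ := by group
      rw [e1]; exact hsq _ hj
    have hjjD : j + j ∈ D := by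
      rw [hD]; exact hS0 hjj
    rw [hNz, AddSubgroup.mem_zmultiples_iff] at hjjD
    obtain ⟨m, hm⟩ := hjjD
    rw [smul_eq_mul] at hm
    rcases Int.even_or_odd' m with ⟨c, rfl | rfl⟩
    · -- `j` is a multiple of `N`
      have hjN : j = c * N := by linarith
      have hjD : j ∈ D := by
        rw [hNz, AddSubgroup.mem_zmultiples_iff]
        exact ⟨c, by rw [smul_eq_mul, hjN]⟩
      have heP : g⁻¹ * e * g ∈ P := by
        have e1 : g⁻¹ * e * g = (g⁻¹ * l ^ j * g)⁻¹ * (g⁻¹ * (l ^ j * e) * g) := by group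
        rw [e1]; exact mul_mem (inv_mem hjD) hj
      refine hp g heP (g⁻¹ * l ^ N * g) hND hN0 ?_
      have hc : l ^ N * e = e * l ^ N := ((show Commute e l from hel).zpow_right N).symm
      calc g⁻¹ * l ^ N * g * (g⁻¹ * e * g) = g⁻¹ * (l ^ N * e) * g := by group
        _ = g⁻¹ * (e * l ^ N) * g := by rw [hc]
        _ = _ := by group
    · apply hN0
      have h3 : N = (j + j) - c * (N + N) := by linarith
      rw [h3]
      refine sub_mem hjj ?_
      have h4 := D0.zsmul_mem (h2 N hND) c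
      rwa [smul_eq_mul] at h4

/-- **`S0 ≤ E`** (short form of step (2) of Theorem OUT). -/
theorem le_of_pure [Finite G] {P : Sylow 2 G} {S0 E : Subgroup G} (hS0 : S0 ≤ (P : Subgroup G))
    (hidx : ∀ a ∈ (P : Subgroup G), ∀ b ∈ (P : Subgroup G), a ∉ S0 → b ∉ S0 → a * b ∈ S0) {t : G}
    (ht : t * t = 1) (htP : t ∈ (P : Subgroup G))
    (hF1 : ∀ g : G, g⁻¹ * t * g ∈ (P : Subgroup G) → g⁻¹ * t * g ∉ S0) (hE : commutator E = ⊤)
    (hGE : ∀ g : G, g ∈ E ∨ t * g ∈ E)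
    (hpure : ∀ l ∈ S0, ∃ e : G, e * e = 1 ∧ e * l = l * e ∧ PureE (P : Subgroup G) S0 e) : S0 ≤ E := by
  refine le_of_noSwap hidx ht htP hF1 hE hGE (fun l hl hlE => ⟨l, hlE, ?_⟩)
  obtain ⟨e, he, hel, hp⟩ := hpure l hl
  exact noSwap_of_pure hS0 hidx he hel hp

/-- **Theorem OUT, short form.** -/
theorem inf_eq_of_pure [Finite G] {A : Type*} [CommGroup A] {P : Sylow 2 G} {S0 E N : Subgroup G} [E.Normal]
    (hS0 : S0 ≤ (P : Subgroup G))
    (hidx : ∀ a ∈ (P : Subgroup G), ∀ b ∈ (P : Subgroup G), a ∉ S0 → b ∉ S0 → a * b ∈ S0) {t : G}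
    (ht : t * t = 1) (htP : t ∈ (P : Subgroup G))
    (hF1 : ∀ g : G, g⁻¹ * t * g ∈ (P : Subgroup G) → g⁻¹ * t * g ∉ S0) (hE : commutator E = ⊤)
    (hGE : ∀ g : G, g ∈ E ∨ t * g ∈ E)
    (hpure : ∀ l ∈ S0, ∃ e : G, e * e = 1 ∧ e * l = l * e ∧ PureE (P : Subgroup G) S0 e)
    (ψ : S0 →* A) (hψ : ∀ x (hx : x ∈ S0), ψ ⟨x, hx⟩ = 1 ↔ x ∈ N) (hNS0 : N ≤ S0)
    (hy : (∃ x ∈ S0, x ∉ N) → S0 ≤ E → ∃ y ∈ S0, y * y = 1 ∧ y ∉ N ∧
      ∀ g ∈ E, g⁻¹ * y * g ∈ S0 → y⁻¹ * (g⁻¹ * y * g) ∈ N) :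
    (P : Subgroup G) ⊓ E = N := by
  refine inf_eq hS0 hidx ht htP hF1 hE hGE (fun l hl hlE => ⟨l, hlE, ?_⟩) ψ hψ hNS0 hy
  obtain ⟨e, he, hel, hp⟩ := hpure l hl
  exact noSwap_of_pure hS0 hidx he hel hp

end Cfsg.Agent.StdRank2.OutSplit
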