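import Cfsg.Agent.StdRank2.OutSplit.OnePure

set_option autoImplicit false

/-!
# `J`-fusion for `U4(q)`, `U5(q)`: definitions, fixed points and elementary abelian subgroups

`P` a 2-group, `S0 ≤ P` of index `≤ 2`, `N = S1 × S2 ≤ S0`, `P ∖ S0` swaps `S1`, `S2`; `ρ₁, ρ₂ : S0 → C` with common kernel
`N`; `Ji ≤ Si` elementary abelian of order `q ^ 4`.
-/

namespace Cfsg.Agent.StdRank2.OutSplit

open MulAction Subgroup
open scoped commutatorElement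

variable {G : Type*} [Group G]

/-- fixed points of `w` on `J` -/
def fx (J : Subgroup G) (w : G) : Subgroup G := J ⊓ centralizer ({w} : Set G)

theorem mem_fx {J : Subgroup G} {w x : G} : x ∈ fx J w ↔ x ∈ J ∧ x * w = w * x := by
  unfold fx
  rw [mem_inf, mem_centralizer_singleton_iff]

/-- one of the two factors -/
structure Side (S0 S J : Subgroup G) {C : Type*} [CommGroup C] (ρ : S0 →* C) (σ : C) (q : ℕ) : Prop where
  norm : ∀ w ∈ S0, ∀ a ∈ S, w * a * w⁻¹ ∈ S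
  JS : J ≤ S
  jn : ∀ w ∈ S0, ∀ j ∈ J, w * j * w⁻¹ ∈ J
  two : ∀ j ∈ J, j * j = 1
  card : Nat.card J = q ^ 4
  el : ∀ D : Subgroup G, D ≤ S → (∀ x ∈ D, x * x = 1) → Nat.card D ≤ q ^ 4
  el' : ∀ D : Subgroup G, D ≤ S → (∀ x ∈ D, x * x = 1) → Nat.card D = q ^ 4 → D ≤ J
  inn : ∀ w (hw : w ∈ S0), ρ ⟨w, hw⟩ = 1 → (∀ j ∈ J, w * j = j * w) ∨ Nat.card (fx J w) ≤ q ^ 2
  out : ∀ w (hw : w ∈ S0), w * w = 1 → ρ ⟨w, hw⟩ = σ → Nat.card (fx J w) = q ^ 3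
  outel : ∀ w (hw : w ∈ S0), w * w = 1 → ρ ⟨w, hw⟩ = σ → ∀ D : Subgroup G, D ≤ S → (∀ x ∈ D, x * x = 1) →
    (∀ x ∈ D, x * w = w * x) → Nat.card D ≤ q ^ 3

/-- the two factors in `P` -/
structure UD (P S0 N S1 S2 J1 J2 : Subgroup G) {C : Type*} [CommGroup C] (ρ₁ ρ₂ : S0 →* C) (σ : C) (q : ℕ) :
    Prop where
  hq : 4 ≤ q
  hidx : ∀ a ∈ P, ∀ b ∈ P, a ∉ S0 → b ∉ S0 → a * b ∈ S0
  hS0 : S0 ≤ P
  hN : N ≤ S0
  h1N : S1 ≤ N
  h2N : S2 ≤ N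
  hsup : ∀ x ∈ N, ∃ a ∈ S1, ∃ b ∈ S2, x = a * b
  hcomm : ∀ a ∈ S1, ∀ b ∈ S2, a * b = b * a
  hdisj : ∀ a ∈ S1, a ∈ S2 → a = 1
  sw1 : ∀ u ∈ P, u ∉ S0 → ∀ a ∈ S1, u * a * u⁻¹ ∈ S2
  sw2 : ∀ u ∈ P, u ∉ S0 → ∀ a ∈ S2, u * a * u⁻¹ ∈ S1
  jw1 : ∀ u ∈ P, u ∉ S0 → ∀ a ∈ J1, u * a * u⁻¹ ∈ J2
  jw2 : ∀ u ∈ P, u ∉ S0 → ∀ a ∈ J2, u * a * u⁻¹ ∈ J1
  ker : ∀ x (hx : x ∈ S0), x ∈ N ↔ ρ₁ ⟨x, hx⟩ = 1 ∧ ρ₂ ⟨x, hx⟩ = 1
  s1 : Side S0 S1 J1 ρ₁ σ q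
  s2 : Side S0 S2 J2 ρ₂ σ q
  hσ : ∀ c : C, c * c = 1 → c = 1 ∨ c = σ

/-- counting -/
theorem card_le_mul {D N : Subgroup G} [Finite D] {α : Type*} [Finite α] (f : G → α)
    (h : ∀ x ∈ D, ∀ y ∈ D, f x = f y → x⁻¹ * y ∈ N) :
    Nat.card D ≤ Nat.card α * Nat.card (D ⊓ N : Subgroup G) := by
  classical
  have h1 := Subgroup.card_eq_card_quotient_mul_card_subgroup (N.subgroupOf D)
  have h2 : Nat.card (N.subgroupOf D) = Nat.card (D ⊓ N : Subgroup G) := by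
    rw [inf_comm, ← Subgroup.inf_subgroupOf_right]
    exact Nat.card_congr (subgroupOfEquivOfLe inf_le_right).toEquiv
  rw [h1, h2]
  apply Nat.mul_le_mul_right
  apply Nat.card_le_card_of_injective (fun q : D ⧸ (N.subgroupOf D) => f (Quotient.out q : D))
  intro q q' hqq
  have h3 := h _ (Quotient.out q : D).2 _ (Quotient.out q' : D).2 hqq
  rw [← QuotientGroup.out_eq' q, ← QuotientGroup.out_eq' q', QuotientGroup.eq]
  exact mem_subgroupOf.2 h3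

theorem card_bool' : Nat.card Bool = 2 := by simp

theorem pow_bound {q : ℕ} (hq : 4 ≤ q) : 8 * q ^ 4 ≤ 4 * q ^ 6 ∧ 4 * q ^ 6 < 2 * q ^ 7 ∧ 2 * q ^ 7 < q ^ 8 ∧ 4 * q ^ 4 < q ^ 6 ∧
    0 < q ^ 4 := by
  have h0 : 0 < q ^ 4 := by positivity
  have e6 : q ^ 6 = q ^ 4 * (q * q) := by ring
  have e7 : q ^ 7 = q ^ 6 * q := by ring
  have e8 : q ^ 8 = q ^ 7 * q := by ring
  have h6 : 0 < q ^ 6 := by positivity
  have h7 : 0 < q ^ 7 := by positivity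
  have hqq : 16 ≤ q * q := Nat.mul_le_mul hq hq
  refine ⟨?_, ?_, ?_, ?_, h0⟩
  · rw [e6]; nlinarith
  · rw [e7]; nlinarith
  · rw [e8]; nlinarith
  · rw [e6]; nlinarith

namespace UD

variable {P S0 N S1 S2 J1 J2 : Subgroup G} {C : Type*} [CommGroup C] {ρ₁ ρ₂ : S0 →* C} {σ : C} {q : ℕ}

theorem symm (d : UD P S0 N S1 S2 J1 J2 ρ₁ ρ₂ σ q) : UD P S0 N S2 S1 J2 J1 ρ₂ ρ₁ σ q where
  hq := d.hq
  hidx := d.hidx
  hS0 := d.hS0
  hN := d.hN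
  h1N := d.h2N
  h2N := d.h1N
  hsup := by
    intro x hx
    obtain ⟨a, ha, b, hb, rfl⟩ := d.hsup x hx
    exact ⟨b, hb, a, ha, d.hcomm a ha b hb⟩
  hcomm := fun a ha b hb => (d.hcomm b hb a ha).symm
  hdisj := fun a h2 h1 => d.hdisj a h1 h2
  sw1 := d.sw2
  sw2 := d.sw1
  jw1 := d.jw2
  jw2 := d.jw1
  ker := fun x hx => (d.ker x hx).trans and_comm
  s1 := d.s2
  s2 := d.s1
  hσ := d.hσ

variable (d : UD P S0 N S1 S2 J1 J2 ρ₁ ρ₂ σ q)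
include d

theorem inj {a b a' b' : G} (ha : a ∈ S1) (hb : b ∈ S2) (ha' : a' ∈ S1) (hb' : b' ∈ S2) (h : a * b = a' * b') :
    a = a' ∧ b = b' := by
  have e : a'⁻¹ * a = b' * b⁻¹ := by
    calc a'⁻¹ * a = a'⁻¹ * (a * b) * b⁻¹ := by group
      _ = a'⁻¹ * (a' * b') * b⁻¹ := by rw [h]
      _ = b' * b⁻¹ := by group
  have h1 : a'⁻¹ * a = 1 := d.hdisj _ (mul_mem (inv_mem ha') ha) (by rw [e]; exact mul_mem hb' (inv_mem hb))
  rw [h1] at e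
  refine ⟨?_, ?_⟩
  · exact (inv_mul_eq_one.1 h1).symm
  · exact (mul_inv_eq_one.1 e.symm).symm

theorem mem_J {z : G} : z ∈ J1 ⊔ J2 ↔ ∃ a ∈ J1, ∃ b ∈ J2, z = a * b := by
  constructor
  · intro hz
    rw [sup_eq_closure] at hz
    induction hz using closure_induction with
    | mem x hx =>
      rcases hx with hx | hx
      · exact ⟨x, hx, 1, one_mem _, (mul_one x).symm⟩
      · exact ⟨1, one_mem _, x, hx, (one_mul x).symm⟩
    | one => exact ⟨1, one_mem _, 1, one_mem _, (mul_one 1).symm⟩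
    | mul x y _ _ hx hy =>
      obtain ⟨a, ha, b, hb, rfl⟩ := hx
      obtain ⟨a', ha', b', hb', rfl⟩ := hy
      refine ⟨a * a', mul_mem ha ha', b * b', mul_mem hb hb', ?_⟩
      have := d.hcomm a' (d.s1.JS ha') b (d.s2.JS hb)
      calc a * b * (a' * b') = a * (b * a') * b' := by group
        _ = a * (a' * b) * b' := by rw [this]
        _ = a * a' * (b * b') := by group
    | inv x _ hx =>
      obtain ⟨a, ha, b, hb, rfl⟩ := hx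
      refine ⟨a⁻¹, inv_mem ha, b⁻¹, inv_mem hb, ?_⟩
      rw [mul_inv_rev]
      exact (d.hcomm _ (inv_mem (d.s1.JS ha)) _ (inv_mem (d.s2.JS hb))).symm
  · rintro ⟨a, ha, b, hb, rfl⟩
    exact mul_mem (mem_sup_left ha) (mem_sup_right hb)

/-- components of fixed points -/
theorem comp_fixed {w : G} (hw : w ∈ S0) {a b : G} (ha : a ∈ S1) (hb : b ∈ S2) :
    (a * b) * w = w * (a * b) ↔ a * w = w * a ∧ b * w = w * b := by
  constructor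
  · intro h
    have e : (w * a * w⁻¹) * (w * b * w⁻¹) = a * b := by
      calc (w * a * w⁻¹) * (w * b * w⁻¹) = (w * (a * b)) * w⁻¹ := by group
        _ = a * b := by rw [← h]; group
    obtain ⟨e1, e2⟩ := d.inj (d.s1.norm w hw a ha) (d.s2.norm w hw b hb) ha hb e
    refine ⟨?_, ?_⟩
    · rw [mul_inv_eq_iff_eq_mul] at e1; exact e1.symm
    · rw [mul_inv_eq_iff_eq_mul] at e2; exact e2.symm
  · rintro ⟨h1, h2⟩
    rw [mul_assoc, h2, ← mul_assoc, h1, mul_assoc]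

/-- fixed points of a swapping element -/
theorem comp_swap {w : G} (hw : w ∈ P) (hw0 : w ∉ S0) {a b : G} (ha : a ∈ S1) (hb : b ∈ S2)
    (h : (a * b) * w = w * (a * b)) : b = w * a * w⁻¹ := by
  have e : (w * b * w⁻¹) * (w * a * w⁻¹) = a * b := by
    calc (w * b * w⁻¹) * (w * a * w⁻¹) = (w * (b * a)) * w⁻¹ := by group
      _ = (w * (a * b)) * w⁻¹ := by rw [d.hcomm a ha b hb]
      _ = a * b := by rw [← h]; group
  exact (d.inj (d.sw2 w hw hw0 b hb) (d.sw1 w hw hw0 a ha) ha hb e).2.symm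

theorem card_J [Finite G] : Nat.card (J1 ⊔ J2 : Subgroup G) = q ^ 8 := by
  classical
  let f : J1 × J2 → (J1 ⊔ J2 : Subgroup G) := fun x => ⟨x.1 * x.2, d.mem_J.2 ⟨_, x.1.2, _, x.2.2, rfl⟩⟩
  have hf : Function.Bijective f := by
    constructor
    · rintro ⟨⟨a, ha⟩, ⟨b, hb⟩⟩ ⟨⟨a', ha'⟩, ⟨b', hb'⟩⟩ h
      obtain ⟨rfl, rfl⟩ := d.inj (d.s1.JS ha) (d.s2.JS hb) (d.s1.JS ha') (d.s2.JS hb') (congrArg Subtype.val h)
      rfl
    · rintro ⟨z, hz⟩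
      obtain ⟨a, ha, b, hb, rfl⟩ := d.mem_J.1 hz
      exact ⟨⟨⟨a, ha⟩, ⟨b, hb⟩⟩, rfl⟩
  rw [← Nat.card_congr (Equiv.ofBijective f hf), Nat.card_prod, d.s1.card, d.s2.card, ← pow_add]

theorem J_sq {z : G} (hz : z ∈ J1 ⊔ J2) : z * z = 1 := by
  obtain ⟨a, ha, b, hb, rfl⟩ := d.mem_J.1 hz
  calc a * b * (a * b) = a * (b * a) * b := by group
    _ = a * (a * b) * b := by rw [d.hcomm a (d.s1.JS ha) b (d.s2.JS hb)]
    _ = (a * a) * (b * b) := by group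
    _ = 1 := by rw [d.s1.two a ha, d.s2.two b hb, one_mul]

/-- fixed points of an element of `S0` on `J` -/
theorem card_fx [Finite G] {w : G} (hw : w ∈ S0) :
    Nat.card (fx (J1 ⊔ J2) w) = Nat.card (fx J1 w) * Nat.card (fx J2 w) := by
  classical
  let f : fx J1 w × fx J2 w → fx (J1 ⊔ J2) w := fun x => ⟨x.1 * x.2, mem_fx.2
    ⟨d.mem_J.2 ⟨_, (mem_fx.1 x.1.2).1, _, (mem_fx.1 x.2.2).1, rfl⟩,
      (d.comp_fixed hw (d.s1.JS (mem_fx.1 x.1.2).1) (d.s2.JS (mem_fx.1 x.2.2).1)).2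
        ⟨(mem_fx.1 x.1.2).2, (mem_fx.1 x.2.2).2⟩⟩⟩
  have hf : Function.Bijective f := by
    constructor
    · rintro ⟨⟨a, ha⟩, ⟨b, hb⟩⟩ ⟨⟨a', ha'⟩, ⟨b', hb'⟩⟩ h
      obtain ⟨rfl, rfl⟩ := d.inj (d.s1.JS (mem_fx.1 ha).1) (d.s2.JS (mem_fx.1 hb).1) (d.s1.JS (mem_fx.1 ha').1)
        (d.s2.JS (mem_fx.1 hb').1) (congrArg Subtype.val h)
      rfl
    · rintro ⟨z, hz⟩
      obtain ⟨hz1, hz2⟩ := mem_fx.1 hz
      obtain ⟨a, ha, b, hb, rfl⟩ := d.mem_J.1 hz1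
      obtain ⟨h1, h2⟩ := (d.comp_fixed hw (d.s1.JS ha) (d.s2.JS hb)).1 hz2
      exact ⟨⟨⟨a, mem_fx.2 ⟨ha, h1⟩⟩, ⟨b, mem_fx.2 ⟨hb, h2⟩⟩⟩, rfl⟩
  rw [← Nat.card_congr (Equiv.ofBijective f hf), Nat.card_prod]

/-- fixed points of a swapping element on `J` -/
theorem card_fx_swap [Finite G] {w : G} (hw : w ∈ P) (hw0 : w ∉ S0) : Nat.card (fx (J1 ⊔ J2) w) ≤ q ^ 4 := by
  classical
  have hex : ∀ z : fx (J1 ⊔ J2) w, ∃ a ∈ J1, (z : G) = a * (w * a * w⁻¹) := by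
    rintro ⟨z, hz⟩
    obtain ⟨hz1, hz2⟩ := mem_fx.1 hz
    obtain ⟨a, ha, b, hb, rfl⟩ := d.mem_J.1 hz1
    exact ⟨a, ha, by rw [← d.comp_swap hw hw0 (d.s1.JS ha) (d.s2.JS hb) hz2]⟩
  choose f hf he using hex
  rw [← d.s1.card]
  apply Nat.card_le_card_of_injective (fun z => (⟨f z, hf z⟩ : J1))
  intro z z' h
  apply Subtype.ext
  rw [he z, he z', show f z = f z' from congrArg Subtype.val h]

/-! ### elementary abelian subgroups -/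

/-- first components of `D ≤ N` -/
def pr1 (D : Subgroup G) : Subgroup G where
  carrier := {a | a ∈ S1 ∧ ∃ b ∈ S2, a * b ∈ D}
  one_mem' := ⟨one_mem _, 1, one_mem _, by rw [mul_one]; exact one_mem _⟩
  mul_mem' := by
    rintro a a' ⟨ha, b, hb, hab⟩ ⟨ha', b', hb', hab'⟩
    refine ⟨mul_mem ha ha', b * b', mul_mem hb hb', ?_⟩
    have e : a * a' * (b * b') = (a * b) * (a' * b') := by
      calc a * a' * (b * b') = a * (a' * b) * b' := by group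
        _ = a * (b * a') * b' := by rw [d.hcomm a' ha' b hb]
        _ = (a * b) * (a' * b') := by group
    rw [e]
    exact mul_mem hab hab'
  inv_mem' := by
    rintro a ⟨ha, b, hb, hab⟩
    refine ⟨inv_mem ha, b⁻¹, inv_mem hb, ?_⟩
    rw [d.hcomm _ (inv_mem ha) _ (inv_mem hb), ← mul_inv_rev]
    exact inv_mem hab

theorem mem_pr1 {D : Subgroup G} {a : G} : a ∈ d.pr1 D ↔ a ∈ S1 ∧ ∃ b ∈ S2, a * b ∈ D := Iff.rfl

theorem pr1_le {D : Subgroup G} : d.pr1 D ≤ S1 := fun _ h => h.1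

theorem pr1_sq {D : Subgroup G} (hD : ∀ x ∈ D, x * x = 1) {a : G} (ha : a ∈ d.pr1 D) : a * a = 1 := by
  obtain ⟨ha, b, hb, hab⟩ := ha
  have h := hD _ hab
  have e : a * a * (b * b) = 1 * 1 := by
    calc a * a * (b * b) = a * (a * b) * b := by group
      _ = a * (b * a) * b := by rw [d.hcomm a ha b hb]
      _ = a * b * (a * b) := by group
      _ = 1 * 1 := by rw [h, mul_one]
  exact (d.inj (mul_mem ha ha) (mul_mem hb hb) (one_mem _) (one_mem _) e).1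

theorem pr1_comm {D : Subgroup G} {w : G} (hw : w ∈ S0) (hD : ∀ x ∈ D, x * w = w * x) {a : G} (ha : a ∈ d.pr1 D) :
    a * w = w * a := by
  obtain ⟨ha, b, hb, hab⟩ := ha
  exact ((d.comp_fixed hw ha hb).1 (hD _ hab)).1

theorem card_le_pr [Finite G] {D : Subgroup G} (hDN : D ≤ N) :
    Nat.card D ≤ Nat.card (d.pr1 D) * Nat.card (d.symm.pr1 D) := by
  classical
  have hex : ∀ z : D, ∃ a ∈ S1, ∃ b ∈ S2, (z : G) = a * b := fun z => d.hsup z (hDN z.2)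
  choose f hf g hg he using hex
  rw [← Nat.card_prod]
  apply Nat.card_le_card_of_injective (fun z : D => ((⟨f z, hf z, g z, hg z, by rw [← he]; exact z.2⟩ : d.pr1 D),
    (⟨g z, hg z, f z, hf z, by rw [← d.hcomm _ (hf z) _ (hg z), ← he]; exact z.2⟩ : d.symm.pr1 D)))
  intro z z' h
  have h1 : f z = f z' := congrArg Subtype.val (congrArg Prod.fst h)
  have h2 : g z = g z' := congrArg Subtype.val (congrArg Prod.snd h)
  apply Subtype.ext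
  rw [he z, he z', h1, h2]

/-- elementary abelian subgroups of `N` commuting with a swapping element -/
theorem card_swap [Finite G] {D : Subgroup G} (hDN : D ≤ N) (hD : ∀ x ∈ D, x * x = 1) {w : G} (hw : w ∈ P)
    (hw0 : w ∉ S0) (hDw : ∀ x ∈ D, x * w = w * x) : Nat.card D ≤ q ^ 4 := by
  classical
  have hex : ∀ z : D, ∃ a ∈ S1, ∃ b ∈ S2, (z : G) = a * b := fun z => d.hsup z (hDN z.2)
  choose f hf g hg he using hex
  refine le_trans ?_ (d.s1.el (d.pr1 D) d.pr1_le (fun a ha => d.pr1_sq hD ha))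
  apply Nat.card_le_card_of_injective (fun z : D => (⟨f z, hf z, g z, hg z, by rw [← he]; exact z.2⟩ : d.pr1 D))
  intro z z' h
  have h1 : f z = f z' := congrArg Subtype.val h
  have h2 : ∀ z : D, g z = w * f z * w⁻¹ := fun z =>
    d.comp_swap hw hw0 (hf z) (hg z) (by rw [← he]; exact hDw z z.2)
  apply Subtype.ext
  rw [he z, he z', h2 z, h2 z', h1]

theorem card_le_two [Finite G] {D : Subgroup G} (hDP : D ≤ P) : Nat.card D ≤ 2 * Nat.card (D ⊓ S0 : Subgroup G) := by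
  classical
  have h := card_le_mul (D := D) (N := S0) (α := Bool) (fun x => decide (x ∈ S0)) (by
    intro x hx y hy h
    have h0 : (x ∈ S0) ↔ (y ∈ S0) := decide_eq_decide.1 h
    by_cases hx0 : x ∈ S0
    · exact mul_mem (inv_mem hx0) (h0.1 hx0)
    · exact d.hidx _ (inv_mem (hDP hx)) _ (hDP hy) (fun h => hx0 (inv_mem_iff.1 h)) (fun h => hx0 (h0.2 h)))
  rwa [card_bool'] at h

theorem type_cases {w : G} (hw : w ∈ S0) (h2 : w * w = 1) :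
    (ρ₁ ⟨w, hw⟩ = 1 ∨ ρ₁ ⟨w, hw⟩ = σ) ∧ (ρ₂ ⟨w, hw⟩ = 1 ∨ ρ₂ ⟨w, hw⟩ = σ) := by
  have e : (⟨w, hw⟩ : S0) * ⟨w, hw⟩ = 1 := Subtype.ext h2
  exact ⟨d.hσ _ (by rw [← map_mul, e, map_one]), d.hσ _ (by rw [← map_mul, e, map_one])⟩

theorem mem_N_of {x y : G} (hx : x ∈ S0) (hy : y ∈ S0) (h1 : ρ₁ ⟨x, hx⟩ = ρ₁ ⟨y, hy⟩) (h2 : ρ₂ ⟨x, hx⟩ = ρ₂ ⟨y, hy⟩) :
    x⁻¹ * y ∈ N := by
  rw [d.ker _ (mul_mem (inv_mem hx) hy)]
  have e : (⟨x⁻¹ * y, mul_mem (inv_mem hx) hy⟩ : S0) = ⟨x, hx⟩⁻¹ * ⟨y, hy⟩ := rfl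
  rw [e, map_mul, map_mul, map_inv, map_inv, h1, h2]
  exact ⟨inv_mul_cancel _, inv_mul_cancel _⟩

theorem card_le_four [Finite G] {D : Subgroup G} (hDS : D ≤ S0) (hD : ∀ x ∈ D, x * x = 1) :
    Nat.card D ≤ 4 * Nat.card (D ⊓ N : Subgroup G) := by
  classical
  let f : G → Bool × Bool := fun x =>
    (decide (∃ h : x ∈ S0, ρ₁ ⟨x, h⟩ = 1), decide (∃ h : x ∈ S0, ρ₂ ⟨x, h⟩ = 1))
  have h := card_le_mul (D := D) (N := N) f (by
    intro x hx y hy h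
    obtain ⟨t1, t2⟩ := d.type_cases (hDS hx) (hD x hx)
    obtain ⟨t3, t4⟩ := d.type_cases (hDS hy) (hD y hy)
    have h1 : (∃ h : x ∈ S0, ρ₁ ⟨x, h⟩ = 1) ↔ ∃ h : y ∈ S0, ρ₁ ⟨y, h⟩ = 1 :=
      decide_eq_decide.1 (congrArg Prod.fst h)
    have h2 : (∃ h : x ∈ S0, ρ₂ ⟨x, h⟩ = 1) ↔ ∃ h : y ∈ S0, ρ₂ ⟨y, h⟩ = 1 :=
      decide_eq_decide.1 (congrArg Prod.snd h)
    refine d.mem_N_of (hDS hx) (hDS hy) ?_ ?_
    · rcases t1 with t1 | t1
      · obtain ⟨_, h3⟩ := h1.1 ⟨hDS hx, t1⟩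
        rw [t1, h3]
      · rcases t3 with t3 | t3
        · obtain ⟨_, h3⟩ := h1.2 ⟨hDS hy, t3⟩
          rw [t3, h3]
        · rw [t1, t3]
    · rcases t2 with t2 | t2
      · obtain ⟨_, h3⟩ := h2.1 ⟨hDS hx, t2⟩
        rw [t2, h3]
      · rcases t4 with t4 | t4
        · obtain ⟨_, h3⟩ := h2.2 ⟨hDS hy, t4⟩
          rw [t4, h3]
        · rw [t2, t4])
  rwa [Nat.card_prod, card_bool'] at h

/-- elementary abelian subgroups commuting with an involution over `(σ, σ)` -/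
theorem card_out [Finite G] {D : Subgroup G} (hDP : D ≤ P) (hD : ∀ x ∈ D, x * x = 1) {w : G} (hw : w ∈ S0)
    (hw2 : w * w = 1) (h1 : ρ₁ ⟨w, hw⟩ = σ) (h2 : ρ₂ ⟨w, hw⟩ = σ) (hDw : ∀ x ∈ D, x * w = w * x) :
    Nat.card D ≤ 4 * q ^ 6 := by
  obtain ⟨b1, b2, b3, b4, b5⟩ := pow_bound d.hq
  by_cases hsw : ∃ u ∈ D, u ∉ S0
  · obtain ⟨u, hu, hu0⟩ := hsw
    have hcomm : ∀ x ∈ D, ∀ y ∈ D, x * y = y * x := by
      intro x hx y hy
      have e1 := hD _ (mul_mem hx hy)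
      have e2 : y⁻¹ = y := inv_eq_of_mul_eq_one_right (hD y hy)
      have e3 : x⁻¹ = x := inv_eq_of_mul_eq_one_right (hD x hx)
      have e4 : x * y = (x * y)⁻¹ := eq_inv_of_mul_eq_one_left e1
      rw [mul_inv_rev, e2, e3] at e4
      exact e4
    have i1 := d.card_le_two hDP
    have i2 := d.card_le_four (D := D ⊓ S0) inf_le_right (fun x hx => hD x hx.1)
    have i3 := d.card_swap (D := D ⊓ S0 ⊓ N) inf_le_right (fun x hx => hD x hx.1.1) (hDP hu) hu0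
      (fun x hx => hcomm x hx.1.1 u hu)
    omega
  · have hDS : D ≤ S0 := by
      intro x hx
      by_contra h
      exact hsw ⟨x, hx, h⟩
    have i2 := d.card_le_four hDS hD
    have i3 := d.card_le_pr (D := D ⊓ N) inf_le_right
    have i4 := d.s1.outel w hw hw2 h1 (d.pr1 (D ⊓ N)) d.pr1_le (fun a ha => d.pr1_sq (D := D ⊓ N) (fun x hx => hD x hx.1) ha)
      (fun a ha => d.pr1_comm (D := D ⊓ N) hw (fun x hx => hDw x hx.1) ha)
    have i5 := d.s2.outel w hw hw2 h2 (d.symm.pr1 (D ⊓ N)) d.symm.pr1_le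
      (fun a ha => d.symm.pr1_sq (D := D ⊓ N) (fun x hx => hD x hx.1) ha)
      (fun a ha => d.symm.pr1_comm (D := D ⊓ N) hw (fun x hx => hDw x hx.1) ha)
    have i6 := Nat.mul_le_mul i4 i5
    have e6 : q ^ 3 * q ^ 3 = q ^ 6 := by ring
    rw [e6] at i6
    omega

/-- **weak closure of `J`** -/
theorem le_J [Finite G] {D : Subgroup G} (hDP : D ≤ P) (hD : ∀ x ∈ D, x * x = 1) (hc : q ^ 8 ≤ Nat.card D) :
    D ≤ J1 ⊔ J2 := by
  obtain ⟨b1, b2, b3, b4, b5⟩ := pow_bound d.hq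
  have hcomm : ∀ x ∈ D, ∀ y ∈ D, x * y = y * x := by
    intro x hx y hy
    have e1 := hD _ (mul_mem hx hy)
    have e2 : y⁻¹ = y := inv_eq_of_mul_eq_one_right (hD y hy)
    have e3 : x⁻¹ = x := inv_eq_of_mul_eq_one_right (hD x hx)
    have e4 : x * y = (x * y)⁻¹ := eq_inv_of_mul_eq_one_left e1
    rw [mul_inv_rev, e2, e3] at e4
    exact e4
  have hDS : D ≤ S0 := by
    intro u hu
    by_contra hu0
    have i1 := d.card_le_two hDP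
    have i2 := d.card_le_four (D := D ⊓ S0) inf_le_right (fun x hx => hD x hx.1)
    have i3 := d.card_swap (D := D ⊓ S0 ⊓ N) inf_le_right (fun x hx => hD x hx.1.1) (hDP hu) hu0
      (fun x hx => hcomm x hx.1.1 u hu)
    omega
  have hss : ∀ w (hw : w ∈ D), ¬ (ρ₁ ⟨w, hDS hw⟩ = σ ∧ ρ₂ ⟨w, hDS hw⟩ = σ) := by
    rintro w hw ⟨h1, h2⟩
    have := d.card_out hDP hD (hDS hw) (hD w hw) h1 h2 (fun x hx => hcomm x hx w hw)
    omega
  -- a component of type `σ` is impossible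
  have key : ∀ {S0 N S1 S2 J1 J2 : Subgroup G} {ρ₁ ρ₂ : S0 →* C} (d : UD P S0 N S1 S2 J1 J2 ρ₁ ρ₂ σ q)
      (hDS : D ≤ S0) (_ : ∀ w (hw : w ∈ D), ¬ (ρ₁ ⟨w, hDS hw⟩ = σ ∧ ρ₂ ⟨w, hDS hw⟩ = σ)),
      ∀ w (hw : w ∈ D), ρ₁ ⟨w, hDS hw⟩ = 1 := by
    intro S0 N S1 S2 J1 J2 ρ₁ ρ₂ d hDS hss w hw
    by_contra hne
    have hwσ := (d.type_cases (hDS hw) (hD w hw)).1.resolve_left hne
    -- all second components are trivial
    have hw2 : ρ₂ ⟨w, hDS hw⟩ = 1 :=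
      (d.type_cases (hDS hw) (hD w hw)).2.resolve_right fun h => hss w hw ⟨hwσ, h⟩
    have h2 : ∀ x (hx : x ∈ D), ρ₂ ⟨x, hDS hx⟩ = 1 := by
      intro x hx
      by_contra hxne
      have hxσ := (d.type_cases (hDS hx) (hD x hx)).2.resolve_left hxne
      have hx1 : ρ₁ ⟨x, hDS hx⟩ = 1 :=
        (d.type_cases (hDS hx) (hD x hx)).1.resolve_right fun h => hss x hx ⟨h, hxσ⟩
      refine hss (w * x) (mul_mem hw hx) ⟨?_, ?_⟩
      · have e : (⟨w * x, hDS (mul_mem hw hx)⟩ : S0) = ⟨w, hDS hw⟩ * ⟨x, hDS hx⟩ := rfl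
        rw [e, map_mul, hwσ, hx1, mul_one]
      · have e : (⟨w * x, hDS (mul_mem hw hx)⟩ : S0) = ⟨w, hDS hw⟩ * ⟨x, hDS hx⟩ := rfl
        rw [e, map_mul, hw2, hxσ, one_mul]
    classical
    have i1 := card_le_mul (D := D) (N := N) (α := Bool) (fun x => decide (∃ h : x ∈ S0, ρ₁ ⟨x, h⟩ = 1)) (by
      intro x hx y hy h
      obtain ⟨t1, -⟩ := d.type_cases (hDS hx) (hD x hx)
      obtain ⟨t3, -⟩ := d.type_cases (hDS hy) (hD y hy)
      have h1 : (∃ h : x ∈ S0, ρ₁ ⟨x, h⟩ = 1) ↔ ∃ h : y ∈ S0, ρ₁ ⟨y, h⟩ = 1 := decide_eq_decide.1 h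
      refine d.mem_N_of (hDS hx) (hDS hy) ?_ (by rw [h2 x hx, h2 y hy])
      rcases t1 with t1 | t1
      · obtain ⟨_, h3⟩ := h1.1 ⟨hDS hx, t1⟩
        rw [t1, h3]
      · rcases t3 with t3 | t3
        · obtain ⟨_, h3⟩ := h1.2 ⟨hDS hy, t3⟩
          rw [t3, h3]
        · rw [t1, t3])
    rw [card_bool'] at i1
    have i3 := d.card_le_pr (D := D ⊓ N) inf_le_right
    have i4 := d.s1.outel w (hDS hw) (hD w hw) hwσ (d.pr1 (D ⊓ N)) d.pr1_le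
      (fun a ha => d.pr1_sq (D := D ⊓ N) (fun x hx => hD x hx.1) ha)
      (fun a ha => d.pr1_comm (D := D ⊓ N) (hDS hw) (fun x hx => hcomm x hx.1 w hw) ha)
    have i5 := d.s2.el (d.symm.pr1 (D ⊓ N)) d.symm.pr1_le (fun a ha => d.symm.pr1_sq (D := D ⊓ N) (fun x hx => hD x hx.1) ha)
    have i6 := Nat.mul_le_mul i4 i5
    have e7 : q ^ 3 * q ^ 4 = q ^ 7 := by ring
    rw [e7] at i6
    have : Nat.card D ≤ 2 * q ^ 7 := by
      refine i1.trans ?_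
      have := i3.trans i6
      omega
    omega
  have h1 := key d hDS hss
  have h2 := key d.symm hDS (fun w hw h => hss w hw ⟨h.2, h.1⟩)
  have hDN : D ≤ N := fun x hx => (d.ker x (hDS hx)).2 ⟨h1 x hx, h2 x hx⟩
  have i3 := d.card_le_pr hDN
  have i4 := d.s1.el (d.pr1 D) d.pr1_le (fun a ha => d.pr1_sq hD ha)
  have i5 := d.s2.el (d.symm.pr1 D) d.symm.pr1_le (fun a ha => d.symm.pr1_sq hD ha)
  have e8 : q ^ 8 = q ^ 4 * q ^ 4 := by rw [← pow_add]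
  have e1 : Nat.card (d.pr1 D) = q ^ 4 := by
    refine le_antisymm i4 ?_
    by_contra h
    push Not at h
    have := Nat.mul_lt_mul_of_lt_of_le h i5 b5
    omega
  have e2 : Nat.card (d.symm.pr1 D) = q ^ 4 := by
    refine le_antisymm i5 ?_
    by_contra h
    push Not at h
    have := Nat.mul_lt_mul_of_le_of_lt i4 h b5
    omega
  have j1 := d.s1.el' _ d.pr1_le (fun a ha => d.pr1_sq hD ha) e1
  have j2 := d.s2.el' _ d.symm.pr1_le (fun a ha => d.symm.pr1_sq hD ha) e2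
  intro x hx
  obtain ⟨a, ha, b, hb, rfl⟩ := d.hsup x (hDN hx)
  refine d.mem_J.2 ⟨a, j1 ⟨ha, b, hb, hx⟩, b, j2 ⟨hb, a, ha, ?_⟩, rfl⟩
  rw [← d.hcomm a ha b hb]
  exact hx

end UD

end Cfsg.Agent.StdRank2.OutSplit
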