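import Cfsg.Agent.StdRank2.OutSplit.UFus

set_option autoImplicit false

/-!
# `J`-fusion: `(D)`, `NoSwap`, and `P ∩ E = N`
-/

namespace Cfsg.Agent.StdRank2.OutSplit

open MulAction Subgroup Cfsg.Agent.StdEven.OuterKill
open scoped commutatorElement Pointwise

variable {G : Type*} [Group G]

/-- every involution of `S` is conjugate, by an element centralising `S'`, to a good element -/
def AllGood (S S' J : Subgroup G) (q : ℕ) : Prop :=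
  ∀ x ∈ S, x ≠ 1 → x * x = 1 → ∃ m : G, (∀ b ∈ S', m * b = b * m) ∧ ∃ y z, Good S J q (m⁻¹ * x * m) y z

namespace UD

variable {C : Type*} [CommGroup C] {σ : C} {q : ℕ}

/-- **(D)** -/
theorem hD [Finite G] {P : Sylow 2 G} {S0 N S1 S2 J1 J2 : Subgroup G} {ρ₁ ρ₂ : S0 →* C}
    (d : UD (P : Subgroup G) S0 N S1 S2 J1 J2 ρ₁ ρ₂ σ q) (g1 : AllGood S1 S2 J1 q) (g2 : AllGood S2 S1 J2 q)
    {x : G} (hx : x ∈ S1) (hx1 : x ≠ 1) (hx2 : x * x = 1) {a b : G} (ha : a ∈ S1) (hb : b ∈ S2) (ha1 : a ≠ 1)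
    (hb1 : b ≠ 1) (ha2 : a * a = 1) (hb2 : b * b = 1) (g : G) : g⁻¹ * (a * b) * g ≠ x := by
  intro hg
  obtain ⟨m, -, y, z, hG⟩ := g1 x hx hx1 hx2
  obtain ⟨m1, hm1, y1, z1, hG1⟩ := g1 a ha ha1 ha2
  obtain ⟨m2, hm2, y2, z2, hG2⟩ := g2 b hb hb1 hb2
  refine d.claimB hG hG1 hG2 ((m1 * m2)⁻¹ * g * m) ?_
  have e1 : m1⁻¹ * b * m1 = b := by
    rw [mul_assoc, ← hm1 b hb, inv_mul_cancel_left]
  have e2 : m2⁻¹ * (m1⁻¹ * a * m1) * m2 = m1⁻¹ * a * m1 := by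
    rw [mul_assoc, ← hm2 _ (d.s1.JS hG1.xJ), inv_mul_cancel_left]
  have e3 : (m1 * m2)⁻¹ * (a * b) * (m1 * m2) = (m1⁻¹ * a * m1) * (m2⁻¹ * b * m2) := by
    calc (m1 * m2)⁻¹ * (a * b) * (m1 * m2) = m2⁻¹ * ((m1⁻¹ * a * m1) * (m1⁻¹ * b * m1)) * m2 := by group
      _ = m2⁻¹ * ((m1⁻¹ * a * m1) * b) * m2 := by rw [e1]
      _ = (m2⁻¹ * (m1⁻¹ * a * m1) * m2) * (m2⁻¹ * b * m2) := by group
      _ = _ := by rw [e2]
  rw [← e3, ← hg]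
  group

/-- elements of `S0` have commutators in `N` -/
theorem comm_mem_N {P S0 N S1 S2 J1 J2 : Subgroup G} {ρ₁ ρ₂ : S0 →* C} (d : UD P S0 N S1 S2 J1 J2 ρ₁ ρ₂ σ q)
    {a b : G} (ha : a ∈ S0) (hb : b ∈ S0) : ⁅a, b⁆ ∈ N := by
  have hab : ⁅a, b⁆ ∈ S0 := by
    rw [commutatorElement_def]
    exact mul_mem (mul_mem (mul_mem ha hb) (inv_mem ha)) (inv_mem hb)
  rw [d.ker _ hab]
  have e : (⟨⁅a, b⁆, hab⟩ : S0) = ⁅(⟨a, ha⟩ : S0), ⟨b, hb⟩⁆ := rfl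
  rw [e, map_commutatorElement, map_commutatorElement]
  exact ⟨commutatorElement_eq_one_iff_mul_comm.2 (mul_comm _ _),
    commutatorElement_eq_one_iff_mul_comm.2 (mul_comm _ _)⟩

/-- commutators of elements of `P` which commute with an element of `P ∖ S0` -/
theorem comm_mem_N' {P S0 N S1 S2 J1 J2 : Subgroup G} {ρ₁ ρ₂ : S0 →* C} (d : UD P S0 N S1 S2 J1 J2 ρ₁ ρ₂ σ q)
    {u a b : G} (hu : u ∈ P) (hu0 : u ∉ S0) (ha : a ∈ P) (hb : b ∈ P) (hua : a * u = u * a) (hub : b * u = u * b) :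
    ⁅a, b⁆ ∈ N := by
  -- `a = u ^ ε * a'`
  have key : ∀ {a : G}, a ∈ P → a * u = u * a → ∃ a' ∈ S0, a' * u = u * a' ∧ (a = a' ∨ a = a' * u) := by
    intro a ha hua
    by_cases h : a ∈ S0
    · exact ⟨a, h, hua, Or.inl rfl⟩
    · have hui : u⁻¹ ∈ P := inv_mem hu
      have hui0 : u⁻¹ ∉ S0 := fun h => hu0 (inv_mem_iff.1 h)
      refine ⟨a * u⁻¹, d.hidx _ ha _ hui h hui0, ?_, Or.inr (by group)⟩
      calc a * u⁻¹ * u = u * a * u⁻¹ := by rw [← hua]; group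
        _ = u * (a * u⁻¹) := by group
  obtain ⟨a', ha', hua', hea⟩ := key ha hua
  obtain ⟨b', hb', hub', heb⟩ := key hb hub
  have hca : Commute a' u := hua'
  have hcb : Commute b' u := hub'
  have e : ⁅a, b⁆ = ⁅a', b'⁆ := by
    rcases hea with rfl | rfl <;> rcases heb with rfl | rfl
    · rfl
    · rw [commutatorElement_def, commutatorElement_def, mul_inv_rev]
      calc a * (b' * u) * a⁻¹ * (u⁻¹ * b'⁻¹) = a * b' * (u * a⁻¹) * u⁻¹ * b'⁻¹ := by group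
        _ = a * b' * (a⁻¹ * u) * u⁻¹ * b'⁻¹ := by rw [hca.inv_left.eq]
        _ = _ := by group
    · rw [commutatorElement_def, commutatorElement_def, mul_inv_rev]
      calc a' * u * b * (u⁻¹ * a'⁻¹) * b⁻¹ = a' * (u * b) * u⁻¹ * a'⁻¹ * b⁻¹ := by group
        _ = a' * (b * u) * u⁻¹ * a'⁻¹ * b⁻¹ := by rw [hcb.eq]
        _ = _ := by group
    · rw [commutatorElement_def, commutatorElement_def, mul_inv_rev, mul_inv_rev]
      calc a' * u * (b' * u) * (u⁻¹ * a'⁻¹) * (u⁻¹ * b'⁻¹) = a' * (u * b') * (a'⁻¹ * u⁻¹) * b'⁻¹ := by group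
        _ = a' * (b' * u) * (u⁻¹ * a'⁻¹) * b'⁻¹ := by rw [hcb.eq, (hca.inv_inv).eq]
        _ = _ := by group
  rw [e]
  exact d.comm_mem_N ha' hb'

/-- **NoSwap** for an element commuting with two elements of `S1` whose commutator is an involution -/
theorem noSwap [Finite G] {P : Sylow 2 G} {S0 N S1 S2 J1 J2 : Subgroup G} {ρ₁ ρ₂ : S0 →* C}
    (d : UD (P : Subgroup G) S0 N S1 S2 J1 J2 ρ₁ ρ₂ σ q) (g1 : AllGood S1 S2 J1 q) (g2 : AllGood S2 S1 J2 q)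
    {l a b : G} (ha : a ∈ S1) (hb : b ∈ S1) (hla : a * l = l * a) (hlb : b * l = l * b) (hab : ⁅a, b⁆ ≠ 1)
    (hab2 : ⁅a, b⁆ * ⁅a, b⁆ = 1) : NoSwap (P : Subgroup G) S0 l := by
  have hSP : S1 ≤ (P : Subgroup G) := d.h1N.trans (d.hN.trans d.hS0)
  let Q : Subgroup G := S1 ⊓ centralizer ({l} : Set G)
  have haQ : a ∈ Q := ⟨ha, mem_centralizer_singleton_iff.2 hla⟩
  have hbQ : b ∈ Q := ⟨hb, mem_centralizer_singleton_iff.2 hlb⟩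
  refine ⟨Q, P.isPGroup'.to_le (inf_le_left.trans hSP), fun h hh => mem_centralizer_singleton_iff.1 hh.2,
    fun g hg k hk => ?_⟩
  by_contra hu
  obtain ⟨i, hi⟩ := hg a haQ
  obtain ⟨j, hj⟩ := hg b hbQ
  have hca : Commute a l := hla
  have hcb : Commute b l := hlb
  have cu : ∀ {c : G} (_ : Commute c l) (n : ℤ), g⁻¹ * (l ^ n * c) * g * (g⁻¹ * l ^ k * g) =
      (g⁻¹ * l ^ k * g) * (g⁻¹ * (l ^ n * c) * g) := by
    intro c hc n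
    have h1 : Commute (l ^ n * c) (l ^ k) :=
      (((Commute.refl l).zpow_left n).pow_right k).mul_left (hc.pow_right k)
    calc g⁻¹ * (l ^ n * c) * g * (g⁻¹ * l ^ k * g) = g⁻¹ * ((l ^ n * c) * l ^ k) * g := by group
      _ = g⁻¹ * (l ^ k * (l ^ n * c)) * g := by rw [h1.eq]
      _ = (g⁻¹ * l ^ k * g) * (g⁻¹ * (l ^ n * c) * g) := by group
  have hN := d.comm_mem_N' hk hu hi hj (cu hca i) (cu hcb j)
  have e1 : ⁅l ^ i * a, l ^ j * b⁆ = ⁅a, b⁆ := by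
    have c1 : Commute (l ^ i) a := (hca.zpow_right i).symm
    have c2 : Commute (l ^ i) b := (hcb.zpow_right i).symm
    have c3 : Commute (l ^ j) a := (hca.zpow_right j).symm
    have c4 : Commute (l ^ j) b := (hcb.zpow_right j).symm
    have c5 : Commute (l ^ i) (l ^ j) := (Commute.refl l).zpow_zpow i j
    rw [commutatorElement_def, commutatorElement_def, mul_inv_rev, mul_inv_rev]
    calc l ^ i * a * (l ^ j * b) * (a⁻¹ * (l ^ i)⁻¹) * (b⁻¹ * (l ^ j)⁻¹)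
        = l ^ i * (a * l ^ j) * b * a⁻¹ * ((l ^ i)⁻¹ * b⁻¹) * (l ^ j)⁻¹ := by group
      _ = l ^ i * (l ^ j * a) * b * a⁻¹ * (b⁻¹ * (l ^ i)⁻¹) * (l ^ j)⁻¹ := by
          rw [c3.symm.eq, (c2.inv_inv).eq]
      _ = (l ^ i * l ^ j) * (a * b * a⁻¹ * b⁻¹) * ((l ^ i)⁻¹ * (l ^ j)⁻¹) := by group
      _ = (a * b * a⁻¹ * b⁻¹) * (l ^ i * l ^ j) * ((l ^ i)⁻¹ * (l ^ j)⁻¹) := by
          have d1 : Commute (l ^ i * l ^ j) a := c1.mul_left c3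
          have d2 : Commute (l ^ i * l ^ j) b := c2.mul_left c4
          have c6 : Commute (l ^ i * l ^ j) (a * b * a⁻¹ * b⁻¹) :=
            ((d1.mul_right d2).mul_right d1.inv_right).mul_right d2.inv_right
          rw [c6.eq]
      _ = (a * b * a⁻¹ * b⁻¹) * (l ^ i * l ^ j) * ((l ^ j)⁻¹ * (l ^ i)⁻¹) := by
          rw [(c5.inv_inv).eq]
      _ = a * b * a⁻¹ * b⁻¹ := by group
  have e2 : ⁅g⁻¹ * (l ^ i * a) * g, g⁻¹ * (l ^ j * b) * g⁆ = g⁻¹ * ⁅a, b⁆ * g := by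
    rw [← e1, commutatorElement_def, commutatorElement_def]
    group
  rw [e2] at hN
  obtain ⟨x0, hx0⟩ : ∃ x0, x0 = ⁅a, b⁆ := ⟨_, rfl⟩
  rw [← hx0] at hN hab hab2
  have hx0S : x0 ∈ S1 := by
    rw [hx0, commutatorElement_def]
    exact mul_mem (mul_mem (mul_mem ha hb) (inv_mem ha)) (inv_mem hb)
  have hx0l : Commute x0 l := by
    rw [hx0, commutatorElement_def]
    exact ((hca.mul_left hcb).mul_left hca.inv_left).mul_left hcb.inv_left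
  obtain ⟨c1, hc1, c2, hc2, he⟩ := d.hsup _ hN
  have hcu : (c1 * c2) * (g⁻¹ * l ^ k * g) = (g⁻¹ * l ^ k * g) * (c1 * c2) := by
    rw [← he]
    calc g⁻¹ * x0 * g * (g⁻¹ * l ^ k * g) = g⁻¹ * (x0 * l ^ k) * g := by group
      _ = g⁻¹ * (l ^ k * x0) * g := by rw [(hx0l.pow_right k).eq]
      _ = _ := by group
  have hsw := d.comp_swap hk hu hc1 hc2 hcu
  have hsq : (c1 * c2) * (c1 * c2) = 1 := by
    rw [← he]
    calc g⁻¹ * x0 * g * (g⁻¹ * x0 * g) = g⁻¹ * (x0 * x0) * g := by group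
      _ = 1 := by rw [hab2]; group
  have hsq' : (c1 * c1) * (c2 * c2) = 1 * 1 := by
    calc (c1 * c1) * (c2 * c2) = c1 * (c1 * c2) * c2 := by group
      _ = c1 * (c2 * c1) * c2 := by rw [d.hcomm c1 hc1 c2 hc2]
      _ = (c1 * c2) * (c1 * c2) := by group
      _ = 1 * 1 := by rw [hsq, one_mul]
  obtain ⟨s1, s2⟩ := d.inj (mul_mem hc1 hc1) (mul_mem hc2 hc2) (one_mem _) (one_mem _) hsq'
  have hc11 : c1 ≠ 1 := by
    intro h
    rw [h, mul_one, mul_inv_cancel] at hsw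
    rw [h, hsw, one_mul] at he
    apply hab
    calc x0 = g * (g⁻¹ * x0 * g) * g⁻¹ := by group
      _ = 1 := by rw [he]; group
  have hc21 : c2 ≠ 1 := by
    intro h
    rw [h] at hsw
    apply hc11
    have := eq_mul_inv_iff_mul_eq.1 hsw
    rw [one_mul] at this
    exact left_eq_mul.1 this
  refine d.hD g1 g2 hx0S hab hab2 hc1 hc2 hc11 hc21 s1 s2 g⁻¹ ?_
  rw [← he, inv_inv]
  group

/-- **`P ∩ E = N`** -/
theorem inf_eq [Finite G] {P : Sylow 2 G} {S0 N S1 S2 J1 J2 E : Subgroup G} [E.Normal] {ρ₁ ρ₂ : S0 →* C}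
    (d : UD (P : Subgroup G) S0 N S1 S2 J1 J2 ρ₁ ρ₂ σ q) (g1 : AllGood S1 S2 J1 q) (g2 : AllGood S2 S1 J2 q)
    {t : G} (ht : t * t = 1) (htP : t ∈ (P : Subgroup G)) (ht0 : t ∉ S0) (hF1 : ∀ g : G, g⁻¹ * t * g ∉ S0)
    (hE : commutator E = ⊤) (hGE : ∀ g : G, g ∈ E ∨ t * g ∈ E) (hNE : N ≤ E)
    (hfld : ∀ l ∈ S0, ∃ l' : G, l⁻¹ * l' ∈ N ∧ ∃ a ∈ S1, ∃ b ∈ S1, a * l' = l' * a ∧ b * l' = l' * b ∧
      ⁅a, b⁆ ≠ 1 ∧ ⁅a, b⁆ * ⁅a, b⁆ = 1)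
    (hF4 : S0 ≠ N → ∃ y, ∃ hy : y ∈ S0, y * y = 1 ∧ y ∉ N ∧ ∀ g : G, ∀ h : g⁻¹ * y * g ∈ S0,
      ρ₁ ⟨_, h⟩ = ρ₁ ⟨y, hy⟩ ∧ ρ₂ ⟨_, h⟩ = ρ₂ ⟨y, hy⟩) :
    (P : Subgroup G) ⊓ E = N := by
  refine inf_eq' (T := ⊥) (ψ := ρ₁.prod ρ₂) d.hS0 d.hidx ht htP ht0 (IsPGroup.of_bot) ?_ (fun g _ _ => hF1 g) hE hGE
    ?_ ?_ d.hN ?_
  · intro r hr
    rw [mem_bot.1 hr, one_mul, mul_one]
  · intro l hl hlE
    obtain ⟨l', hl', a, ha, b, hb, h1, h2, h3, h4⟩ := hfld l hl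
    refine ⟨l', fun h => hlE ?_, d.noSwap g1 g2 ha hb h1 h2 h3 h4⟩
    have h5 := hNE hl'
    have h6 := mul_mem h (inv_mem h5)
    have e : l' * (l⁻¹ * l')⁻¹ = l := by group
    rwa [e] at h6
  · intro x hx
    rw [d.ker x hx]
    exact Prod.ext_iff
  · rintro ⟨x, hx, hxN⟩ - -
    obtain ⟨y, hy, hy2, hyN, hyc⟩ := hF4 (fun h => hxN (h ▸ hx))
    refine ⟨y, hy, hy2, hyN, ⊥, IsPGroup.of_bot, bot_le, ?_, ?_⟩
    · intro r hr
      rw [mem_bot.1 hr, one_mul, mul_one]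
    · intro g _ _ h
      obtain ⟨e1, e2⟩ := hyc g h
      exact d.mem_N_of hy h e1.symm e2.symm

end UD

end Cfsg.Agent.StdRank2.OutSplit
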