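import Cfsg.Agent.StdRank2.OutSplit.UXI

/-!
# The Sylow 2-subgroup of `L` in the split case of `U₄(q)`, `U₅(q)`
-/

set_option autoImplicit false
set_option linter.unusedSectionVars false

namespace Cfsg.Agent.StdRank2.OutSplit.UEnd

open Subgroup
open scoped commutatorElement
open Cfsg Cfsg.Agent.StdEven.Syl Cfsg.Agent.StdEven.Loc Cfsg.Agent.StdL2.Setup Cfsg.Agent.SwapEnd
open Cfsg.Agent.TitsThree.B2Pkg Cfsg.Agent.TitsThree.RankTwoIdentB2
  Cfsg.Agent.TitsThree.CoreB2 Cfsg.Agent.TitsThree.RankTwoIdx Cfsg.Agent.TitsThree.RankTwoRGD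
open Cfsg.Agent.StdRank2.OddLift Cfsg.Agent.StdRank2.B2Lift Cfsg.Agent.StdRank2.B2Std
  Cfsg.Agent.StdRank2.B2Torus Cfsg.Agent.StdRank2.B2Act Cfsg.Agent.StdRank2.B2Act.Std
  Cfsg.Agent.StdRank2.B2Par Cfsg.Agent.StdRank2.B2Par.Std Cfsg.Agent.StdRank2.B2Self
  Cfsg.Agent.StdRank2.B2Amb
open Cfsg.Agent.StdRank2.OutB2Par Cfsg.Agent.StdRank2.OutB2G Cfsg.Agent.StdRank2.OutB2Aut
  Cfsg.Agent.StdRank2.OutB2Tw Cfsg.Agent.StdRank2.OutB2Data Cfsg.Agent.StdRank2.OutB2Inv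
open Cfsg.Agent.StdRank2.UStart (UDat WS WG Fx mem_WG coe_mem_WG isW_iff nf_mem_W T_ext isSyl_UG)

universe u

section gen

variable {G : Type u} [Group G] [Finite G] {L A M : Subgroup G} {t : G}

/-! ### generalities on `L` -/

theorem conf_gen (C : Conf L A t) (g : G) : g ∈ L ∨ t * g ∈ L := by
  have hn := C.normal
  have htt := Cfsg.Agent.StdEven.Loc.tt C.ht
  let K : Subgroup G :=
    { carrier := {g | g ∈ L ∨ t * g ∈ L}
      one_mem' := Or.inl (one_mem _)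
      mul_mem' := by
        have hc : ∀ {a : G}, a ∈ L → t * a * t⁻¹ ∈ L := fun ha => hn.conj_mem _ ha t
        rintro a b (ha | ha) (hb | hb)
        · exact Or.inl (mul_mem ha hb)
        · right
          have e : t * (a * b) = (t * a * t⁻¹) * (t * b) := by group
          rw [e]
          exact mul_mem (hc ha) hb
        · right
          have e : t * (a * b) = (t * a) * b := by group
          rw [e]
          exact mul_mem ha hb
        · left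
          have e : a * b = (t⁻¹ * (t * a) * t) * ((t * t)⁻¹ * (t * b)) := by group
          rw [e, htt, inv_one, one_mul]
          have h1 := hn.conj_mem _ ha t⁻¹
          rw [inv_inv] at h1
          exact mul_mem h1 hb
      inv_mem' := by
        rintro a (ha | ha)
        · exact Or.inl (inv_mem ha)
        · right
          have e : t * a⁻¹ = (t * t) * (t⁻¹ * (t * a)⁻¹ * t) := by group
          rw [e, htt, one_mul]
          have h1 := hn.conj_mem _ (inv_mem ha) t⁻¹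
          rwa [inv_inv] at h1 }
  have h1 : L ⊔ zpowers t ≤ K := by
    refine sup_le (fun x hx => Or.inl hx) ?_
    rw [zpowers_le]
    right
    show t * t ∈ L
    rw [htt]; exact one_mem _
  exact h1 (by rw [C.gen]; exact mem_top _)

theorem conf_perf (C : Conf L A t) : _root_.commutator ↥L = ⊤ := by
  have := C.simple
  rcases (inferInstance : (_root_.commutator ↥L).Normal).eq_bot_or_eq_top with h | h
  · exfalso
    apply C.not_comm
    rw [commutator_eq_bot_iff_center_eq_top] at h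
    refine ⟨⟨fun a b => ?_⟩⟩
    have : b ∈ center ↥L := by rw [h]; exact mem_top _
    exact mem_center_iff.mp this a
  · exact h

/-- commutators are in `L` -/
theorem conf_comm (C : Conf L A t) (a b : G) : ⁅a, b⁆ ∈ L := by
  have hL := C.normal
  have htt := Cfsg.Agent.StdEven.Loc.tt C.ht
  have hab : ∀ a b : G, a ∉ L → b ∉ L → a * b ∈ L := by
    intro a b ha hb
    have h1 := (conf_gen C a).resolve_left ha
    have h2 := (conf_gen C b).resolve_left hb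
    have h3 := hL.conj_mem _ h1 t
    have h4 := mul_mem h3 h2
    have e : t * (t * a) * t⁻¹ * (t * b) = a * b := by
      calc t * (t * a) * t⁻¹ * (t * b) = (t * t) * a * b := by group
        _ = a * b := by rw [htt, one_mul]
    rwa [e] at h4
  have hinv : ∀ a : G, a ∉ L → a⁻¹ ∉ L := fun a ha h => ha (by
    have := inv_mem h
    rwa [inv_inv] at this)
  rw [commutatorElement_def]
  by_cases ha : a ∈ L
  · have e : a * b * a⁻¹ * b⁻¹ = a * (b * a⁻¹ * b⁻¹) := by group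
    rw [e]
    exact mul_mem ha (hL.conj_mem _ (inv_mem ha) b)
  · by_cases hb : b ∈ L
    · exact mul_mem (hL.conj_mem _ hb a) (inv_mem hb)
    · have e : a * b * a⁻¹ * b⁻¹ = (a * b) * (a⁻¹ * b⁻¹) := by group
      rw [e]
      exact mul_mem (hab _ _ ha hb) (hab _ _ (hinv _ ha) (hinv _ hb))

theorem MM_le_L (C : Conf L A t) (Sw : Swap M t) : M ⊔ M2 M t ≤ L := by
  have hL := C.normal
  have h1 : M ≤ L := by
    rw [← Sw.perf, Subgroup.commutator_le]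
    intro x _ y _
    exact conf_comm C x y
  refine sup_le h1 ?_
  rintro _ ⟨x, hx, rfl⟩
  exact hL.conj_mem _ (h1 hx) t

/-- an involution in the cyclic group generated by a 2-element -/
theorem exists_invol {Q : Subgroup G} (hQ : IsPGroup 2 Q) {a : G} (ha : a ∈ Q) (ha1 : a ≠ 1) :
    ∃ n : ℕ, a ^ n ≠ 1 ∧ a ^ n * a ^ n = 1 := by
  obtain ⟨k, hk⟩ := hQ ⟨a, ha⟩
  have hk' : a ^ 2 ^ k = 1 := congrArg Subtype.val hk
  clear hk
  induction k with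
  | zero => exact absurd (by simpa using hk') ha1
  | succ k ih =>
    by_cases h : a ^ 2 ^ k = 1
    · exact ih h
    · refine ⟨2 ^ k, h, ?_⟩
      rw [← pow_add, ← two_mul, ← pow_succ']; exact hk'

end gen

section ab

variable {F : Type*} [Field F] {V : Type*} [AddCommGroup V] [Module F V] {D : PQDatum F V}
variable [Finite F] [CharP F 2]
variable {G : Type u} [Group G] {A : Subgroup G} {N : FData D}

/-- the two elements `x(1)`, `z₂(0, 1)` -/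
theorem exists_ab (hD : UDat D) (S : Std D ↥A) : ∃ a ∈ UG S, ∃ b ∈ UG S, a * a = 1 ∧ ⁅a, b⁆ ≠ 1 ∧
    ⁅a, b⁆ * ⁅a, b⁆ = 1 ∧ ∀ (f : G) (ρ : F ≃+* F), Fld N S f ρ → a * f = f * a ∧ b * f = f * b := by
  obtain ⟨s, hs⟩ : ∃ s, s = hD.c0 (map_one D.σ) := ⟨_, rfl⟩
  have hsw : s.w = 0 := by rw [hs]; rfl
  have hsc : s.c = 1 := by rw [hs]; rfl
  have hz : S.m.z₂ s = nf S.m 0 1 0 s := z₂_eq_nf S.rel s
  have hbW : IsW' S (nf S.m 0 1 0 s) := nf_mem_W rfl hsw _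
  have haU : ((S.m.x 1 : ↥A) : G) ∈ UG S := ⟨_, x_mem 1, rfl⟩
  have hbG : ((S.m.z₂ s : ↥A) : G) ∈ WG S := by rw [hz]; exact coe_mem_WG.2 hbW
  refine ⟨_, haU, _, WG_le_UG hbG, ?_, ?_, ?_, ?_⟩
  · have : S.m.x 1 * S.m.x 1 = 1 := by
      rw [← S.rel.x_add, CharTwo.add_self_eq_zero, add_zero' S.rel.x_add]
    exact congrArg Subtype.val this
  · intro h
    have h1 := UStart.x_conj (S := S) hD (r := 1) rfl hsw 1 0
    rw [commutatorElement_eq_one_iff_mul_comm] at h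
    have h2 : S.m.x 1 * S.m.z₂ s = S.m.z₂ s * S.m.x 1 := Subtype.ext h
    rw [← hz, h2, mul_inv_cancel_right, hz] at h1
    have h3 := (S.nf_inj h1).2.2.1
    rw [hsc, mul_one, zero_add] at h3
    exact one_ne_zero h3.symm
  · have h1 : ⁅((S.m.x 1 : ↥A) : G), ((S.m.z₂ s : ↥A) : G)⁆ ∈ WG S := by
      rw [commutatorElement_def]
      exact mul_mem (UG_WG haU hbG) (inv_mem hbG)
    obtain ⟨v, hv, e⟩ := mem_WG.1 h1
    rw [← e]
    exact congrArg Subtype.val (UStart.W_sq hD hv)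
  · intro f ρ h
    constructor
    · have h1 := h.x 1
      rw [map_one, mul_inv_eq_iff_eq_mul] at h1
      exact h1.symm
    · have h1 := h.z₂ s
      have h2 : N.T ρ s = s := by
        refine T_ext ?_ ?_
        · rw [T_w_zero hsw, hsw]
        · rw [FData.T_c, hsc, map_one]
      rw [h2, mul_inv_eq_iff_eq_mul] at h1
      exact h1.symm

end ab

section main

variable {F : Type*} [Field F] {V : Type*} [AddCommGroup V] [Module F V] {D : PQDatum F V}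
variable [Finite F] [CharP F 2]
variable {G : Type u} [Group G] [Finite G] {L A M : Subgroup G} {t : G} {N : FData D} {S : Std D ↥M}
variable {P : Subgroup G}

variable (Sw : Swap M t) (Di : Swap.Dia Sw A) (C : Conf L A t) (cfg : Cfg M t N S P)
  (hD : UDat D) (hq : 4 ≤ Nat.card (Fx D))

include Sw Di in
/-- `N(M M^t)` and fusion of `t` -/
theorem fixD (hD : UDat D) (N : FData D) (S : Std D ↥M) {g : G} (hg : g⁻¹ * t * g ∈ YY M t)
    (h0 : g⁻¹ * t * g ∉ YZ M t) : g ∈ YY M t := by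
  obtain ⟨a, ha, b, hb, haa, hab, -, -⟩ := exists_ab (N := N) hD S
  refine fix Sw Di (UG_le S ha) haa ⟨b, UG_le S hb, fun h => hab ?_⟩ hg h0
  exact commutatorElement_eq_one_iff_mul_comm.2 h

include Sw Di in
/-- `N(M M^t)` contains the centraliser of `t` -/
theorem cent_le (hD : UDat D) (N : FData D) (S : Std D ↥M) {g : G} (hg : g * t = t * g) : g ∈ YY M t := by
  have e : g⁻¹ * t * g = t := by rw [mul_assoc, ← hg, inv_mul_cancel_left]
  exact fixD Sw Di hD N S (by rw [e]; exact Sw.t_mem_YY) (by rw [e]; exact t_not_YZ Sw)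

include Sw in
theorem conj_YZ {n x : G} (hn : n ∈ YY M t) (hx : n * x * n⁻¹ ∈ YZ M t) : x ∈ YZ M t := by
  have h1 := conj_inv_mem_of_mem_normalizer (YZ_normal Sw hn) hx
  have e : n⁻¹ * (n * x * n⁻¹) * n = x := by group
  rwa [e] at h1

include Sw in
/-- `⟨E, t⟩` is a 2-group -/
theorem sup_t {E : Subgroup G} (hE : IsPGroup 2 E) (hEt : ∀ x ∈ E, x * t = t * x) :
    IsPGroup 2 (E ⊔ zpowers t : Subgroup G) := by
  refine hE.to_sup_of_normal_left' (isPGroup_zpowers Sw.tt) ?_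
  rw [zpowers_le]
  apply mem_normalizer_of_conj_le
  intro x hx
  rw [← hEt x hx, mul_inv_cancel_right]
  exact hx

theorem two_of_sq {E : Subgroup G} (hE : ∀ x ∈ E, x * x = 1) : IsPGroup 2 E := fun x =>
  ⟨1, by rw [pow_one, pow_two]; exact Subtype.ext (hE x x.2)⟩

include Sw Di cfg hD in
theorem hPt (E : Subgroup G) (hE : ∀ x ∈ E, x * x = 1) (hEt : ∀ x ∈ E, x * t = t * x) :
    ∃ h : G, (∀ x ∈ E, h⁻¹ * x * h ∈ P) ∧ h⁻¹ * t * h ∈ P ∧ h⁻¹ * t * h ∉ P ⊓ YZ M t := by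
  have h1 := sup_t Sw (two_of_sq hE) hEt
  have h2 : E ⊔ zpowers t ≤ YY M t := sup_le (fun x hx => cent_le Sw Di hD N S (hEt x hx)) (by
    rw [zpowers_le]; exact Sw.t_mem_YY)
  obtain ⟨n, hn, h3⟩ := cfg.syl.exists_conj h1 h2
  refine ⟨n⁻¹, fun x hx => ?_, ?_, fun h => ?_⟩
  · rw [inv_inv]; exact h3 x (mem_sup_left hx)
  · rw [inv_inv]; exact h3 t (mem_sup_right (mem_zpowers t))
  · rw [inv_inv] at h
    exact t_not_YZ Sw (conj_YZ Sw hn h.2)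

include Sw Di C cfg hD hq in
/-- **(F1)** -/
theorem F1 (g : G) : g⁻¹ * t * g ∉ YZ M t := by
  obtain ⟨θ, -, -, X⟩ := exists_ux Sw Di C cfg hD hq
  have h1 := X.F1 Sw.tt (hPt Sw Di cfg hD)
  intro hg
  have hww : g⁻¹ * t * g * (g⁻¹ * t * g) = 1 := by
    calc g⁻¹ * t * g * (g⁻¹ * t * g) = g⁻¹ * (t * t) * g := by group
      _ = 1 := by rw [Sw.tt]; group
  obtain ⟨n, hn, h3⟩ := cfg.syl.exists_conj (isPGroup_zpowers hww) (by rw [zpowers_le]; exact Sw.YZ_le hg)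
  have h4 := h3 _ (mem_zpowers _)
  have e : n * (g⁻¹ * t * g) * n⁻¹ = (g * n⁻¹)⁻¹ * t * (g * n⁻¹) := by group
  apply h1 (g * n⁻¹)
  rw [← e]
  exact ⟨h4, conj_mem_of_mem_normalizer (YZ_normal Sw hn) hg⟩

include Sw Di C cfg hD hq in
theorem fixY (g : G) (hg : g⁻¹ * t * g ∈ YY M t) : g ∈ YY M t :=
  fixD Sw Di hD N S hg (F1 Sw Di C cfg hD hq g)

include Sw Di C cfg hD hq in
/-- a 2-group containing `t` lies in `N(M M^t)` -/
theorem le_YY {T : Subgroup G} (hT : IsPGroup 2 T) (ht : t ∈ T) : T ≤ YY M t :=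
  le_of_fix (fixY Sw Di C cfg hD hq) hT ht Sw.t_mem_YY

include Sw Di C cfg hD hq in
/-- `P` is Sylow in `G` -/
theorem sylP : ∃ Q : Sylow 2 G, (Q : Subgroup G) = P := by
  apply IsSyl.exists_sylow
  refine ⟨le_top, cfg.syl.two, fun X hX _ hle => ?_⟩
  exact cfg.syl.max X hX (le_YY Sw Di C cfg hD hq hX (hle cfg.tP)) hle

/-- elements of `S0` acting as field automorphisms on `M` and `M^t` -/
def Fs (Sw : Swap M t) (N : FData D) (S : Std D ↥M) (P : Subgroup G) : Subgroup G where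
  carrier := {y | y ∈ P ⊓ YZ M t ∧ (∃ ρ, Fld N S y ρ) ∧ ∃ ρ, Fld N S (t * y * t) ρ}
  one_mem' := ⟨one_mem _, ⟨1, TX.fld_one⟩, ⟨1, by rw [mul_one, Sw.tt]; exact TX.fld_one⟩⟩
  mul_mem' := by
    rintro a b ⟨ha, ⟨ρ, h1⟩, ρ', h2⟩ ⟨hb, ⟨τ, h3⟩, τ', h4⟩
    exact ⟨mul_mem ha hb, ⟨_, fld_mul h1 h3⟩, _, by rw [Sw.tmul]; exact fld_mul h2 h4⟩
  inv_mem' := by
    rintro a ⟨ha, ⟨ρ, h1⟩, ρ', h2⟩
    exact ⟨inv_mem ha, ⟨_, TX.fld_inv h1⟩, _, by rw [Sw.tinv]; exact TX.fld_inv h2⟩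

theorem mem_Fs {y : G} : y ∈ Fs Sw N S P ↔
    y ∈ P ⊓ YZ M t ∧ (∃ ρ, Fld N S y ρ) ∧ ∃ ρ, Fld N S (t * y * t) ρ := Iff.rfl

include Sw in
theorem Fs_t (htP : t ∈ P) {y : G} (hy : y ∈ Fs Sw N S P) : t * y * t ∈ Fs Sw N S P := by
  obtain ⟨h1, h2, h3⟩ := hy
  refine ⟨⟨mul_mem (mul_mem htP h1.1) htP, Sw.t_YZ h1.2⟩, h3, ?_⟩
  rw [Sw.tconj]; exact h2

omit [Finite F] [CharP F 2] [Finite G] in
theorem fld_one_mul {c f : G} {ρ : F ≃+* F} (h : Fld N S c 1) (h' : Fld N S f ρ) : Fld N S (c * f) ρ := by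
  have h1 := fld_mul h h'
  rwa [one_mul] at h1

include cfg in
/-- every coset of `N` in `S0` meets `Fs` -/
theorem exists_Fs {θ : ↥(P ⊓ YZ M t) →* AutF F}
    (hθ : ∀ y : ↥(P ⊓ YZ M t), ∃ u ∈ UG S, Fld N S (u * y) (θ y : F ≃+* F)) {l : G} (hl : l ∈ P ⊓ YZ M t)
    (hn1 : ∀ w ∈ P ⊓ YZ M t, ∀ a ∈ UG S, w * a * w⁻¹ ∈ UG S)
    (hn2 : ∀ w ∈ P ⊓ YZ M t, ∀ a ∈ U2 S t, w * a * w⁻¹ ∈ U2 S t) :
    ∃ l' ∈ Fs Sw N S P, l⁻¹ * l' ∈ UG S ⊔ U2 S t := by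
  obtain ⟨u, hu, hF1⟩ := hθ ⟨l, hl⟩
  obtain ⟨v, hv, hF2⟩ := hθ (tau Sw cfg.tP ⟨l, hl⟩)
  rw [tau_apply] at hF2
  have hvt : t * v * t ∈ M2 M t := Sw.conj_mem_M2 (UG_le S hv)
  have hvU : t * v * t ∈ U2 S t := (mem_U2 Sw).2 (by rw [Sw.tconj]; exact hv)
  have hut : t * u * t ∈ M2 M t := Sw.conj_mem_M2 (UG_le S hu)
  have huS := u1_S0 Sw cfg hu
  have hvS := u2_S0 Sw cfg hvU
  have k1 : Fld N S (u * (t * v * t) * l) (θ ⟨l, hl⟩ : F ≃+* F) := by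
    have h1 : Fld N S (t * v * t) 1 := fld_of_cent fun m hm => (Sw.commM hm hvt).symm
    have h2 := fld_one_mul h1 hF1
    have e : t * v * t * (u * ((⟨l, hl⟩ : ↥(P ⊓ YZ M t)) : G)) = u * (t * v * t) * l := by
      show t * v * t * (u * l) = u * (t * v * t) * l
      rw [Sw.commM (UG_le S hu) hvt]
      simp only [mul_assoc]
    rw [e] at h2
    exact h2
  have k2 : Fld N S (t * (u * (t * v * t) * l) * t) (θ (tau Sw cfg.tP ⟨l, hl⟩) : F ≃+* F) := by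
    have h1 : Fld N S (t * u * t) 1 := fld_of_cent fun m hm => (Sw.commM hm hut).symm
    have h2 := fld_one_mul h1 hF2
    have e : t * u * t * (v * (t * ((⟨l, hl⟩ : ↥(P ⊓ YZ M t)) : G) * t)) = t * (u * (t * v * t) * l) * t := by
      show t * u * t * (v * (t * l * t)) = t * (u * (t * v * t) * l) * t
      rw [Sw.tmul, Sw.tmul, Sw.tconj]
      simp only [mul_assoc]
    rw [e] at h2
    exact h2
  refine ⟨u * (t * v * t) * l, ⟨mul_mem (mul_mem huS hvS) hl, ⟨_, k1⟩, ⟨_, k2⟩⟩, ?_⟩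
  have h1 := hn1 _ (inv_mem hl) _ hu
  have h2 := hn2 _ (inv_mem hl) _ hvU
  have e : l⁻¹ * (u * (t * v * t) * l) = (l⁻¹ * u * l⁻¹⁻¹) * (l⁻¹ * (t * v * t) * l⁻¹⁻¹) := by group
  rw [e]
  exact mul_mem (mem_sup_left h1) (mem_sup_right h2)

include Sw Di C cfg in
/-- elements of `Fs` over `(1, 1)` -/
theorem Fs_one {θ : ↥(P ⊓ YZ M t) →* AutF F}
    (hθu : ∀ (y : ↥(P ⊓ YZ M t)) (u : G) (ρ : F ≃+* F), u ∈ UG S → Fld N S (u * y) ρ → θ y = ρ)
    {y : G} (hy : y ∈ Fs Sw N S P) (h1 : θ ⟨y, hy.1⟩ = 1) (h2 : θ (tau Sw cfg.tP ⟨y, hy.1⟩) = 1) : y = 1 := by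
  obtain ⟨hyS, ⟨ρ, hF1⟩, ρ', hF2⟩ := hy
  have e1 := hθu ⟨y, hyS⟩ 1 ρ (one_mem _) (by rw [one_mul]; exact hF1)
  have e2 := hθu (tau Sw cfg.tP ⟨y, hyS⟩) 1 ρ' (one_mem _) (by rw [one_mul]; exact hF2)
  rw [h1] at e1
  rw [h2] at e2
  have e1' : ρ = 1 := e1.symm
  have e2' : ρ' = 1 := e2.symm
  subst e1' e2'
  have c1 := cent_of_fld hF1
  have c2 := cent_t Sw (cent_of_fld hF2)
  rw [Sw.tconj] at c2
  exact one_of_two Sw Di C c1 c2 (two_S0 Sw cfg) hyS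

include Sw Di C cfg in
/-- a field involution commuting with `t` -/
theorem exists_y {θ : ↥(P ⊓ YZ M t) →* AutF F}
    (hθ : ∀ y : ↥(P ⊓ YZ M t), ∃ u ∈ UG S, Fld N S (u * y) (θ y : F ≃+* F))
    (hθu : ∀ (y : ↥(P ⊓ YZ M t)) (u : G) (ρ : F ≃+* F), u ∈ UG S → Fld N S (u * y) ρ → θ y = ρ)
    (X : UX P (P ⊓ YZ M t) (UG S ⊔ U2 S t) (UG S) (U2 S t) (WG S) (W2 S t) M (M2 M t) θ (θ.comp (tau Sw cfg.tP))
      (D.σ : AutF F) (Nat.card (Fx D))) (hne : P ⊓ YZ M t ≠ UG S ⊔ U2 S t) :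
    ∃ y ∈ Fs Sw N S P, y * y = 1 ∧ y ∉ UG S ⊔ U2 S t ∧ y * t = t * y := by
  obtain ⟨l, hl, hlN⟩ : ∃ l ∈ P ⊓ YZ M t, l ∉ UG S ⊔ U2 S t := by
    by_contra hcon
    push Not at hcon
    exact hne (le_antisymm hcon X.hN)
  obtain ⟨l', hl', h1⟩ := exists_Fs Sw cfg hθ hl X.s1.norm X.s2.norm
  have hl'1 : l' ≠ 1 := by
    rintro rfl
    rw [mul_one] at h1
    exact hlN (inv_mem_iff.1 h1)
  have hFs2 : IsPGroup 2 (Fs Sw N S P) := (two_S0 Sw cfg).to_le fun y hy => hy.1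
  obtain ⟨a, ha, ha1, hat⟩ := exists_fixed (T := zpowers t) (J := Fs Sw N S P) (isPGroup_zpowers Sw.tt) hFs2
    (by
      intro h
      rw [h] at hl'
      exact hl'1 (mem_bot.1 hl')) (by
      intro w hw j hj
      obtain ⟨n, rfl⟩ := mem_zpowers_iff.1 hw
      rcases Int.even_or_odd' n with ⟨k, rfl | rfl⟩
      · rw [zpow_mul, zpow_ofNat, pow_two, Sw.tt, one_zpow, one_mul, inv_one, mul_one]
        exact hj
      · rw [zpow_add, zpow_mul, zpow_ofNat, pow_two, Sw.tt, one_zpow, one_mul, zpow_one, Sw.ti]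
        exact Fs_t Sw cfg.tP hj)
  have hat' : Commute a t := hat t (mem_zpowers t)
  obtain ⟨n, hn1, hn2⟩ := exists_invol hFs2 ha ha1
  have hnt : a ^ n * t = t * a ^ n := (hat'.pow_left n).eq
  have hnF : a ^ n ∈ Fs Sw N S P := pow_mem ha n
  refine ⟨a ^ n, hnF, hn2, fun h => hn1 ?_, hnt⟩
  have h2 := (X.ker _ hnF.1).1 h
  exact Fs_one Sw Di C cfg hθu hnF h2.1 h2.2

include Sw in
theorem conj_MM {n x : G} (hn : n ∈ YY M t) (hx : n * x * n⁻¹ ∈ M ⊔ M2 M t) : x ∈ M ⊔ M2 M t := by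
  have h1 := conj_inv_mem_of_mem_normalizer hn hx
  have e : n⁻¹ * (n * x * n⁻¹) * n = x := by group
  rwa [e] at h1

include Sw Di C hD in
/-- a field involution is not in `M M^t` -/
theorem not_MM [Finite D.T] (hN : Ty.{u} N) {y : G} (hy : Fld N S y D.σ) : y ∉ M ⊔ M2 M t := by
  intro h
  have hZ := odd_center_M Sw C Di
  obtain ⟨a, ha, b, hb, rfl⟩ := Sw.mem_MM.1 h
  have h1 : Fld N S b⁻¹ 1 := fld_of_cent fun m hm => (Sw.commM hm (inv_mem hb)).symm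
  have h2 := fld_mul hy h1
  rw [mul_inv_cancel_right, mul_one] at h2
  -- an odd power of `a`
  obtain ⟨k, r, hr, hk⟩ := Nat.exists_eq_two_pow_mul_odd (orderOf_pos a).ne'
  have hpow : ∀ n : ℕ, Fld N S (a ^ n) (D.σ ^ n) := by
    intro n
    induction n with
    | zero => rw [pow_zero, pow_zero]; exact TX.fld_one
    | succ n ih => rw [pow_succ, pow_succ]; exact fld_mul ih h2
  have h3 := hpow r
  have h4 : (D.σ : F ≃+* F) ^ r = D.σ := by
    obtain ⟨m, rfl⟩ := hr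
    rw [pow_succ, pow_mul, pow_two, σσ_one, one_pow, one_mul]
  rw [h4] at h3
  have h5 : (a ^ r) ^ 2 ^ k = 1 := by
    rw [← pow_mul, mul_comm, ← hk, pow_orderOf_eq_one]
  have hU := isSyl_UG hN.scal hZ S
  have h6 : IsPGroup 2 (zpowers (a ^ r)) := by
    rintro ⟨x, hx⟩
    obtain ⟨n, rfl⟩ := mem_zpowers_iff.1 hx
    refine ⟨k, Subtype.ext ?_⟩
    show ((a ^ r) ^ n) ^ 2 ^ k = 1
    rw [← zpow_natCast, ← zpow_mul, mul_comm, zpow_mul, zpow_natCast, h5, one_zpow]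
  have h7 : zpowers (a ^ r) ≤ normalizer (UG S : Set G) := by
    rw [zpowers_le]
    exact mem_normalizer_of_conj_le fun x hx => fld_norm h3 hx
  have h8 := hU.max _ (hU.two.to_sup_of_normal_left' h6 h7) (sup_le hU.le (by
    rw [zpowers_le]; exact pow_mem ha r)) le_sup_left
  have h9 : a ^ r ∈ UG S := by
    rw [← h8]; exact mem_sup_right (mem_zpowers _)
  exact UStart.σ_ne_one hD (eq_one_of_fld hZ h9 h3).2

include Sw Di C cfg hD hq in
/-- **(F4)** -/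
theorem F4 [Finite D.T] (hN : Ty.{u} N) {θ : ↥(P ⊓ YZ M t) →* AutF F}
    (hθu : ∀ (y : ↥(P ⊓ YZ M t)) (u : G) (ρ : F ≃+* F), u ∈ UG S → Fld N S (u * y) ρ → θ y = ρ)
    (X : UX P (P ⊓ YZ M t) (UG S ⊔ U2 S t) (UG S) (U2 S t) (WG S) (W2 S t) M (M2 M t) θ (θ.comp (tau Sw cfg.tP))
      (D.σ : AutF F) (Nat.card (Fx D))) {y : G} (hyF : y ∈ Fs Sw N S P) (hyy : y * y = 1)
    (hyN : y ∉ UG S ⊔ U2 S t) (hyt : y * t = t * y) (g : G) (hg : g⁻¹ * y * g ∈ P ⊓ YZ M t) :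
    θ ⟨_, hg⟩ = θ ⟨y, hyF.1⟩ ∧ (θ.comp (tau Sw cfg.tP)) ⟨_, hg⟩ = (θ.comp (tau Sw cfg.tP)) ⟨y, hyF.1⟩ := by
  have htau : tau Sw cfg.tP ⟨y, hyF.1⟩ = ⟨y, hyF.1⟩ := by
    apply Subtype.ext
    rw [tau_apply]
    show t * y * t = y
    rw [← hyt, mul_assoc, Sw.tt, mul_one]
  have hσ1 : θ ⟨y, hyF.1⟩ = (D.σ : AutF F) := by
    refine ((X.type_cases hyF.1 hyy).1).resolve_left fun h => hyN ?_
    rw [X.ker y hyF.1]
    refine ⟨h, ?_⟩
    show θ (tau Sw cfg.tP ⟨y, hyF.1⟩) = 1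
    rw [htau]; exact h
  have hσ2 : (θ.comp (tau Sw cfg.tP)) ⟨y, hyF.1⟩ = (D.σ : AutF F) := by
    show θ (tau Sw cfg.tP ⟨y, hyF.1⟩) = _
    rw [htau]; exact hσ1
  rw [hσ1, hσ2]
  have hyS := hyF.1
  obtain ⟨ρ, hF⟩ := hyF.2.1
  have hρ : ρ = D.σ := by
    have := hθu ⟨y, hyS⟩ 1 ρ (one_mem _) (by rw [one_mul]; exact hF)
    rw [hσ1] at this
    exact this.symm
  subst hρ
  have hyMM := not_MM Sw Di C hD hN hF
  refine X.F4 hyy ?_ g hg
  -- Sylow subgroups of `C(y)`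
  intro E hE hEy
  obtain ⟨R, hR, htR⟩ := exists_isSyl (N := centralizer ({y} : Set G)) (isPGroup_zpowers Sw.tt) (by
    rw [zpowers_le, mem_centralizer_singleton_iff]; exact hyt.symm)
  have htR' : t ∈ R := htR (mem_zpowers t)
  have hRY := le_YY Sw Di C cfg hD hq hR.two htR'
  obtain ⟨c, hc, hcE⟩ := hR.exists_conj (two_of_sq hE) (fun x hx => mem_centralizer_singleton_iff.2 (hEy x hx))
  have hcy : c * y = y * c := mem_centralizer_singleton_iff.1 hc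
  have hyR : y ∈ R := by
    obtain ⟨d, hd, hdy⟩ := hR.exists_conj (isPGroup_zpowers hyy) (by
      rw [zpowers_le, mem_centralizer_singleton_iff])
    have h1 := hdy y (mem_zpowers y)
    have hdy' : d * y = y * d := mem_centralizer_singleton_iff.1 hd
    rwa [hdy', mul_inv_cancel_right] at h1
  obtain ⟨a, ha, haR⟩ := cfg.syl.exists_conj hR.two hRY
  have e1 : (c⁻¹ * a⁻¹)⁻¹ * y * (c⁻¹ * a⁻¹) = a * y * a⁻¹ := by
    calc (c⁻¹ * a⁻¹)⁻¹ * y * (c⁻¹ * a⁻¹) = a * (c * y) * c⁻¹ * a⁻¹ := by group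
      _ = a * y * a⁻¹ := by rw [hcy]; group
  have hz : a * y * a⁻¹ ∈ P ⊓ YZ M t := ⟨haR y hyR, conj_mem_of_mem_normalizer (YZ_normal Sw ha) hyS.2⟩
  refine ⟨c⁻¹ * a⁻¹, ?_, by rw [e1]; exact hz, ?_⟩
  · intro x hx
    have h1 := haR _ (hcE x hx)
    have e : (c⁻¹ * a⁻¹)⁻¹ * x * (c⁻¹ * a⁻¹) = a * (c * x * c⁻¹) * a⁻¹ := by group
    rw [e]; exact h1
  · -- types
    have key : ∀ (z : G) (hz : z ∈ P ⊓ YZ M t), z = a * y * a⁻¹ →
        θ ⟨z, hz⟩ = (D.σ : AutF F) ∧ (θ.comp (tau Sw cfg.tP)) ⟨z, hz⟩ = (D.σ : AutF F) := by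
      rintro z hz rfl
      have hzz : a * y * a⁻¹ * (a * y * a⁻¹) = 1 := by
        calc a * y * a⁻¹ * (a * y * a⁻¹) = a * (y * y) * a⁻¹ := by group
          _ = 1 := by rw [hyy]; group
      have h1 : a * t * a⁻¹ ∈ P := haR t htR'
      have h2 : a * t * a⁻¹ ∉ P ⊓ YZ M t := fun h => t_not_YZ Sw (conj_YZ Sw ha h.2)
      have h3 := X.sw _ h1 h2 _ hz (by
        calc a * t * a⁻¹ * (a * y * a⁻¹) = a * (t * y) * a⁻¹ := by group
          _ = a * (y * t) * a⁻¹ := by rw [hyt]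
          _ = a * y * a⁻¹ * (a * t * a⁻¹) := by group)
      rcases (X.type_cases hz hzz).1 with h4 | h4
      · exfalso
        apply hyMM
        apply conj_MM Sw ha
        have h5 : a * y * a⁻¹ ∈ UG S ⊔ U2 S t := (X.ker _ hz).2 ⟨h4, by rw [h3, h4]⟩
        exact (sup_le_sup (UG_le S) (u2_le Sw)) h5
      · exact ⟨h4, by rw [h3, h4]⟩
    exact key _ _ e1

include Sw Di C cfg hD hq in
/-- **`P ∩ L = U U^t`** -/
theorem inf_L [Finite D.T] (hN : Ty.{u} N) : P ⊓ L = UG S ⊔ U2 S t := by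
  obtain ⟨θ, hθ, hθu, X⟩ := exists_ux Sw Di C cfg hD hq
  have hL := C.normal
  obtain ⟨Q, hQ⟩ := sylP Sw Di C cfg hD hq
  subst hQ
  obtain ⟨a, ha, b, hb, haa, hab, hab2, hf⟩ := exists_ab (N := N) hD S
  refine UD.inf_eq (E := L) (t := t) X.toUD X.allGood1 X.allGood2 Sw.tt cfg.tP (fun h => t_not_YZ Sw h.2)
    (fun g hg => F1 Sw Di C cfg hD hq g hg.2) (conf_perf C) (conf_gen C)
    ((sup_le_sup (UG_le S) (u2_le Sw)).trans (MM_le_L C Sw)) ?_ ?_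
  · intro l hl
    obtain ⟨l', hl', h1⟩ := exists_Fs Sw cfg hθ hl X.s1.norm X.s2.norm
    obtain ⟨-, ⟨ρ, hF⟩, -⟩ := hl'
    obtain ⟨h2, h3⟩ := hf l' ρ hF
    exact ⟨l', h1, a, ha, b, hb, h2, h3, hab, hab2⟩
  · intro hne
    obtain ⟨y, hy, hyy, hyN, hyt⟩ := exists_y Sw Di C cfg hθ hθu X hne
    refine ⟨y, hy.1, hyy, hyN, fun g hg => ?_⟩
    exact F4 Sw Di C cfg hD hq hN hθu X hy hyy hyN hyt g hg

include Sw Di C cfg hD hq in
/-- **the Sylow 2-subgroup of `L`** -/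
theorem isSyl_L [Finite D.T] (hN : Ty.{u} N) : IsSyl (UG S ⊔ U2 S t) L := by
  rw [← inf_L Sw Di C cfg hD hq hN]
  obtain ⟨Q, hQ⟩ := sylP Sw Di C cfg hD hq
  have h1 := isSyl_top_of_sylow Q
  rw [hQ] at h1
  have hL := C.normal
  refine h1.inf_normal le_top ?_
  intro g _
  exact mem_normalizer_of_conj_le fun x hx => hL.conj_mem x hx g

end main


end Cfsg.Agent.StdRank2.OutSplit.UEnd
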