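import Cfsg.Agent.StdRank2.OutSplit.UModel
import Cfsg.Agent.StdRank2.TX

/-!
# A 2-group `T` normalising `A` in adapted coordinates: the type homomorphism and fixed points on `W`
-/

set_option autoImplicit false
set_option linter.unusedSectionVars false

namespace Cfsg.Agent.StdRank2.OutSplit

open Subgroup
open Cfsg.Agent.TitsThree.B2Pkg Cfsg.Agent.TitsThree.RankTwoIdentB2
  Cfsg.Agent.TitsThree.CoreB2 Cfsg.Agent.TitsThree.RankTwoIdx Cfsg.Agent.TitsThree.RankTwoRGD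
open Cfsg.Agent.StdRank2.OddLift Cfsg.Agent.StdRank2.B2Lift Cfsg.Agent.StdRank2.B2Std
  Cfsg.Agent.StdRank2.B2Torus Cfsg.Agent.StdRank2.B2Act Cfsg.Agent.StdRank2.B2Act.Std
  Cfsg.Agent.StdRank2.B2Par Cfsg.Agent.StdRank2.B2Par.Std Cfsg.Agent.StdRank2.B2Self
  Cfsg.Agent.StdRank2.B2Amb
open Cfsg.Agent.StdRank2.OutB2Par Cfsg.Agent.StdRank2.OutB2G Cfsg.Agent.StdRank2.OutB2Aut
  Cfsg.Agent.StdRank2.OutB2Tw Cfsg.Agent.StdRank2.OutB2Data Cfsg.Agent.StdRank2.OutB2Inv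
open Cfsg.Agent.StdRank2.UStart (UDat WS WG Fx mem_WG coe_mem_WG isW_iff nf_mem_W T_ext)
open scoped commutatorElement

universe u

/-- the group of field automorphisms as a commutative group -/
def AutF (F : Type*) [Field F] : Type _ := F ≃+* F

noncomputable instance {F : Type*} [Field F] [Finite F] [CharP F 2] : CommGroup (AutF F) :=
  { (inferInstance : Group (F ≃+* F)) with mul_comm := fun a b => OutField.comm (F := F) a b }

theorem AutF.mul_eq {F : Type*} [Field F] [Finite F] [CharP F 2] (a b : F ≃+* F) :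
    ((a : AutF F) * (b : AutF F) : AutF F) = (a * b : F ≃+* F) := rfl

theorem AutF.one_eq {F : Type*} [Field F] [Finite F] [CharP F 2] : (1 : AutF F) = (1 : F ≃+* F) := rfl

variable {F : Type*} [Field F] {V : Type*} [AddCommGroup V] [Module F V] {D : PQDatum F V}
variable {G : Type u} [Group G] {A : Subgroup G} {N : FData D} {S : Std D ↥A} {T : Subgroup G}
variable [Finite F] [CharP F 2]

theorem norm_T (had : Adapted N S T) {y u : G} (hy : y ∈ T) (hu : u ∈ UG S) : y * u * y⁻¹ ∈ UG S := by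
  obtain ⟨v, hv, ρ, -, hF⟩ := had y hy
  have h1 : y * u * y⁻¹ = v⁻¹ * ((v * y) * u * (v * y)⁻¹) * v := by group
  rw [h1]
  exact mul_mem (mul_mem (inv_mem hv) (fld_norm hF hu)) hv

theorem T_w_zero {ρ : F ≃+* F} {r : D.T} (hr : r.w = 0) : (N.T ρ r).w = 0 := by
  rw [FData.T_w, hr, map_zero]

theorem fld_WG {f : G} {ρ : F ≃+* F} (h : Fld N S f ρ) {j : G} (hj : j ∈ WG S) : f * j * f⁻¹ ∈ WG S := by
  obtain ⟨v, hv, rfl⟩ := mem_WG.1 hj
  obtain ⟨r, b, s, hr, hs, rfl⟩ := isW_iff.1 hv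
  have h1 := fld_nG h 0 r b s
  have h2 : f * ((nf S.m 0 r b s : ↥A) : G) * f⁻¹ = (nf S.m (ρ 0) (N.T ρ r) (ρ b) (N.T ρ s) : ↥A) := h1
  rw [h2, map_zero]
  exact coe_mem_WG.2 (nf_mem_W (T_w_zero hr) (T_w_zero hs) _)

theorem UG_WG {u : G} (hu : u ∈ UG S) {j : G} (hj : j ∈ WG S) : u * j * u⁻¹ ∈ WG S := by
  obtain ⟨v, hv, rfl⟩ := mem_WG.1 hj
  obtain ⟨w, hw, rfl⟩ := hu
  exact mem_WG.2 ⟨w * v * w⁻¹, hv.conj hw, rfl⟩

theorem norm_WG (had : Adapted N S T) {y j : G} (hy : y ∈ T) (hj : j ∈ WG S) : y * j * y⁻¹ ∈ WG S := by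
  obtain ⟨v, hv, ρ, -, hF⟩ := had y hy
  have h1 : y * j * y⁻¹ = v⁻¹ * ((v * y) * j * (v * y)⁻¹) * v⁻¹⁻¹ := by group
  rw [h1]
  exact UG_WG (inv_mem hv) (fld_WG hF hj)

/-- fixed points of the involutory field automorphism -/
theorem card_fx_fld (hD : UDat D) {f : G} (h : Fld N S f D.σ) : Nat.card (fx (WG S) f) = Nat.card (Fx D) ^ 3 := by
  have e3 : Nat.card (Fx D) ^ 3 = Nat.card (Fx D × Fx D × Fx D) := by
    rw [Nat.card_prod, Nat.card_prod]; ring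
  rw [e3]
  symm
  have hT : ∀ {r : D.T}, r.w = 0 → N.T D.σ r = r := by
    intro r hr
    refine T_ext ?_ ?_
    · rw [T_w_zero hr, hr]
    · rw [FData.T_c, hD.σ_c hr]
  have hconj : ∀ (r : D.T) (b : F) (s : D.T), r.w = 0 → s.w = 0 →
      f * ((nf S.m 0 r b s : ↥A) : G) * f⁻¹ = (nf S.m 0 r (D.σ b) s : ↥A) := by
    intro r b s hr hs
    have h1 : f * ((nf S.m 0 r b s : ↥A) : G) * f⁻¹ = (nf S.m (D.σ 0) (N.T D.σ r) (D.σ b) (N.T D.σ s) : ↥A) :=
      fld_nG h 0 r b s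
    rw [h1, map_zero, hT hr, hT hs]
  have h1 : ∀ z : Fx D × Fx D × Fx D, ((nf S.m 0 (hD.c0 z.1.2) z.2.1 (hD.c0 z.2.2.2) : ↥A) : G) ∈ fx (WG S) f := by
    intro z
    have hw : IsW' S (nf S.m 0 (hD.c0 z.1.2) z.2.1 (hD.c0 z.2.2.2)) := nf_mem_W rfl rfl _
    refine mem_fx.2 ⟨coe_mem_WG.2 hw, ?_⟩
    have h2 := hconj (hD.c0 z.1.2) z.2.1 (hD.c0 z.2.2.2) rfl rfl
    rw [z.2.1.2, mul_inv_eq_iff_eq_mul] at h2
    exact h2.symm
  apply Nat.card_congr
  refine Equiv.ofBijective (fun z => (⟨_, h1 z⟩ : fx (WG S) f)) ⟨?_, ?_⟩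
  · rintro ⟨⟨a, ha⟩, ⟨b, hb⟩, ⟨c, hc⟩⟩ ⟨⟨a', ha'⟩, ⟨b', hb'⟩, ⟨c', hc'⟩⟩ h
    have h' : ((nf S.m 0 (hD.c0 ha) b (hD.c0 hc) : ↥A) : G) = (nf S.m 0 (hD.c0 ha') b' (hD.c0 hc') : ↥A) :=
      congrArg (fun z : fx (WG S) f => (z : G)) h
    obtain ⟨-, h2, h3, h4⟩ := S.nf_inj (Subtype.ext h')
    have h5 : a = a' := congrArg PQDatum.T.c h2
    have h6 : c = c' := congrArg PQDatum.T.c h4
    subst h5 h6 h3
    rfl
  · rintro ⟨v, hv⟩
    obtain ⟨hv1, hv2⟩ := mem_fx.1 hv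
    obtain ⟨w, hw, rfl⟩ := mem_WG.1 hv1
    obtain ⟨r, b, s, hr, hs, rfl⟩ := isW_iff.1 hw
    have h2 := hconj r b s hr hs
    rw [← hv2, mul_inv_cancel_right] at h2
    obtain ⟨-, -, h3, -⟩ := S.nf_inj (Subtype.ext h2)
    refine ⟨(⟨r.c, hD.σ_c hr⟩, ⟨b, h3.symm⟩, ⟨s.c, hD.σ_c hs⟩), Subtype.ext ?_⟩
    show ((nf S.m 0 (hD.c0 _) b (hD.c0 _) : ↥A) : G) = _
    congr 2
    · exact T_ext hr.symm rfl
    · exact T_ext hs.symm rfl

theorem σσ_one : D.σ * D.σ = (1 : F ≃+* F) := RingEquiv.ext D.σσ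

variable [Finite G] (hZ : Odd (Nat.card (center ↥A)))
include hZ

theorem fld_sq {u w : G} (hu : u ∈ UG S) (hww : w * w = 1) (h : Fld N S (u * w) D.σ) :
    u * w * (u * w) = 1 := by
  have h2 := fld_mul h h
  rw [σσ_one] at h2
  have hmem : u * w * (u * w) ∈ UG S := by
    have h3 : u * w * (u * w) = u * (u⁻¹ * (u * w * u * (u * w)⁻¹) * u) := by
      have : u * w * (u * w) = u * (w * u * w) := by group
      rw [this]
      congr 1
      have hf' : w⁻¹ = w := inv_eq_of_mul_eq_one_left hww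
      rw [mul_inv_rev, hf']
      group
    rw [h3]
    exact mul_mem hu (mul_mem (mul_mem (inv_mem hu) (fld_norm h hu)) hu)
  exact (eq_one_of_fld hZ hmem h2).1

/-- fixed points of an involution over `σ` -/
theorem card_fx_out (hD : UDat D) {u w : G} (hu : u ∈ UG S) (hww : w * w = 1) (h : Fld N S (u * w) D.σ) :
    Nat.card (fx (WG S) w) = Nat.card (Fx D) ^ 3 := by
  have hff := fld_sq hZ hu hww h
  obtain ⟨w', hw', p, b, q, e⟩ := conj_step1 (UStart.σ_ne_one hD) σσ_one h hff (inv_mem hu) (by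
    have e1 : u⁻¹ * (u * w) = w := by group
    rw [e1, hww])
  have e1 : u⁻¹ * (u * w) = w := by group
  rw [e1] at e
  rw [← card_fx_fld (S := S) hD h, ← card_fx_conj_eq (J := WG S) (g := w'⁻¹) (w := w) (by
    intro j hj
    rw [inv_inv]
    exact UG_WG hw' hj)]
  have e2 : w'⁻¹⁻¹ * w * w'⁻¹ = nG S 0 p b q * (u * w) := by rw [inv_inv, e]
  rw [e2]
  apply congrArg (fun K : Subgroup G => Nat.card K)
  ext j
  rw [mem_fx, mem_fx]
  have key : ∀ j ∈ WG S, nG S 0 p b q * j = j * nG S 0 p b q := by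
    intro j hj
    obtain ⟨v, hv, rfl⟩ := mem_WG.1 hj
    have h3 := hv.comm (mul_mem (mul_mem (S.z₁_mem_VI p) (S.y_mem_VI b)) (S.z₂_mem_VI q))
    have h4 : nf S.m 0 p b q = S.m.z₁ p * S.m.y b * S.m.z₂ q := by
      unfold B2Std.nf
      rw [add_zero' S.rel.x_add, one_mul]
    rw [← h4] at h3
    exact (congrArg Subtype.val h3).symm
  constructor
  · rintro ⟨hj, hc⟩
    refine ⟨hj, ?_⟩
    have h5 : nG S 0 p b q * (j * (u * w)) = nG S 0 p b q * ((u * w) * j) := by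
      rw [← mul_assoc, key j hj, mul_assoc, hc, mul_assoc]
    exact mul_left_cancel h5
  · rintro ⟨hj, hc⟩
    refine ⟨hj, ?_⟩
    calc j * (nG S 0 p b q * (u * w)) = (j * nG S 0 p b q) * (u * w) := by group
      _ = nG S 0 p b q * (j * (u * w)) := by rw [← key j hj]; group
      _ = nG S 0 p b q * (u * w) * j := by rw [hc]; group

/-- elementary subgroups of `U` commuting with an involution over `σ` -/
theorem card_el_out (hD : UDat D) {u w : G} (hu : u ∈ UG S) (hww : w * w = 1) (h : Fld N S (u * w) D.σ)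
    {E : Subgroup G} (hE : E ≤ UG S) (h2 : ∀ x ∈ E, x * x = 1) (hc : ∀ x ∈ E, x * w = w * x) :
    Nat.card E ≤ Nat.card (Fx D) ^ 3 := by
  rcases el_UG hD hE h2 with h3 | h3
  · rw [← card_fx_out hZ hD hu hww h]
    exact Subgroup.card_le_of_le (fun x hx => mem_fx.2 ⟨h3 hx, hc x hx⟩)
  · exact h3

/-- **The type homomorphism.** -/
theorem exists_hom (had : Adapted N S T) : ∃ θ : ↥T →* AutF F,
    (∀ y : ↥T, ∃ u ∈ UG S, Fld N S (u * y) (θ y : F ≃+* F)) ∧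
    (∀ (y : ↥T) (u : G) (ρ : F ≃+* F), u ∈ UG S → Fld N S (u * y) ρ → θ y = ρ) := by
  choose! u hu ρ hk hF using fun (y : ↥T) => had y y.2
  have huniq : ∀ (y : ↥T) (v : G) (τ : F ≃+* F), v ∈ UG S → Fld N S (v * y) τ → ρ y = τ := by
    intro y v τ hv hg
    have h1 := fld_mul (hF y) (TX.fld_inv hg)
    have h2 : u y * y * (v * y)⁻¹ ∈ UG S := by
      have : u y * (y : G) * (v * y)⁻¹ = u y * v⁻¹ := by group
      rw [this]
      exact mul_mem (hu y) (inv_mem hv)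
    have h3 := (eq_one_of_fld hZ h2 h1).2
    exact mul_inv_eq_one.1 h3
  have hmul : ∀ a b : ↥T, ρ (a * b) = ρ a * ρ b := by
    intro a b
    refine huniq (a * b) (u a * (a * u b * (a : G)⁻¹)) _ (mul_mem (hu a) (norm_T had a.2 (hu b))) ?_
    have h1 := fld_mul (hF a) (hF b)
    have h2 : u a * (a * u b * (a : G)⁻¹) * ((a * b : ↥T) : G) = u a * a * (u b * b) := by
      rw [Subgroup.coe_mul]; group
    rw [h2]
    exact h1
  let θ : ↥T →* AutF F := MonoidHom.mk' (fun y => (ρ y : AutF F)) hmul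
  exact ⟨θ, fun y => ⟨u y, hu y, hF y⟩, huniq⟩

end Cfsg.Agent.StdRank2.OutSplit
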