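import Cfsg.Agent.StdRank2.OutSplit.UBase

set_option autoImplicit false

/-!
# `J`-fusion: an involution of `S1` is not conjugate to a product of involutions of `S1` and `S2`
-/

namespace Cfsg.Agent.StdRank2.OutSplit

open MulAction Subgroup
open scoped commutatorElement Pointwise

variable {G : Type*} [Group G]

/-- `x ∈ J` is good: `x = [j, y]`, `y`, `d` commute with `x` and have the same `q ^ 2` fixed points on `J`, but `y d` is not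
trivial on `J` -/
structure Good (S J : Subgroup G) (q : ℕ) (x y d : G) : Prop where
  xJ : x ∈ J
  x1 : x ≠ 1
  yS : y ∈ S
  dS : d ∈ S
  yy : y * y = 1
  dd : d * d = 1
  yx : y * x = x * y
  dx : d * x = x * d
  com : ∃ j ∈ J, x = j * y * j⁻¹ * y⁻¹
  iff : ∀ j ∈ J, j * y = y * j ↔ j * d = d * j
  card : Nat.card (fx J y) = q ^ 2
  yd : ∃ j ∈ J, j * (y * d) ≠ (y * d) * j

theorem card_fx_conj [Finite G] {J : Subgroup G} {g w : G} (hg : ∀ j ∈ J, g⁻¹ * j * g ∈ J) :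
    Nat.card (fx J w) ≤ Nat.card (fx J (g⁻¹ * w * g)) := by
  apply Nat.card_le_card_of_injective (fun z : fx J w => (⟨g⁻¹ * z * g, mem_fx.2 ⟨hg _ (mem_fx.1 z.2).1, by
    have h := (mem_fx.1 z.2).2
    calc g⁻¹ * (z : G) * g * (g⁻¹ * w * g) = g⁻¹ * (z * w) * g := by group
      _ = g⁻¹ * (w * z) * g := by rw [h]
      _ = g⁻¹ * w * g * (g⁻¹ * z * g) := by group⟩⟩ : fx J (g⁻¹ * w * g)))
  intro z z' h
  apply Subtype.ext
  have h1 : g⁻¹ * (z : G) * g = g⁻¹ * z' * g := congrArg Subtype.val h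
  exact mul_left_cancel (mul_right_cancel h1)

/-- an injective self-map of `J` by conjugation is surjective -/
theorem conj_surj [Finite G] {J : Subgroup G} {g : G} (hg : ∀ j ∈ J, g⁻¹ * j * g ∈ J) {j : G} (hj : j ∈ J) :
    g * j * g⁻¹ ∈ J := by
  have hinj : Function.Injective (fun z : J => (⟨g⁻¹ * z * g, hg z z.2⟩ : J)) := by
    intro z z' h
    apply Subtype.ext
    have h1 : g⁻¹ * (z : G) * g = g⁻¹ * z' * g := congrArg Subtype.val h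
    exact mul_left_cancel (mul_right_cancel h1)
  obtain ⟨z, hz⟩ := Finite.surjective_of_injective hinj ⟨j, hj⟩
  have h1 : g⁻¹ * (z : G) * g = j := congrArg Subtype.val hz
  rw [← h1]
  have e : g * (g⁻¹ * (z : G) * g) * g⁻¹ = z := by group
  rw [e]
  exact z.2

theorem card_fx_conj_eq [Finite G] {J : Subgroup G} {g w : G} (hg : ∀ j ∈ J, g⁻¹ * j * g ∈ J) :
    Nat.card (fx J (g⁻¹ * w * g)) = Nat.card (fx J w) := by
  apply le_antisymm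
  · have h := card_fx_conj (J := J) (g := g⁻¹) (w := g⁻¹ * w * g) (fun j hj => by
      rw [inv_inv]; exact conj_surj hg hj)
    have e : g⁻¹⁻¹ * (g⁻¹ * w * g) * g⁻¹ = w := by group
    rwa [e] at h
  · exact card_fx_conj hg

namespace UD

variable {P S0 N S1 S2 J1 J2 : Subgroup G} {C : Type*} [CommGroup C] {ρ₁ ρ₂ : S0 →* C} {σ : C} {q : ℕ}

section

variable (d : UD P S0 N S1 S2 J1 J2 ρ₁ ρ₂ σ q)
include d

/-- fixed points on `J` of an element of `S1` -/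
theorem comm_iff {y a b : G} (hy : y ∈ S1) (ha : a ∈ S1) (hb : b ∈ S2) : (a * b) * y = y * (a * b) ↔ a * y = y * a := by
  rw [d.comp_fixed (d.hN (d.h1N hy)) ha hb]
  exact and_iff_left (d.hcomm y hy b hb).symm

theorem fx_other {y : G} (hy : y ∈ S1) : fx J2 y = J2 := by
  ext x
  rw [mem_fx]
  exact and_iff_left_of_imp fun hx => (d.hcomm y hy x (d.s2.JS hx)).symm

theorem mem_J1_of {a b : G} (ha : a ∈ J1) (hb : b ∈ J2) (h : a * b ∈ J1) : b = 1 := by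
  have h1 : b ∈ J1 := by
    have := mul_mem (inv_mem ha) h
    rwa [inv_mul_cancel_left] at this
  exact d.hdisj b (d.s1.JS h1) (d.s2.JS hb)

/-- **Claim A** -/
theorem claimA [Finite G] {x y z g : G} (h : Good S1 J1 q x y z) (hg : ∀ j ∈ J1 ⊔ J2, g⁻¹ * j * g ∈ J1 ⊔ J2)
    (hy : g⁻¹ * y * g ∈ P) (hz : g⁻¹ * z * g ∈ P) :
    g⁻¹ * y * g ∈ S0 ∧ (((∀ b ∈ J2, b * (g⁻¹ * y * g) = (g⁻¹ * y * g) * b) ∧ g⁻¹ * x * g ∈ J1) ∨
      ((∀ a ∈ J1, a * (g⁻¹ * y * g) = (g⁻¹ * y * g) * a) ∧ g⁻¹ * x * g ∈ J2)) := by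
  obtain ⟨b1, b2, b3, b4, b5⟩ := pow_bound d.hq
  have hq0 : 0 < q := by have := d.hq; omega
  have hcJ : Nat.card (fx (J1 ⊔ J2) y) = q ^ 6 := by
    rw [d.card_fx (d.hN (d.h1N h.yS)), h.card, d.fx_other h.yS, d.s2.card, ← pow_add]
  have hcJ' : Nat.card (fx (J1 ⊔ J2) (g⁻¹ * y * g)) = q ^ 6 := by rw [card_fx_conj_eq hg, hcJ]
  -- `y` and `z` have the same fixed points on `J`
  have hiff : ∀ j ∈ J1 ⊔ J2, j * y = y * j ↔ j * z = z * j := by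
    intro j hj
    obtain ⟨a, ha, b, hb, rfl⟩ := d.mem_J.1 hj
    rw [d.comm_iff h.yS (d.s1.JS ha) (d.s2.JS hb), d.comm_iff h.dS (d.s1.JS ha) (d.s2.JS hb)]
    exact h.iff a ha
  obtain ⟨y', hy'⟩ : ∃ y', y' = g⁻¹ * y * g := ⟨_, rfl⟩
  obtain ⟨z', hz'⟩ : ∃ z', z' = g⁻¹ * z * g := ⟨_, rfl⟩
  rw [← hy'] at hy hcJ' ⊢
  rw [← hz'] at hz
  have hback : ∀ {w : G} (j : G), j * (g⁻¹ * w * g) = (g⁻¹ * w * g) * j ↔ (g * j * g⁻¹) * w = w * (g * j * g⁻¹) := by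
    intro w j
    constructor
    · intro h1
      calc (g * j * g⁻¹) * w = g * (j * (g⁻¹ * w * g)) * g⁻¹ := by group
        _ = g * ((g⁻¹ * w * g) * j) * g⁻¹ := by rw [h1]
        _ = w * (g * j * g⁻¹) := by group
    · intro h1
      calc j * (g⁻¹ * w * g) = g⁻¹ * ((g * j * g⁻¹) * w) * g := by group
        _ = g⁻¹ * (w * (g * j * g⁻¹)) * g := by rw [h1]
        _ = (g⁻¹ * w * g) * j := by group
  have hiff' : ∀ j ∈ J1 ⊔ J2, j * y' = y' * j ↔ j * z' = z' * j := by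
    intro j hj
    rw [hy', hz', hback, hback]
    exact hiff _ (conj_surj hg hj)
  have hy0 : y' ∈ S0 := by
    by_contra h0
    have := d.card_fx_swap hy h0
    omega
  have hyy : y' * y' = 1 := by
    rw [hy']
    calc g⁻¹ * y * g * (g⁻¹ * y * g) = g⁻¹ * (y * y) * g := by group
      _ = 1 := by rw [h.yy]; group
  have hzz : z' * z' = 1 := by
    rw [hz']
    calc g⁻¹ * z * g * (g⁻¹ * z * g) = g⁻¹ * (z * z) * g := by group
      _ = 1 := by rw [h.dd]; group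
  refine ⟨hy0, ?_⟩
  have hprod := d.card_fx hy0
  rw [hcJ'] at hprod
  obtain ⟨j, hj, hxj⟩ := h.com
  have hx' : g⁻¹ * x * g = (g⁻¹ * j * g) * y' * (g⁻¹ * j * g)⁻¹ * y'⁻¹ := by
    rw [hxj, hy']; group
  obtain ⟨a, ha, b, hb, hab⟩ := d.mem_J.1 (hg j (mem_sup_left hj))
  have hcab := d.hcomm a (d.s1.JS ha) b (d.s2.JS hb)
  -- if `y'` centralises `J2`
  by_cases c2 : ∀ b ∈ J2, b * y' = y' * b
  · left
    refine ⟨c2, ?_⟩
    rw [hx', hab]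
    have e : a * b * y' * (a * b)⁻¹ * y'⁻¹ = a * (y' * a * y'⁻¹)⁻¹ := by
      calc a * b * y' * (a * b)⁻¹ * y'⁻¹ = a * (b * y') * b⁻¹ * a⁻¹ * y'⁻¹ := by group
        _ = a * (y' * b) * b⁻¹ * a⁻¹ * y'⁻¹ := by rw [c2 b hb]
        _ = a * (y' * a * y'⁻¹)⁻¹ := by group
    rw [e]
    exact mul_mem ha (inv_mem (d.s1.jn y' hy0 a ha))
  by_cases c1 : ∀ a ∈ J1, a * y' = y' * a
  · right
    refine ⟨c1, ?_⟩
    rw [hx', hab]
    have e : a * b * y' * (a * b)⁻¹ * y'⁻¹ = b * (y' * b * y'⁻¹)⁻¹ := by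
      rw [hcab]
      calc b * a * y' * (b * a)⁻¹ * y'⁻¹ = b * (a * y') * a⁻¹ * b⁻¹ * y'⁻¹ := by group
        _ = b * (y' * a) * a⁻¹ * b⁻¹ * y'⁻¹ := by rw [c1 a ha]
        _ = b * (y' * b * y'⁻¹)⁻¹ := by group
    rw [e]
    exact mul_mem hb (inv_mem (d.s2.jn y' hy0 b hb))
  exfalso
  have hlt23 : q ^ 2 < q ^ 3 := Nat.pow_lt_pow_right (by have := d.hq; omega) (by norm_num)
  have h33 : q ^ 3 * q ^ 3 = q ^ 6 := by ring
  have hpos2 : 0 < q ^ 2 := by positivity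
  have hpos3 : 0 < q ^ 3 := by positivity
  -- types
  have bound : ∀ {S J : Subgroup G} {ρ : S0 →* C} (s : Side S0 S J ρ σ q) (_ : ¬ ∀ b ∈ J, b * y' = y' * b),
      (ρ ⟨y', hy0⟩ = 1 ∨ ρ ⟨y', hy0⟩ = σ) → (Nat.card (fx J y') ≤ q ^ 2) ∨ Nat.card (fx J y') = q ^ 3 := by
    intro S J ρ s hc ht
    rcases ht with ht | ht
    · rcases s.inn y' hy0 ht with h1 | h1
      · exact absurd (fun b hb => (h1 b hb).symm) hc
      · exact Or.inl h1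
    · exact Or.inr (s.out y' hy0 hyy ht)
  obtain ⟨t1, t2⟩ := d.type_cases hy0 hyy
  have k1 := bound d.s1 c1 t1
  have k2 := bound d.s2 c2 t2
  have f1 : Nat.card (fx J1 y') = q ^ 3 := by
    rcases k1 with k1 | k1
    · exfalso
      have k2' : Nat.card (fx J2 y') ≤ q ^ 3 := by rcases k2 with k2 | k2 <;> omega
      have := Nat.mul_le_mul k1 k2'
      have h1 : q ^ 2 * q ^ 3 < q ^ 3 * q ^ 3 := Nat.mul_lt_mul_of_lt_of_le hlt23 le_rfl hpos3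
      omega
    · exact k1
  have f2 : Nat.card (fx J2 y') = q ^ 3 := by
    rcases k2 with k2 | k2
    · exfalso
      have := Nat.mul_le_mul (le_of_eq f1) k2
      have h1 : q ^ 3 * q ^ 2 < q ^ 3 * q ^ 3 := Nat.mul_lt_mul_of_le_of_lt le_rfl hlt23 hpos3
      omega
    · exact k2
  have hz0 : z' ∈ S0 := by
    by_contra h0
    have h1 := d.card_fx_swap hz h0
    have h2 : fx (J1 ⊔ J2) z' = fx (J1 ⊔ J2) y' := by
      ext j
      rw [mem_fx, mem_fx]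
      exact ⟨fun h => ⟨h.1, (hiff' j h.1).2 h.2⟩, fun h => ⟨h.1, (hiff' j h.1).1 h.2⟩⟩
    rw [h2] at h1
    omega
  have e1 : fx J1 z' = fx J1 y' := by
    ext j
    rw [mem_fx, mem_fx]
    exact ⟨fun h => ⟨h.1, (hiff' j (mem_sup_left h.1)).2 h.2⟩, fun h => ⟨h.1, (hiff' j (mem_sup_left h.1)).1 h.2⟩⟩
  have e2 : fx J2 z' = fx J2 y' := by
    ext j
    rw [mem_fx, mem_fx]
    exact ⟨fun h => ⟨h.1, (hiff' j (mem_sup_right h.1)).2 h.2⟩, fun h => ⟨h.1, (hiff' j (mem_sup_right h.1)).1 h.2⟩⟩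
  -- `y'` and `z'` are of type `σ` on both sides
  have typ : ∀ {S J : Subgroup G} {ρ : S0 →* C} (s : Side S0 S J ρ σ q) {w : G} (hw : w ∈ S0),
      Nat.card (fx J w) = q ^ 3 → (ρ ⟨w, hw⟩ = 1 ∨ ρ ⟨w, hw⟩ = σ) → ρ ⟨w, hw⟩ = σ := by
    intro S J ρ s w hw hc ht
    refine ht.resolve_left fun h1 => ?_
    rcases s.inn w hw h1 with h2 | h2
    · have h3 : fx J w = J := by
        ext j
        rw [mem_fx]
        exact and_iff_left_of_imp fun hj => (h2 j hj).symm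
      rw [h3, s.card] at hc
      have : q ^ 3 < q ^ 4 := Nat.pow_lt_pow_right (by have := d.hq; omega) (by norm_num)
      omega
    · omega
  have hyzS : y' * z' ∈ S0 := mul_mem hy0 hz0
  have fin : ∀ {S J : Subgroup G} {ρ : S0 →* C} (s : Side S0 S J ρ σ q), Nat.card (fx J y') = q ^ 3 →
      fx J z' = fx J y' → (ρ ⟨y', hy0⟩ = 1 ∨ ρ ⟨y', hy0⟩ = σ) → (ρ ⟨z', hz0⟩ = 1 ∨ ρ ⟨z', hz0⟩ = σ) →
      ∀ j ∈ J, (y' * z') * j = j * (y' * z') := by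
    intro S J ρ s hc he ht1 ht2
    have i1 := typ s hy0 hc ht1
    have i2 := typ s hz0 (by rw [he]; exact hc) ht2
    have i3 : ρ ⟨y' * z', hyzS⟩ = 1 := by
      have e : (⟨y' * z', hyzS⟩ : S0) = ⟨y', hy0⟩ * ⟨z', hz0⟩ := rfl
      have e' : (⟨y', hy0⟩ : S0) * ⟨y', hy0⟩ = 1 := Subtype.ext hyy
      rw [e, map_mul, i2, ← i1, ← map_mul, e', map_one]
    rcases s.inn _ hyzS i3 with h1 | h1
    · exact h1
    · exfalso
      have h2 : fx J y' ≤ fx J (y' * z') := by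
        intro j hj
        have hj2 : j ∈ fx J z' := by rw [he]; exact hj
        obtain ⟨m1, m2⟩ := mem_fx.1 hj
        obtain ⟨-, m3⟩ := mem_fx.1 hj2
        refine mem_fx.2 ⟨m1, ?_⟩
        rw [← mul_assoc, m2, mul_assoc, m3, mul_assoc]
      have h3 := Subgroup.card_le_of_le h2
      omega
  obtain ⟨t3, t4⟩ := d.type_cases hz0 hzz
  have r1 := fin d.s1 f1 e1 t1 t3
  have r2 := fin d.s2 f2 e2 t2 t4
  obtain ⟨j0, hj0, hne⟩ := h.yd
  apply hne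
  have h5 := hg j0 (mem_sup_left hj0)
  obtain ⟨a', ha', b', hb', hab'⟩ := d.mem_J.1 h5
  have h6 : (y' * z') * (g⁻¹ * j0 * g) = (g⁻¹ * j0 * g) * (y' * z') := by
    rw [hab']
    calc (y' * z') * (a' * b') = ((y' * z') * a') * b' := by group
      _ = (a' * (y' * z')) * b' := by rw [r1 a' ha']
      _ = a' * ((y' * z') * b') := by group
      _ = a' * (b' * (y' * z')) := by rw [r2 b' hb']
      _ = a' * b' * (y' * z') := by group
  calc j0 * (y * z) = g * ((g⁻¹ * j0 * g) * (y' * z')) * g⁻¹ := by rw [hy', hz']; group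
    _ = g * ((y' * z') * (g⁻¹ * j0 * g)) * g⁻¹ := by rw [h6]
    _ = (y * z) * j0 := by rw [hy', hz']; group

end

end UD

/-- a 2-group of operators has nontrivial fixed points -/
theorem exists_fixed [Finite G] {T J : Subgroup G} (hT : IsPGroup 2 T) (hJ : IsPGroup 2 J) (hJ1 : J ≠ ⊥)
    (hn : ∀ w ∈ T, ∀ j ∈ J, w * j * w⁻¹ ∈ J) : ∃ a ∈ J, a ≠ 1 ∧ ∀ w ∈ T, a * w = w * a := by
  classical
  have : Fact (Nat.Prime 2) := ⟨Nat.prime_two⟩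
  let act : MulAction T J :=
    { smul := fun w j => ⟨w * j * (w : G)⁻¹, hn w w.2 j j.2⟩
      one_smul := fun j => Subtype.ext (by show ((1 : T) : G) * j * ((1 : T) : G)⁻¹ = j; simp)
      mul_smul := fun w w' j => Subtype.ext (by
        show ((w * w' : T) : G) * j * ((w * w' : T) : G)⁻¹ = w * (w' * j * (w' : G)⁻¹) * (w : G)⁻¹
        rw [Subgroup.coe_mul, mul_inv_rev]; group) }
  have hd : 2 ∣ Nat.card J := by
    obtain ⟨k, hk⟩ := IsPGroup.iff_card.1 hJ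
    rcases Nat.eq_zero_or_pos k with h0 | h0
    · exfalso
      rw [h0, pow_zero] at hk
      exact hJ1 (Subgroup.card_eq_one.1 hk)
    · rw [hk]; exact dvd_pow_self 2 (by omega)
  have h1 : (1 : J) ∈ fixedPoints T J := fun w => Subtype.ext (by show (w : G) * ((1 : J) : G) * (w : G)⁻¹ = _; simp)
  obtain ⟨b, hb, hb1⟩ := hT.exists_fixed_point_of_prime_dvd_card_of_fixed_point J hd h1
  refine ⟨b, b.2, fun h => hb1 (Subtype.ext h.symm), fun w hw => ?_⟩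
  have h2 := congrArg Subtype.val (hb ⟨w, hw⟩)
  have h3 : w * b * w⁻¹ = b := h2
  rw [mul_inv_eq_iff_eq_mul] at h3
  exact h3.symm

/-- two conjugate elements and a common extremal conjugate -/
theorem exists_common [Finite G] {P : Sylow 2 G} {x v g : G} (hx : x ∈ (P : Subgroup G)) (hg : g⁻¹ * v * g = x) :
    ∃ g1 g2 : G, (∀ r ∈ (P : Subgroup G), r * x = x * r → g1⁻¹ * r * g1 ∈ (P : Subgroup G)) ∧
      (∀ r ∈ (P : Subgroup G), r * v = v * r → g2⁻¹ * r * g2 ∈ (P : Subgroup G)) ∧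
      g1⁻¹ * x * g1 = g2⁻¹ * v * g2 := by
  have : Fact (Nat.Prime 2) := ⟨Nat.prime_two⟩
  let K : Subgroup G := centralizer ({x} : Set G)
  have hK : ∀ y, y ∈ K ↔ y * x = x * y := fun y => mem_centralizer_singleton_iff
  let A : Subgroup G := (P : Subgroup G) ⊓ K
  let B : Subgroup G := ((P : Subgroup G) ⊓ centralizer ({v} : Set G)).map (MulAut.conj g⁻¹).toMonoidHom
  have hA : IsPGroup 2 A := P.isPGroup'.to_le inf_le_left
  have hB : IsPGroup 2 B := (P.isPGroup'.to_le inf_le_left).map _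
  have hBm : ∀ r ∈ (P : Subgroup G), r * v = v * r → g⁻¹ * r * g ∈ B := by
    intro r hr hrv
    refine ⟨r, ⟨hr, mem_centralizer_singleton_iff.2 hrv⟩, ?_⟩
    show g⁻¹ * r * g⁻¹⁻¹ = g⁻¹ * r * g
    rw [inv_inv]
  have hBK : B ≤ K := by
    rintro _ ⟨r, ⟨hr, hrv⟩, rfl⟩
    rw [hK]
    show g⁻¹ * r * g⁻¹⁻¹ * x = x * (g⁻¹ * r * g⁻¹⁻¹)
    rw [inv_inv, ← hg]
    have h1 : r * v = v * r := mem_centralizer_singleton_iff.1 hrv
    calc g⁻¹ * r * g * (g⁻¹ * v * g) = g⁻¹ * (r * v) * g := by group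
      _ = g⁻¹ * (v * r) * g := by rw [h1]
      _ = g⁻¹ * v * g * (g⁻¹ * r * g) := by group
  obtain ⟨Q1, hQ1⟩ := (hA.comap_of_injective K.subtype K.subtype_injective :
    IsPGroup 2 (A.subgroupOf K)).exists_le_sylow
  obtain ⟨Q2, hQ2⟩ := (hB.comap_of_injective K.subtype K.subtype_injective :
    IsPGroup 2 (B.subgroupOf K)).exists_le_sylow
  obtain ⟨c, hc⟩ := exists_smul_eq K Q1 Q2
  have hQ : ∀ y ∈ Q2, c⁻¹ * y * c ∈ Q1 := by
    intro y hy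
    rw [← hc] at hy
    have h1 : y ∈ (MulAut.conj c • (Q1 : Subgroup K)) := hy
    rw [Subgroup.mem_pointwise_smul_iff_inv_smul_mem] at h1
    have e : (MulAut.conj c)⁻¹ • y = c⁻¹ * y * c := by
      rw [← map_inv, MulAut.smul_def, MulAut.conj_apply, inv_inv]
    rw [e] at h1
    exact h1
  have hQ1' : IsPGroup 2 ((Q1 : Subgroup K).map K.subtype) := Q1.isPGroup'.map _
  obtain ⟨Q3, hQ3⟩ := hQ1'.exists_le_sylow
  obtain ⟨k, hk⟩ := exists_smul_eq G P Q3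
  have hk' : ∀ y ∈ Q3, k⁻¹ * y * k ∈ (P : Subgroup G) := by
    intro y hy
    rw [← hk] at hy
    have h1 : y ∈ (MulAut.conj k • (P : Subgroup G)) := hy
    rw [Subgroup.mem_pointwise_smul_iff_inv_smul_mem] at h1
    have e : (MulAut.conj k)⁻¹ • y = k⁻¹ * y * k := by
      rw [← map_inv, MulAut.smul_def, MulAut.conj_apply, inv_inv]
    rw [e] at h1
    exact h1
  refine ⟨k, g * c * k, ?_, ?_, ?_⟩
  · intro r hr hrx
    exact hk' _ (hQ3 ⟨⟨r, (hK r).2 hrx⟩, hQ1 (mem_subgroupOf.2 ⟨hr, (hK r).2 hrx⟩), rfl⟩)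
  · intro r hr hrv
    have h1 := hBm r hr hrv
    have h2 := hQ ⟨_, hBK h1⟩ (hQ2 (mem_subgroupOf.2 h1))
    have h3 := hk' _ (hQ3 ⟨_, h2, rfl⟩)
    have e : (g * c * k)⁻¹ * r * (g * c * k) = k⁻¹ * ((c : G)⁻¹ * (g⁻¹ * r * g) * c) * k := by group
    rw [e]
    exact h3
  · have h1 : (c : G)⁻¹ * x * c = x := by
      have := (hK c).1 c.2
      rw [mul_assoc, ← this, inv_mul_cancel_left]
    calc k⁻¹ * x * k = k⁻¹ * ((c : G)⁻¹ * x * c) * k := by rw [h1]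
      _ = k⁻¹ * ((c : G)⁻¹ * (g⁻¹ * v * g) * c) * k := by rw [hg]
      _ = (g * c * k)⁻¹ * v * (g * c * k) := by group

namespace UD

variable {P : Sylow 2 G} {S0 N S1 S2 J1 J2 : Subgroup G} {C : Type*} [CommGroup C] {ρ₁ ρ₂ : S0 →* C} {σ : C} {q : ℕ}

/-- weak closure of `J` -/
theorem conj_J [Finite G] (d : UD (P : Subgroup G) S0 N S1 S2 J1 J2 ρ₁ ρ₂ σ q) {g : G}
    (hg : ∀ j ∈ J1 ⊔ J2, g⁻¹ * j * g ∈ (P : Subgroup G)) : ∀ j ∈ J1 ⊔ J2, g⁻¹ * j * g ∈ J1 ⊔ J2 := by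
  let D : Subgroup G := (J1 ⊔ J2).map (MulAut.conj g⁻¹).toMonoidHom
  have hc : Nat.card D = q ^ 8 := by
    rw [← d.card_J]
    exact Nat.card_congr ((J1 ⊔ J2).equivMapOfInjective _ (MulAut.conj g⁻¹).injective).toEquiv.symm
  have h := d.le_J (D := D) (by
    rintro _ ⟨j, hj, rfl⟩
    show g⁻¹ * j * g⁻¹⁻¹ ∈ _
    rw [inv_inv]
    exact hg j hj) (by
    rintro _ ⟨j, hj, rfl⟩
    rw [← map_mul, d.J_sq hj, map_one]) (le_of_eq hc.symm)
  intro j hj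
  have h1 : g⁻¹ * j * g⁻¹⁻¹ ∈ D := ⟨j, hj, rfl⟩
  rw [inv_inv] at h1
  exact h h1

/-- **Claim B** -/
theorem claimB [Finite G] (d : UD (P : Subgroup G) S0 N S1 S2 J1 J2 ρ₁ ρ₂ σ q) {x y z v1 y1 z1 v2 y2 z2 : G}
    (hx : Good S1 J1 q x y z) (h1 : Good S1 J1 q v1 y1 z1) (h2 : Good S2 J2 q v2 y2 z2) (g : G) :
    g⁻¹ * (v1 * v2) * g ≠ x := by
  intro hg
  have hP2 : IsPGroup 2 S0 := P.isPGroup'.to_le d.hS0
  have hS1P : ∀ a ∈ S1, a ∈ (P : Subgroup G) := fun a ha => d.hS0 (d.hN (d.h1N ha))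
  have hS2P : ∀ a ∈ S2, a ∈ (P : Subgroup G) := fun a ha => d.hS0 (d.hN (d.h2N ha))
  have cJ : ∀ a ∈ J1 ⊔ J2, ∀ b ∈ J1 ⊔ J2, a * b = b * a := by
    intro a ha b hb
    have e1 := d.J_sq (mul_mem ha hb)
    have e2 : b⁻¹ = b := inv_eq_of_mul_eq_one_right (d.J_sq hb)
    have e3 : a⁻¹ = a := inv_eq_of_mul_eq_one_right (d.J_sq ha)
    have e4 : a * b = (a * b)⁻¹ := eq_inv_of_mul_eq_one_left e1
    rw [mul_inv_rev, e2, e3] at e4
    exact e4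
  have hJP : ∀ j ∈ J1 ⊔ J2, j ∈ (P : Subgroup G) := by
    intro j hj
    obtain ⟨a, ha, b, hb, rfl⟩ := d.mem_J.1 hj
    exact mul_mem (hS1P a (d.s1.JS ha)) (hS2P b (d.s2.JS hb))
  obtain ⟨g1, g2, hg1, hg2, he⟩ := exists_common (hS1P x (d.s1.JS hx.xJ)) hg
  have hvJ : v1 * v2 ∈ J1 ⊔ J2 := d.mem_J.2 ⟨v1, h1.xJ, v2, h2.xJ, rfl⟩
  have hJ1 := d.conj_J (g := g1) (fun j hj => hg1 j (hJP j hj) (cJ j hj x (mem_sup_left hx.xJ)))
  have hJ2 := d.conj_J (g := g2) (fun j hj => hg2 j (hJP j hj) (cJ j hj _ hvJ))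
  -- `e ∈ J1 ∪ J2`
  have hA := (d.claimA hx hJ1 (hg1 y (hS1P y hx.yS) hx.yx) (hg1 z (hS1P z hx.dS) hx.dx)).2
  have hcom : ∀ {s v w : G}, s * v = v * s → s * w = w * s → s * (v * w) = (v * w) * s := by
    intro s v w e1 e2
    rw [← mul_assoc, e1, mul_assoc, e2, mul_assoc]
  have hB1 := d.claimA h1 hJ2 (hg2 y1 (hS1P y1 h1.yS) (hcom h1.yx (d.hcomm y1 h1.yS v2 (d.s2.JS h2.xJ))))
    (hg2 z1 (hS1P z1 h1.dS) (hcom h1.dx (d.hcomm z1 h1.dS v2 (d.s2.JS h2.xJ))))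
  have hB2 := d.symm.claimA h2 (by rw [sup_comm]; exact hJ2)
    (hg2 y2 (hS2P y2 h2.yS) (hcom (d.hcomm v1 (d.s1.JS h1.xJ) y2 h2.yS).symm h2.yx))
    (hg2 z2 (hS2P z2 h2.dS) (hcom (d.hcomm v1 (d.s1.JS h1.xJ) z2 h2.dS).symm h2.dx))
  obtain ⟨y1', hy1'⟩ : ∃ w, w = g2⁻¹ * y1 * g2 := ⟨_, rfl⟩
  obtain ⟨y2', hy2'⟩ : ∃ w, w = g2⁻¹ * y2 * g2 := ⟨_, rfl⟩
  rw [← hy1'] at hB1
  rw [← hy2'] at hB2
  obtain ⟨hy1S, hB1⟩ := hB1
  obtain ⟨hy2S, hB2⟩ := hB2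
  have he' : g1⁻¹ * x * g1 = (g2⁻¹ * v1 * g2) * (g2⁻¹ * v2 * g2) := by rw [he]; group
  have hne : ∀ {w : G}, w ≠ 1 → g2⁻¹ * w * g2 ≠ 1 := by
    intro w hw h
    apply hw
    calc w = g2 * (g2⁻¹ * w * g2) * g2⁻¹ := by group
      _ = 1 := by rw [h]; group
  have n1 := hne h1.x1
  have n2 := hne h2.x1
  have diff : ∀ {a b : G}, a ∈ J1 → b ∈ J2 → a ≠ 1 → b ≠ 1 → ¬ (a * b ∈ J1 ∨ a * b ∈ J2) := by
    intro a b ha hb ha1 hb1 h
    rcases h with h | h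
    · exact hb1 (d.mem_J1_of ha hb h)
    · rw [d.hcomm a (d.s1.JS ha) b (d.s2.JS hb)] at h
      exact ha1 (d.symm.mem_J1_of hb ha h)
  have hA' : g1⁻¹ * x * g1 ∈ J1 ∨ g1⁻¹ * x * g1 ∈ J2 := hA.imp (fun h => h.2) (fun h => h.2)
  rw [he'] at hA'
  -- both in the same factor
  have hcard : Nat.card (fx (J1 ⊔ J2) y1' ⊓ fx (J1 ⊔ J2) y2' : Subgroup G) ≤ q ^ 4 := by
    have h4 : Nat.card (fx (J1 ⊔ J2) y1' ⊓ fx (J1 ⊔ J2) y2' : Subgroup G) ≤ Nat.card (fx J1 y1 × fx J2 y2) := by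
      have hex : ∀ w : (fx (J1 ⊔ J2) y1' ⊓ fx (J1 ⊔ J2) y2' : Subgroup G),
          ∃ a ∈ fx J1 y1, ∃ b ∈ fx J2 y2, g2 * (w : G) * g2⁻¹ = a * b := by
        rintro ⟨w, hw⟩
        obtain ⟨m1, m2⟩ := mem_fx.1 hw.1
        obtain ⟨-, m3⟩ := mem_fx.1 hw.2
        obtain ⟨a, ha, b, hb, hab⟩ := d.mem_J.1 (conj_surj hJ2 m1)
        have c1 : (a * b) * y1 = y1 * (a * b) := by
          rw [← hab]
          calc (g2 * w * g2⁻¹) * y1 = g2 * (w * (g2⁻¹ * y1 * g2)) * g2⁻¹ := by group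
            _ = g2 * ((g2⁻¹ * y1 * g2) * w) * g2⁻¹ := by rw [← hy1', m2]
            _ = y1 * (g2 * w * g2⁻¹) := by group
        have c2 : (b * a) * y2 = y2 * (b * a) := by
          rw [← d.hcomm a (d.s1.JS ha) b (d.s2.JS hb), ← hab]
          calc (g2 * w * g2⁻¹) * y2 = g2 * (w * (g2⁻¹ * y2 * g2)) * g2⁻¹ := by group
            _ = g2 * ((g2⁻¹ * y2 * g2) * w) * g2⁻¹ := by rw [← hy2', m3]
            _ = y2 * (g2 * w * g2⁻¹) := by group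
        exact ⟨a, mem_fx.2 ⟨ha, (d.comm_iff h1.yS (d.s1.JS ha) (d.s2.JS hb)).1 c1⟩, b,
          mem_fx.2 ⟨hb, (d.symm.comm_iff h2.yS (d.s2.JS hb) (d.s1.JS ha)).1 c2⟩, hab⟩
      choose f hf k hk hfk using hex
      apply Nat.card_le_card_of_injective (fun w => ((⟨f w, hf w⟩ : fx J1 y1), (⟨k w, hk w⟩ : fx J2 y2)))
      intro w w' hww
      have e1 : f w = f w' := congrArg Subtype.val (congrArg Prod.fst hww)
      have e2 : k w = k w' := congrArg Subtype.val (congrArg Prod.snd hww)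
      apply Subtype.ext
      have e3 : g2 * (w : G) * g2⁻¹ = g2 * w' * g2⁻¹ := by rw [hfk w, hfk w', e1, e2]
      exact mul_left_cancel (mul_right_cancel e3)
    rw [Nat.card_prod, h1.card, h2.card, ← pow_add] at h4
    exact h4
  -- contradiction if `y1'`, `y2'` centralise the same factor
  have same : ∀ {J J' S S' : Subgroup G} {ρ ρ' : S0 →* C} (_ : Side S0 S J ρ σ q) (_ : Side S0 S' J' ρ' σ q)
      (_ : J ≤ J1 ⊔ J2) (_ : J' ≤ J1 ⊔ J2) (_ : ∀ w ∈ J, w ∈ J' → w = 1) (_ : ∀ b ∈ J', b * y1' = y1' * b)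
      (_ : ∀ b ∈ J', b * y2' = y2' * b), False := by
    intro J J' S S' ρ ρ' s s' hJ hJ' hdis hb1 hb2
    have hle : J' ≤ fx (J1 ⊔ J2) y1' ⊓ fx (J1 ⊔ J2) y2' := fun b hb =>
      ⟨mem_fx.2 ⟨hJ' hb, hb1 b hb⟩, mem_fx.2 ⟨hJ' hb, hb2 b hb⟩⟩
    have heq : J' = fx (J1 ⊔ J2) y1' ⊓ fx (J1 ⊔ J2) y2' :=
      Subgroup.eq_of_le_of_card_ge hle (by rw [s'.card]; exact hcard)
    have hJ2g : IsPGroup 2 J := P.isPGroup'.to_le (fun j hj => hJP j (hJ hj))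
    have hJne : J ≠ ⊥ := by
      intro h0
      have := s.card
      rw [h0, Subgroup.card_bot] at this
      have h4 : 1 < q ^ 4 := Nat.one_lt_pow (by norm_num) (by have := d.hq; omega)
      omega
    obtain ⟨a, ha, ha1, hac⟩ := exists_fixed hP2 hJ2g hJne s.jn
    apply ha1
    refine hdis a ha ?_
    rw [heq]
    exact ⟨mem_fx.2 ⟨hJ ha, hac _ hy1S⟩, mem_fx.2 ⟨hJ ha, hac _ hy2S⟩⟩
  rcases hB1 with ⟨hc1, hv1⟩ | ⟨hc1, hv1⟩
  · rcases hB2 with ⟨hc2, hv2⟩ | ⟨hc2, hv2⟩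
    · exact diff hv1 hv2 n1 n2 hA'
    · -- both in `J1`
      exact same d.s1 d.s2 le_sup_left le_sup_right (fun w hw hw' => d.hdisj w (d.s1.JS hw) (d.s2.JS hw')) hc1 hc2
  · rcases hB2 with ⟨hc2, hv2⟩ | ⟨hc2, hv2⟩
    · exact same d.s2 d.s1 le_sup_right le_sup_left (fun w hw hw' => d.hdisj w (d.s1.JS hw') (d.s2.JS hw)) hc1 hc2
    · rw [← d.hcomm _ (d.s1.JS hv2) _ (d.s2.JS hv1)] at hA'
      exact diff hv2 hv1 n2 n1 hA'

end UD

end Cfsg.Agent.StdRank2.OutSplit
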