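import Cfsg.Agent.StdRank2.OutSplit.USwap
import Cfsg.Agent.StdRank2.OutSplit.UFld

/-!
# The instance of `UX` in the split case
-/

set_option autoImplicit false
set_option linter.unusedSectionVars false

namespace Cfsg.Agent.StdRank2.OutSplit

open Subgroup
open scoped commutatorElement

universe u

section conj

variable {G : Type*} [Group G] {t : G} (tt : t * t = 1)
include tt

theorem tconj' (x : G) : t * (t * x * t) * t = x := by
  calc t * (t * x * t) * t = (t * t) * x * (t * t) := by group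
    _ = x := by rw [tt, one_mul, mul_one]

theorem tmul' (x y : G) : t * (x * y) * t = (t * x * t) * (t * y * t) := by
  calc t * (x * y) * t = t * x * 1 * y * t := by group
    _ = t * x * (t * t) * y * t := by rw [tt]
    _ = (t * x * t) * (t * y * t) := by group

theorem tinv' (x : G) : t * x⁻¹ * t = (t * x * t)⁻¹ := by
  have ti : t⁻¹ = t := inv_eq_of_mul_eq_one_left tt
  rw [mul_inv_rev, mul_inv_rev, ti]; group

theorem mem_conj_t {X : Subgroup G} {x : G} : x ∈ X.map (MulAut.conj t).toMonoidHom ↔ t * x * t ∈ X := by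
  rw [Cfsg.Agent.StdEven.Syl.mem_map_conj, inv_eq_of_mul_eq_one_left tt]

theorem tcomm {a b : G} (h : a * (t * b * t) = t * b * t * a) : (t * a * t) * b = b * (t * a * t) := by
  have h1 : t * (a * (t * b * t)) * t = t * (t * b * t * a) * t := by rw [h]
  have e1 : t * (a * (t * b * t)) * t = (t * a * t) * b := by
    calc t * (a * (t * b * t)) * t = (t * a * t) * b * (t * t) := by group
      _ = _ := by rw [tt, mul_one]
  have e2 : t * (t * b * t * a) * t = b * (t * a * t) := by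
    calc t * (t * b * t * a) * t = (t * t) * b * (t * a * t) := by group
      _ = _ := by rw [tt, one_mul]
  rwa [e1, e2] at h1

theorem tcomm_iff {a b : G} : a * (t * b * t) = t * b * t * a ↔ (t * a * t) * b = b * (t * a * t) := by
  refine ⟨tcomm tt, fun h => ?_⟩
  have h1 : t * ((t * a * t) * b) * t = t * (b * (t * a * t)) * t := by rw [h]
  have e1 : t * ((t * a * t) * b) * t = a * (t * b * t) := by
    calc t * ((t * a * t) * b) * t = (t * t) * a * (t * b * t) := by group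
      _ = _ := by rw [tt, one_mul]
  have e2 : t * (b * (t * a * t)) * t = t * b * t * a := by
    calc t * (b * (t * a * t)) * t = t * b * t * a * (t * t) := by group
      _ = _ := by rw [tt, mul_one]
  rwa [e1, e2] at h1

omit tt in
theorem card_conj_t (X : Subgroup G) : Nat.card (X.map (MulAut.conj t).toMonoidHom) = Nat.card X :=
  (Nat.card_congr (X.equivMapOfInjective _ (MulAut.conj t).injective).toEquiv).symm

theorem fx_conj_t {J : Subgroup G} {w : G} :
    fx (J.map (MulAut.conj t).toMonoidHom) w = (fx J (t * w * t)).map (MulAut.conj t).toMonoidHom := by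
  ext x
  rw [mem_conj_t tt, mem_fx, mem_fx, mem_conj_t tt]
  constructor
  · rintro ⟨h1, h2⟩
    exact ⟨h1, by rw [← tmul' tt, ← tmul' tt, h2]⟩
  · rintro ⟨h1, h2⟩
    refine ⟨h1, ?_⟩
    rw [← tmul' tt, ← tmul' tt] at h2
    exact mul_left_cancel (mul_right_cancel h2)

theorem Side.conj_t {S0 S J : Subgroup G} {C : Type*} [CommGroup C] {ρ : S0 →* C} {σ : C} {q : ℕ}
    (h : Side S0 S J ρ σ q) (τ : S0 →* S0) (hτ : ∀ x : S0, (τ x : G) = t * x * t) :
    Side S0 (S.map (MulAut.conj t).toMonoidHom) (J.map (MulAut.conj t).toMonoidHom) (ρ.comp τ) σ q where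
  norm w hw a ha := by
    rw [mem_conj_t tt] at ha ⊢
    have h1 := h.norm _ (τ ⟨w, hw⟩).2 _ ha
    rw [hτ] at h1
    have e : t * (w * a * w⁻¹) * t = t * w * t * (t * a * t) * (t * w * t)⁻¹ := by
      rw [tmul' tt, tmul' tt, tinv' tt]
    rw [e]; exact h1
  JS := map_mono h.JS
  jn w hw a ha := by
    rw [mem_conj_t tt] at ha ⊢
    have h1 := h.jn _ (τ ⟨w, hw⟩).2 _ ha
    rw [hτ] at h1
    have e : t * (w * a * w⁻¹) * t = t * w * t * (t * a * t) * (t * w * t)⁻¹ := by
      rw [tmul' tt, tmul' tt, tinv' tt]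
    rw [e]; exact h1
  two j hj := by
    rw [mem_conj_t tt] at hj
    have h1 := h.two _ hj
    rw [← tmul' tt] at h1
    have h2 : t * (t * (j * j) * t) * t = t * 1 * t := by rw [h1]
    rw [tconj' tt, mul_one, tt] at h2
    exact h2
  card := by rw [card_conj_t, h.card]
  el E hE h2 := by
    rw [← card_conj_t (t := t) E]
    refine h.el _ ?_ ?_
    · intro x hx
      rw [mem_conj_t tt] at hx
      have h3 := hE hx
      rwa [mem_conj_t tt, tconj' tt] at h3
    · rintro _ ⟨x, hx, rfl⟩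
      rw [← map_mul, h2 x hx, map_one]
  el' E hE h2 hc := by
    have h4 := h.el' (E.map (MulAut.conj t).toMonoidHom) (by
      intro x hx
      rw [mem_conj_t tt] at hx
      have h3 := hE hx
      rwa [mem_conj_t tt, tconj' tt] at h3) (by
      rintro _ ⟨x, hx, rfl⟩
      rw [← map_mul, h2 x hx, map_one]) (by rw [card_conj_t, hc])
    intro x hx
    rw [mem_conj_t tt]
    apply h4
    rw [mem_conj_t tt, tconj' tt]
    exact hx
  inn w hw h1 := by
    have e : (⟨t * w * t, by rw [← hτ ⟨w, hw⟩]; exact (τ ⟨w, hw⟩).2⟩ : S0) = τ ⟨w, hw⟩ := Subtype.ext (hτ ⟨w, hw⟩).symm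
    rcases h.inn (t * w * t) (by rw [← hτ ⟨w, hw⟩]; exact (τ ⟨w, hw⟩).2) (by rw [e]; exact h1) with h2 | h2
    · left
      intro j hj
      rw [mem_conj_t tt] at hj
      have h3 := h2 _ hj
      rw [← tmul' tt, ← tmul' tt] at h3
      exact mul_left_cancel (mul_right_cancel h3)
    · right
      rw [fx_conj_t tt, card_conj_t]
      exact h2
  out w hw hww h1 := by
    have e : (⟨t * w * t, by rw [← hτ ⟨w, hw⟩]; exact (τ ⟨w, hw⟩).2⟩ : S0) = τ ⟨w, hw⟩ := Subtype.ext (hτ ⟨w, hw⟩).symm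
    rw [fx_conj_t tt, card_conj_t]
    refine h.out (t * w * t) (by rw [← hτ ⟨w, hw⟩]; exact (τ ⟨w, hw⟩).2) ?_ (by rw [e]; exact h1)
    rw [← tmul' tt, hww, mul_one, tt]
  outel w hw hww h1 E hE h2 hc := by
    have e : (⟨t * w * t, by rw [← hτ ⟨w, hw⟩]; exact (τ ⟨w, hw⟩).2⟩ : S0) = τ ⟨w, hw⟩ := Subtype.ext (hτ ⟨w, hw⟩).symm
    rw [← card_conj_t (t := t) E]
    refine h.outel (t * w * t) (by rw [← hτ ⟨w, hw⟩]; exact (τ ⟨w, hw⟩).2) ?_ (by rw [e]; exact h1) _ ?_ ?_ ?_
    · rw [← tmul' tt, hww, mul_one, tt]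
    · intro x hx
      rw [mem_conj_t tt] at hx
      have h3 := hE hx
      rwa [mem_conj_t tt, tconj' tt] at h3
    · rintro _ ⟨x, hx, rfl⟩
      rw [← map_mul, h2 x hx, map_one]
    · intro x hx
      rw [mem_conj_t tt] at hx
      have h3 := hc _ hx
      rw [tcomm_iff (a := w) (b := x) tt |>.1 h3.symm]

theorem Good.conj_t {S J : Subgroup G} {q : ℕ} {x y z : G} (h : Good S J q x y z) :
    Good (S.map (MulAut.conj t).toMonoidHom) (J.map (MulAut.conj t).toMonoidHom) q (t * x * t) (t * y * t)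
      (t * z * t) where
  xJ := by rw [mem_conj_t tt, tconj' tt]; exact h.xJ
  x1 := by
    intro h1
    apply h.x1
    have h2 : t * (t * x * t) * t = t * 1 * t := by rw [h1]
    rwa [tconj' tt, mul_one, tt] at h2
  yS := by rw [mem_conj_t tt, tconj' tt]; exact h.yS
  dS := by rw [mem_conj_t tt, tconj' tt]; exact h.dS
  yy := by rw [← tmul' tt, h.yy, mul_one, tt]
  dd := by rw [← tmul' tt, h.dd, mul_one, tt]
  yx := by rw [← tmul' tt, ← tmul' tt, h.yx]
  dx := by rw [← tmul' tt, ← tmul' tt, h.dx]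
  com := by
    obtain ⟨j, hj, e⟩ := h.com
    refine ⟨t * j * t, by rw [mem_conj_t tt, tconj' tt]; exact hj, ?_⟩
    rw [e, tmul' tt, tmul' tt, tmul' tt, tinv' tt, tinv' tt]
  iff := by
    intro j hj
    rw [mem_conj_t tt] at hj
    have h1 := h.iff _ hj
    have key : ∀ w : G, j * (t * w * t) = t * w * t * j ↔ t * j * t * w = w * (t * j * t) := fun w => tcomm_iff tt
    rw [key, key]
    exact h1
  card := by
    rw [fx_conj_t tt, card_conj_t, tconj' tt]
    exact h.card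
  yd := by
    obtain ⟨j, hj, hne⟩ := h.yd
    refine ⟨t * j * t, by rw [mem_conj_t tt, tconj' tt]; exact hj, fun h1 => hne ?_⟩
    rw [← tmul' tt, ← tmul' tt, ← tmul' tt] at h1
    exact mul_left_cancel (mul_right_cancel h1)

omit tt in
theorem mem_sup_comm {S1 S2 : Subgroup G} (hc : ∀ a ∈ S1, ∀ b ∈ S2, a * b = b * a) {x : G} :
    x ∈ S1 ⊔ S2 ↔ ∃ a ∈ S1, ∃ b ∈ S2, x = a * b := by
  constructor
  · intro hz
    rw [sup_eq_closure] at hz
    induction hz using closure_induction with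
    | mem x hx =>
      rcases hx with hx | hx
      · exact ⟨x, hx, 1, one_mem _, (mul_one x).symm⟩
      · exact ⟨1, one_mem _, x, hx, (one_mul x).symm⟩
    | one => exact ⟨1, one_mem _, 1, one_mem _, (mul_one 1).symm⟩
    | mul x y _ _ hx hy =>
      obtain ⟨a, ha, b, hb, rfl⟩ := hx
      obtain ⟨a', ha', b', hb', rfl⟩ := hy
      refine ⟨a * a', mul_mem ha ha', b * b', mul_mem hb hb', ?_⟩
      have := hc a' ha' b hb
      calc a * b * (a' * b') = a * (b * a') * b' := by group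
        _ = a * (a' * b) * b' := by rw [this]
        _ = a * a' * (b * b') := by group
    | inv x _ hx =>
      obtain ⟨a, ha, b, hb, rfl⟩ := hx
      refine ⟨a⁻¹, inv_mem ha, b⁻¹, inv_mem hb, ?_⟩
      rw [mul_inv_rev]
      exact (hc _ (inv_mem ha) _ (inv_mem hb)).symm
  · rintro ⟨a, ha, b, hb, rfl⟩
    exact mul_mem (mem_sup_left ha) (mem_sup_right hb)

end conj

section inst

open Cfsg Cfsg.Agent.StdEven.Syl Cfsg.Agent.StdEven.Loc Cfsg.Agent.StdL2.Setup Cfsg.Agent.SwapEnd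
open Cfsg.Agent.TitsThree.B2Pkg Cfsg.Agent.TitsThree.RankTwoIdentB2
  Cfsg.Agent.TitsThree.CoreB2 Cfsg.Agent.TitsThree.RankTwoIdx Cfsg.Agent.TitsThree.RankTwoRGD
open Cfsg.Agent.StdRank2.OddLift Cfsg.Agent.StdRank2.B2Lift Cfsg.Agent.StdRank2.B2Std
  Cfsg.Agent.StdRank2.B2Torus Cfsg.Agent.StdRank2.B2Act Cfsg.Agent.StdRank2.B2Act.Std
  Cfsg.Agent.StdRank2.B2Par Cfsg.Agent.StdRank2.B2Par.Std Cfsg.Agent.StdRank2.B2Self
  Cfsg.Agent.StdRank2.B2Amb
open Cfsg.Agent.StdRank2.OutB2Par Cfsg.Agent.StdRank2.OutB2G Cfsg.Agent.StdRank2.OutB2Aut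
  Cfsg.Agent.StdRank2.OutB2Tw Cfsg.Agent.StdRank2.OutB2Data Cfsg.Agent.StdRank2.OutB2Inv
open Cfsg.Agent.StdRank2.UStart (UDat WS WG Fx mem_WG coe_mem_WG isW_iff nf_mem_W T_ext isSyl_UG)

variable {F : Type*} [Field F] {V : Type*} [AddCommGroup V] [Module F V] {D : PQDatum F V}
variable [Finite F] [CharP F 2]
variable {G : Type u} [Group G] [Finite G] {L A M : Subgroup G} {t : G} {N : FData D}

/-- the choice of the Sylow 2-subgroup and of the coordinates -/
structure Cfg (M : Subgroup G) (t : G) (N : FData D) (S : Std D ↥M) (P : Subgroup G) : Prop where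
  syl : IsSyl P (YY M t)
  tP : t ∈ P
  US : UG S ≤ P
  ad : Adapted N S (P ⊓ YZ M t)

theorem YZ_normal (Sw : Swap M t) : YY M t ≤ normalizer (YZ M t : Set G) := by
  intro g hg
  have key : ∀ g ∈ YY M t, ∀ x ∈ YZ M t, g * x * g⁻¹ ∈ YZ M t := by
    intro g hg x hx
    rcases Sw.YY_or hg with h | h
    · exact mul_mem (mul_mem h hx) (inv_mem h)
    · have h1 := Sw.t_YZ (mul_mem (mul_mem h hx) (inv_mem h))
      have e : t * (t * g * x * (t * g)⁻¹) * t = g * x * g⁻¹ := by
        rw [mul_inv_rev, Sw.ti]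
        calc t * (t * g * x * (g⁻¹ * t)) * t = (t * t) * g * x * g⁻¹ * (t * t) := by group
          _ = _ := by rw [Sw.tt, one_mul, mul_one]
      rwa [e] at h1
  exact mem_normalizer_of_conj_le (key g hg)

variable (Sw : Swap M t) (Di : Swap.Dia Sw A) (C : Conf L A t)

include Sw Di C in
/-- **Existence of the configuration** -/
theorem exists_cfg [Finite D.T] (hN : Ty.{u} N) (hcard : Nat.card D.T ≠ Nat.card F) (S : Std D ↥M) :
    ∃ (P : Subgroup G) (S' : Std D ↥M), Cfg M t N S' P ∧ UG S' = UG S := by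
  have hZM := odd_center_M Sw C Di
  have hs : IsSimpleGroup (↥M ⧸ center ↥M) := simple_quot Sw
  obtain ⟨P0, hP0, htP0⟩ := exists_isSyl (N := YY M t) (isPGroup_zpowers Sw.tt) (by
    rw [zpowers_le]; exact Sw.t_mem_YY)
  have h1 := hP0.inf_normal Sw.YZ_le (YZ_normal Sw)
  have h2 := h1.inf_normal (N' := M) (le_trans le_sup_left Sw.MM_le_YZ) inf_le_left
  have hU := isSyl_UG hN.scal hZM S
  obtain ⟨a, ha, hc⟩ := h2.exists_conj hU.two hU.le
  obtain ⟨d, hd⟩ : ∃ d, d = a * (t * a * t) := ⟨_, rfl⟩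
  have hdt : d * t = t * d := by rw [hd]; exact Sw.A_comm_t Di ((Sw.mem_A Di).2 ⟨a, ha, rfl⟩)
  have hdM : d ∈ M ⊔ M2 M t := by
    rw [hd]; exact mul_mem (mem_sup_left ha) (mem_sup_right (Sw.conj_mem_M2 ha))
  have hdY : d ∈ YY M t := Sw.YZ_le (Sw.MM_le_YZ hdM)
  set P := P0.map (MulAut.conj d⁻¹).toMonoidHom with hPdef
  have hP : IsSyl P (YY M t) := hP0.conj (le_normalizer (inv_mem hdY))
  have hmemP : ∀ {x : G}, x ∈ P ↔ d * x * d⁻¹ ∈ P0 := by
    intro x
    rw [hPdef, mem_map_conj, inv_inv]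
  have htP : t ∈ P := by
    rw [hmemP, hdt, mul_inv_cancel_right]
    exact htP0 (mem_zpowers t)
  have hUP : UG S ≤ P := by
    intro u hu
    rw [hmemP]
    have huM := hU.le hu
    have h3 : t * a * t * u = u * (t * a * t) := (Sw.comm u huM a ha).symm
    have e : d * u * d⁻¹ = a * u * a⁻¹ := by
      rw [hd]
      calc a * (t * a * t) * u * (a * (t * a * t))⁻¹ = a * ((t * a * t) * u) * (t * a * t)⁻¹ * a⁻¹ := by group
        _ = a * u * a⁻¹ := by rw [h3]; group
    rw [e]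
    exact (hc u hu).1.1
  have hS0 := hP.inf_normal Sw.YZ_le (YZ_normal Sw)
  have hUS0 : P ⊓ YZ M t ⊓ M = UG S := by
    have hMS := hS0.inf_normal (N' := M) (le_trans le_sup_left Sw.MM_le_YZ) inf_le_left
    refine hU.max _ hMS.two inf_le_right ?_
    intro u hu
    exact ⟨⟨hUP hu, Sw.MM_le_YZ (mem_sup_left (hU.le hu))⟩, hU.le hu⟩
  obtain ⟨c, hc⟩ := OutB2G.exists_adapted hZM S hN hcard (P ⊓ YZ M t) hS0.two (inf_le_right.trans inf_le_left) (by
    intro y hy u hu
    rw [← hUS0] at hu ⊢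
    exact mem_inf.mpr ⟨mul_mem (mul_mem hy hu.1) (inv_mem hy),
      conj_mem_of_mem_normalizer (mem_inf.1 (mem_inf.1 hy).2).1 hu.2⟩)
  exact ⟨P, _, ⟨hP, htP, by rw [UG_tw]; exact hUP, hc⟩, UG_tw _ _⟩

end inst

end Cfsg.Agent.StdRank2.OutSplit
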