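import Cfsg.Agent.StdRank2.OutSplit.UComb
import Cfsg.Agent.StdRank2.UStart.Sit

/-!
# The facts on the Sylow 2-subgroup `U` of `U₄(q)`, `U₅(q)` used in the split case

`A` carries a package of unitary type, `W = z₁(0,·) y(F) z₂(0,·)`, `q = |Fix σ|`.
-/

set_option autoImplicit false
set_option linter.unusedSectionVars false

namespace Cfsg.Agent.StdRank2.OutSplit

open Subgroup
open Cfsg.Agent.TitsThree.B2Pkg Cfsg.Agent.TitsThree.RankTwoIdentB2
  Cfsg.Agent.TitsThree.CoreB2 Cfsg.Agent.TitsThree.RankTwoIdx Cfsg.Agent.TitsThree.RankTwoRGD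
open Cfsg.Agent.StdRank2.OddLift Cfsg.Agent.StdRank2.B2Lift Cfsg.Agent.StdRank2.B2Std
  Cfsg.Agent.StdRank2.B2Torus Cfsg.Agent.StdRank2.B2Act Cfsg.Agent.StdRank2.B2Act.Std
  Cfsg.Agent.StdRank2.B2Par Cfsg.Agent.StdRank2.B2Par.Std Cfsg.Agent.StdRank2.B2Self
  Cfsg.Agent.StdRank2.B2Amb
open Cfsg.Agent.StdRank2.UStart (UDat WS WG Fx mem_WG coe_mem_WG isW_iff nf_mem_W x_conj nI_conj' W_x W_sq
  mem_W_of_sq of_comm tr_zero_left tr_zero_right mul_w_zero sc_w_zero mul_c_left T_ext)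
open scoped commutatorElement

universe u

variable {F : Type*} [Field F] {V : Type*} [AddCommGroup V] [Module F V] {D : PQDatum F V}

theorem sc_one' (a : F) : D.sc a (1 : D.T) = 1 := by
  refine PQDatum.T.ext ?_ ?_
  · rw [PQDatum.sc_w, PQDatum.T.one_w, smul_zero]
  · rw [PQDatum.sc_c, PQDatum.T.one_c, mul_zero]

section grp

variable {A : Type u} [Group A] {S : B2Std.Std D A} [Finite F] [CharP F 2] (hD : UDat D)
include hD

theorem tr_one_iff {ξ b : F} (hξ : ξ ≠ 0) : D.tr ξ b = 1 ↔ D.σ (b * ξ⁻¹) = b * ξ⁻¹ := by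
  constructor
  · exact hD.tr_eq_one hξ
  · intro h
    have hb : b = (b * ξ⁻¹) * ξ := by rw [inv_mul_cancel_right₀ hξ]
    obtain ⟨k, hk⟩ : ∃ k, k = b * ξ⁻¹ := ⟨_, rfl⟩
    rw [← hk] at h hb
    rw [hb]
    refine T_ext (by rfl) ?_
    rw [hD.tr_c, map_mul, h]
    have : (1 : F) + 1 = 0 := CharTwo.add_self_eq_zero 1
    show D.σ ξ * (k * ξ) + ξ * (k * D.σ ξ) = 0
    linear_combination (D.σ ξ * k * ξ) * this

theorem comm_x_iff {ξ : F} (hξ : ξ ≠ 0) {v : A} (hv : IsW' S v) :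
    S.m.x ξ * v = v * S.m.x ξ ↔ ∃ r b, r.w = 0 ∧ D.tr ξ b = 1 ∧ v = nf S.m 0 r b 1 := by
  constructor
  · exact of_comm hD hξ hv
  · rintro ⟨r, b, hr, h1, rfl⟩
    have h2 := x_conj (S := S) hD hr (s := 1) rfl ξ b
    rw [mul_inv_eq_iff_eq_mul] at h2
    rw [h2, h1, sc_one', mul_one, mul_one, PQDatum.T.one_c, mul_zero, add_zero]

/-- the centralisers of `x ξ` and `x (λ ξ)` in `W` coincide -/
theorem comm_x_smul {ξ l : F} (hξ : ξ ≠ 0) (hl : l ≠ 0) (hσ : D.σ l = l) {v : A} (hv : IsW' S v) :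
    S.m.x ξ * v = v * S.m.x ξ ↔ S.m.x (l * ξ) * v = v * S.m.x (l * ξ) := by
  rw [comm_x_iff hD hξ hv, comm_x_iff hD (mul_ne_zero hl hξ) hv]
  have key : ∀ b, D.tr ξ b = 1 ↔ D.tr (l * ξ) b = 1 := by
    intro b
    rw [tr_one_iff hD hξ, tr_one_iff hD (mul_ne_zero hl hξ)]
    have e : b * (l * ξ)⁻¹ = l⁻¹ * (b * ξ⁻¹) := by
      rw [mul_inv]; ring
    have e2 : D.σ (l⁻¹ * (b * ξ⁻¹)) = l⁻¹ * D.σ (b * ξ⁻¹) := by rw [map_mul, map_inv₀, hσ]
    rw [e, e2]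
    constructor
    · intro h; rw [h]
    · intro h; exact mul_left_cancel₀ (inv_ne_zero hl) h
  constructor
  · rintro ⟨r, b, hr, h1, rfl⟩
    exact ⟨r, b, hr, (key b).1 h1, rfl⟩
  · rintro ⟨r, b, hr, h1, rfl⟩
    exact ⟨r, b, hr, (key b).2 h1, rfl⟩

/-- `w` is a commutator `[x ξ, v]` with `x ξ` commuting with `w` -/
theorem good_x {r : D.T} (hr : r.w = 0) (b : F) : ∃ ξ, ξ ≠ 0 ∧
    S.m.x ξ * nf S.m 0 r b 1 = nf S.m 0 r b 1 * S.m.x ξ ∧
    ∃ v, IsW' S v ∧ S.m.x ξ * v * (S.m.x ξ)⁻¹ = nf S.m 0 r b 1 * v := by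
  by_cases hb : b = 0
  · subst hb
    obtain ⟨c, hc⟩ := hD.exists_tr_eq one_ne_zero hr
    refine ⟨1, one_ne_zero, ?_, nf S.m 0 1 c 1, nf_mem_W rfl rfl _, ?_⟩
    · have h2 := x_conj (S := S) hD hr (s := 1) rfl 1 0
      rw [mul_inv_eq_iff_eq_mul] at h2
      rw [h2]
      congr 2
      · rw [tr_zero_right hD, one_mul, D.sc_one, mul_one]
      · rw [PQDatum.T.one_c, mul_zero, add_zero]
    · rw [x_conj hD rfl rfl, hc, mul_nf S.rel, D.sc_one]
      congr 1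
      · rw [add_zero]
      · rw [tr_zero_left hD, sc_one', inv_one]
        group
      · rw [PQDatum.T.one_w, D.zero_left, PQDatum.T.one_c]
        ring
      · rw [one_mul]
  · set s1 : D.T := hD.c0 (map_one D.σ) with hs1
    have hs1w : s1.w = 0 := rfl
    have hs1c : s1.c = 1 := rfl
    have h2 : (r * (D.sc b s1)⁻¹).w = 0 := by
      rw [hD.inv_eq (sc_w_zero b hs1w)]
      exact mul_w_zero hr (sc_w_zero b hs1w)
    obtain ⟨c, hc⟩ := hD.exists_tr_eq hb h2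
    refine ⟨b, hb, ?_, nf S.m 0 1 c s1, nf_mem_W rfl rfl _, ?_⟩
    · have h2 := x_conj (S := S) hD hr (s := 1) rfl b b
      rw [mul_inv_eq_iff_eq_mul] at h2
      rw [h2, hD.tr_self, sc_one', one_mul, mul_one, PQDatum.T.one_c, mul_zero, add_zero]
    · rw [x_conj hD rfl rfl, hc, mul_nf S.rel, inv_mul_cancel_right, hs1c, one_mul, mul_one]
      rw [tr_zero_left hD, sc_one', inv_one, PQDatum.T.one_w, D.zero_left, PQDatum.T.one_c, one_mul, map_zero]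
      congr 1
      · rw [add_zero]
      · group
      · ring

/-- every element of `W` is conjugate to `z₁(0,·) y(b)` -/
theorem red {w : A} (hw : IsW' S w) : ∃ (m : A) (r : D.T) (b : F), r.w = 0 ∧ m * w * m⁻¹ = nf S.m 0 r b 1 := by
  obtain ⟨r, b, s, hr, hs, rfl⟩ := isW_iff.1 hw
  by_cases hs1 : s = 1
  · subst hs1
    exact ⟨1, r, b, hr, by group⟩
  have hk : s.c ≠ 0 := fun h => hs1 (PQDatum.T.c_eq_zero_iff.1 h)
  have h1 := x_conj (S := S) hD hr hs (b * s.c⁻¹) b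
  have e1 : b + b * s.c⁻¹ * s.c = 0 := by
    rw [mul_assoc, inv_mul_cancel₀ hk, mul_one, CharTwo.add_self_eq_zero]
  rw [e1] at h1
  set r1 := r * (D.tr (b * s.c⁻¹) b * D.sc (b * s.c⁻¹) s) with hr1
  have hr1w : r1.w = 0 := mul_w_zero hr (mul_w_zero rfl (sc_w_zero _ hs))
  obtain ⟨e, he⟩ := OutField.exists_sqrt (r1.c * s.c⁻¹)
  have hσe : D.σ e = e := by
    have h2 : D.σ e * D.σ e = e * e := by
      rw [← map_mul, he, map_mul, map_inv₀, hD.σ_c hr1w, hD.σ_c hs]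
    have h3 : (D.σ e + e) * (D.σ e + e) = 0 := by
      rw [CharTwo.add_mul_self, h2, CharTwo.add_self_eq_zero]
    exact UStart.eq_of_add (mul_self_eq_zero.1 h3)
  have h2 := x_conj (S := S) hD hr1w hs e 0
  have e3 : r1 * (D.tr e 0 * D.sc e s) = 1 := by
    rw [tr_zero_right hD, one_mul]
    refine T_ext (mul_w_zero hr1w (sc_w_zero _ hs)) ?_
    rw [mul_c_left hr1w, PQDatum.sc_c, hσe, he, mul_assoc, inv_mul_cancel₀ hk, mul_one,
      CharTwo.add_self_eq_zero]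
    rfl
  rw [e3] at h2
  have h3 := nI_conj' (S := S) hD (r := 1) rfl hs (0 + e * s.c)
  refine ⟨S.m.nI * S.m.x e * S.m.x (b * s.c⁻¹), s, D.σ (0 + e * s.c), hs, ?_⟩
  rw [← h3, ← h2, ← h1]
  group

/-- **every involution of `U` is conjugate to `z₁(0,·) y(b)`** -/
theorem red_U {u : A} (hu : u ∈ S.U) (h2 : u * u = 1) :
    ∃ (m : A) (r : D.T) (b : F), r.w = 0 ∧ m⁻¹ * u * m = nf S.m 0 r b 1 := by
  obtain ⟨a, ha⟩ := UStart.into hD hu h2
  obtain ⟨m, r, b, hr, h⟩ := red hD ha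
  refine ⟨(m * a)⁻¹, r, b, hr, ?_⟩
  rw [← h]
  group

/-- an element of `U` centralises `W`, or has the same centraliser in `W` as some `x ξ` -/
theorem comm_U {u : A} (hu : u ∈ S.U) : (∀ v, IsW' S v → u * v = v * u) ∨ ∃ ξ, ξ ≠ 0 ∧
    ∀ v, IsW' S v → (u * v = v * u ↔ S.m.x ξ * v = v * S.m.x ξ) := by
  obtain ⟨a, ha⟩ := exists_PX hu
  obtain ⟨w, hw, rfl⟩ := PX.decomp ha
  by_cases ha0 : a = 0
  · left
    subst ha0
    intro v hv
    rw [add_zero' S.rel.x_add, one_mul]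
    exact (hv.comm hw).symm
  · right
    refine ⟨a, ha0, fun v hv => ?_⟩
    have h1 := hv.comm hw
    constructor
    · intro h
      have h2 : S.m.x a * v * w = v * S.m.x a * w := by
        calc S.m.x a * v * w = S.m.x a * (v * w) := by group
          _ = S.m.x a * (w * v) := by rw [h1]
          _ = S.m.x a * w * v := by group
          _ = v * (S.m.x a * w) := h
          _ = _ := by group
      exact mul_right_cancel h2
    · intro h
      calc S.m.x a * w * v = S.m.x a * (w * v) := by group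
        _ = S.m.x a * (v * w) := by rw [h1]
        _ = S.m.x a * v * w := by group
        _ = v * S.m.x a * w := by rw [h]
        _ = _ := by group

end grp

/-! ### in the ambient group -/

variable {G : Type u} [Group G] {A : Subgroup G} {S : B2Std.Std D ↥A} [Finite F] [CharP F 2] (hD : UDat D)

theorem WG_le_UG : WG S ≤ OutB2G.UG S := by
  intro x hx
  obtain ⟨v, hv, rfl⟩ := mem_WG.1 hx
  obtain ⟨r, b, s, -, -, rfl⟩ := isW_iff.1 hv
  exact ⟨_, nf_mem _ _ _ _, rfl⟩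

theorem coe_comm {u v : ↥A} : (v : G) * u = u * v ↔ u * v = v * u := by
  constructor
  · intro h; exact Subtype.ext h.symm
  · intro h; exact (congrArg Subtype.val h).symm

include hD

theorem card_WG : Nat.card (WG S) = Nat.card (Fx D) ^ 4 := by
  rw [← UStart.card_W (S := S) hD]
  exact Nat.card_congr ((WS S).equivMapOfInjective _ A.subtype_injective).toEquiv.symm

theorem card_fx_x {ξ : F} (hξ : ξ ≠ 0) : Nat.card (fx (WG S) (S.m.x ξ : G)) = Nat.card (Fx D) ^ 2 := by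
  rw [pow_two, ← Nat.card_prod]
  symm
  have h1 : ∀ z : Fx D × Fx D, ((nf S.m 0 (hD.c0 z.1.2) (z.2 * ξ) 1 : ↥A) : G) ∈ fx (WG S) (S.m.x ξ : G) := by
    intro z
    have hw : IsW' S (nf S.m 0 (hD.c0 z.1.2) (z.2 * ξ) 1) := nf_mem_W rfl rfl _
    refine mem_fx.2 ⟨coe_mem_WG.2 hw, ?_⟩
    rw [coe_comm, comm_x_iff hD hξ hw]
    refine ⟨_, _, rfl, ?_, rfl⟩
    rw [tr_one_iff hD hξ, mul_inv_cancel_right₀ hξ]
    exact z.2.2
  apply Nat.card_congr
  refine Equiv.ofBijective (fun z => (⟨_, h1 z⟩ : fx (WG S) (S.m.x ξ : G))) ⟨?_, ?_⟩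
  · rintro ⟨⟨a, ha⟩, ⟨b, hb⟩⟩ ⟨⟨a', ha'⟩, ⟨b', hb'⟩⟩ h
    have h' : ((nf S.m 0 (hD.c0 ha) (b * ξ) 1 : ↥A) : G) = (nf S.m 0 (hD.c0 ha') (b' * ξ) 1 : ↥A) :=
      congrArg (fun z : fx (WG S) (S.m.x ξ : G) => (z : G)) h
    obtain ⟨-, h2, h3, -⟩ := S.nf_inj (Subtype.ext h')
    have h5 : a = a' := congrArg PQDatum.T.c h2
    have h7 : b = b' := mul_right_cancel₀ hξ h3
    subst h5 h7
    rfl
  · rintro ⟨v, hv⟩
    obtain ⟨hv1, hv2⟩ := mem_fx.1 hv
    obtain ⟨w, hw, rfl⟩ := mem_WG.1 hv1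
    rw [coe_comm, comm_x_iff hD hξ hw] at hv2
    obtain ⟨r, b, hr, hb, rfl⟩ := hv2
    refine ⟨(⟨r.c, hD.σ_c hr⟩, ⟨b * ξ⁻¹, (tr_one_iff hD hξ).1 hb⟩), Subtype.ext ?_⟩
    show ((nf S.m 0 (hD.c0 _) (b * ξ⁻¹ * ξ) 1 : ↥A) : G) = _
    rw [inv_mul_cancel_right₀ hξ]
    congr 2
    exact T_ext hr.symm rfl

/-- fixed points of an element of `U` -/
theorem card_fx_UG {u : G} (hu : u ∈ OutB2G.UG S) :
    (∀ j ∈ WG S, u * j = j * u) ∨ Nat.card (fx (WG S) u) ≤ Nat.card (Fx D) ^ 2 := by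
  obtain ⟨v, hv, rfl⟩ := hu
  rcases comm_U hD hv with h | ⟨ξ, hξ, h⟩
  · left
    intro j hj
    obtain ⟨w, hw, rfl⟩ := mem_WG.1 hj
    exact congrArg Subtype.val (h w hw)
  · right
    rw [← card_fx_x (S := S) hD hξ]
    apply le_of_eq
    congr 2
    ext j
    rw [mem_fx, mem_fx]
    constructor
    · rintro ⟨hj, hc⟩
      obtain ⟨w, hw, rfl⟩ := mem_WG.1 hj
      exact ⟨hj, coe_comm.2 ((h w hw).1 (coe_comm.1 hc))⟩
    · rintro ⟨hj, hc⟩
      obtain ⟨w, hw, rfl⟩ := mem_WG.1 hj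
      exact ⟨hj, coe_comm.2 ((h w hw).2 (coe_comm.1 hc))⟩

/-- elementary abelian subgroups of `U` -/
theorem el_UG {E : Subgroup G} (hE : E ≤ OutB2G.UG S) (h2 : ∀ x ∈ E, x * x = 1) :
    E ≤ WG S ∨ Nat.card E ≤ Nat.card (Fx D) ^ 3 := by
  have hEA : E ≤ A := hE.trans (OutB2G.UG_le S)
  by_cases h : E.subgroupOf A ≤ WS S
  · left
    intro x hx
    exact mem_WG.2 ⟨⟨x, hEA hx⟩, h (mem_subgroupOf.2 hx), rfl⟩
  · right
    have h1 : Nat.card (E.subgroupOf A) = Nat.card E := Nat.card_congr (subgroupOfEquivOfLe hEA).toEquiv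
    rw [← h1]
    have h2' : ∀ x ∈ E.subgroupOf A, x * x = 1 := fun x hx => Subtype.ext (h2 _ (mem_subgroupOf.1 hx))
    refine UStart.card_le_of_not_le hD ?_ h2' ?_ h
    · intro x hx
      obtain ⟨u, hu, e⟩ := hE (mem_subgroupOf.1 hx)
      have : u = x := Subtype.ext e
      rwa [← this]
    · intro x hx y hy
      have e1 := h2' _ (mul_mem hx hy)
      have e2 : y⁻¹ = y := inv_eq_of_mul_eq_one_right (h2' y hy)
      have e3 : x⁻¹ = x := inv_eq_of_mul_eq_one_right (h2' x hx)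
      have e4 : x * y = (x * y)⁻¹ := eq_inv_of_mul_eq_one_left e1
      rw [mul_inv_rev, e2, e3] at e4
      exact e4

theorem el_card {E : Subgroup G} [Finite G] (hE : E ≤ OutB2G.UG S) (h2 : ∀ x ∈ E, x * x = 1) :
    Nat.card E ≤ Nat.card (Fx D) ^ 4 := by
  rcases el_UG hD hE h2 with h | h
  · rw [← card_WG (S := S) hD]
    exact Subgroup.card_le_of_le h
  · have : Nonempty (Fx D) := ⟨⟨0, map_zero _⟩⟩
    exact h.trans (Nat.pow_le_pow_right Nat.card_pos (by norm_num))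

theorem el_eq {E : Subgroup G} (hq : 1 < Nat.card (Fx D)) (hE : E ≤ OutB2G.UG S) (h2 : ∀ x ∈ E, x * x = 1)
    (hc : Nat.card E = Nat.card (Fx D) ^ 4) : E ≤ WG S := by
  rcases el_UG hD hE h2 with h | h
  · exact h
  · exfalso
    have : Nat.card (Fx D) ^ 3 < Nat.card (Fx D) ^ 4 := Nat.pow_lt_pow_right hq (by norm_num)
    omega

/-- **Good elements** -/
theorem allGood_UG (hq : 3 ≤ Nat.card (Fx D)) {x : G} (hx : x ∈ OutB2G.UG S) (hx1 : x ≠ 1) (hx2 : x * x = 1) :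
    ∃ m ∈ A, ∃ y z, Good (OutB2G.UG S) (WG S) (Nat.card (Fx D)) (m⁻¹ * x * m) y z := by
  obtain ⟨u, hu, rfl⟩ := hx
  obtain ⟨m, r, b, hr, hm⟩ := red_U hD hu (Subtype.ext hx2)
  obtain ⟨ξ, hξ, hc, v, hv, hcv⟩ := good_x (S := S) hD hr b
  -- `λ ∈ K ∖ {0, 1}`
  obtain ⟨l, hl, hl0, hl1⟩ : ∃ l, D.σ l = l ∧ l ≠ 0 ∧ l ≠ 1 := by
    classical
    by_contra hcon
    push Not at hcon
    have : Fintype (Fx D) := Fintype.ofFinite _
    have h1 : (Finset.univ : Finset (Fx D)) ⊆ {⟨0, map_zero _⟩, ⟨1, map_one _⟩} := by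
      rintro ⟨s, hs⟩ _
      by_cases h0 : s = 0
      · subst h0; simp
      · have := hcon s hs h0
        subst this; simp
    have h2 := Finset.card_le_card h1
    rw [Finset.card_univ, ← Nat.card_eq_fintype_card] at h2
    have h3 := Finset.card_le_two (a := (⟨0, map_zero _⟩ : Fx D)) (b := ⟨1, map_one _⟩)
    omega
  have hw : IsW' S (nf S.m 0 r b 1) := nf_mem_W hr rfl _
  have e0 : (m : G)⁻¹ * u * m = (nf S.m 0 r b 1 : ↥A) := by
    rw [← hm]; rfl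
  have hne : (nf S.m 0 r b 1 : ↥A) ≠ 1 := by
    intro h
    apply hx1
    have h2 : (m : G)⁻¹ * u * m = 1 := by rw [e0, h]; rfl
    calc (u : G) = m * ((m : G)⁻¹ * u * m) * (m : G)⁻¹ := by group
      _ = 1 := by rw [h2]; group
  have hww : nf S.m 0 r b 1 * nf S.m 0 r b 1 = 1 := W_sq hD hw
  have hxx : ∀ a : F, S.m.x a * S.m.x a = 1 := by
    intro a
    rw [← S.rel.x_add, CharTwo.add_self_eq_zero, add_zero' S.rel.x_add]
  refine ⟨m, m.2, S.m.x ξ, S.m.x (l * ξ), ?_⟩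
  show Good (OutB2G.UG S) (WG S) (Nat.card (Fx D)) ((m : G)⁻¹ * u * m) _ _
  rw [e0]
  exact
    { xJ := coe_mem_WG.2 hw
      x1 := fun h => hne (Subtype.ext h)
      yS := ⟨_, x_mem ξ, rfl⟩
      dS := ⟨_, x_mem (l * ξ), rfl⟩
      yy := congrArg Subtype.val (hxx ξ)
      dd := congrArg Subtype.val (hxx (l * ξ))
      yx := congrArg Subtype.val hc
      dx := congrArg Subtype.val ((comm_x_smul hD hξ hl0 hl hw).1 hc)
      com := by
        refine ⟨v, coe_mem_WG.2 hv, ?_⟩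
        have h1 : v * S.m.x ξ * v⁻¹ * (S.m.x ξ)⁻¹ = nf S.m 0 r b 1 := by
          have h2 : (nf S.m 0 r b 1)⁻¹ = nf S.m 0 r b 1 := inv_eq_of_mul_eq_one_right hww
          calc v * S.m.x ξ * v⁻¹ * (S.m.x ξ)⁻¹ = v * (S.m.x ξ * v * (S.m.x ξ)⁻¹)⁻¹ := by group
            _ = (nf S.m 0 r b 1)⁻¹ := by rw [hcv]; group
            _ = _ := h2
        exact (congrArg Subtype.val h1).symm
      iff := by
        intro j hj
        obtain ⟨w, hw, rfl⟩ := mem_WG.1 hj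
        rw [coe_comm, coe_comm]
        exact comm_x_smul hD hξ hl0 hl hw
      card := card_fx_x hD hξ
      yd := by
        have h1 : IsW' S (nf S.m 0 1 0 (hD.c0 (map_one D.σ))) := nf_mem_W rfl rfl _
        refine ⟨_, coe_mem_WG.2 h1, fun h => ?_⟩
        have h2 : ξ + l * ξ ≠ 0 := by
          intro h3
          have h4 : (1 + l) * ξ = 0 := by linear_combination h3
          rcases mul_eq_zero.1 h4 with h5 | h5
          · exact hl1 (UStart.eq_of_add h5).symm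
          · exact hξ h5
        have h3 : S.m.x ξ * S.m.x (l * ξ) = S.m.x (ξ + l * ξ) := (S.rel.x_add _ _).symm
        have h4 : ((S.m.x ξ : ↥A) : G) * (S.m.x (l * ξ) : ↥A) = (S.m.x (ξ + l * ξ) : ↥A) := congrArg Subtype.val h3
        rw [h4, coe_comm, comm_x_iff hD h2 h1] at h
        obtain ⟨r', b', -, -, h5⟩ := h
        obtain ⟨-, -, -, h6⟩ := S.nf_inj h5
        exact one_ne_zero (congrArg PQDatum.T.c h6) }

end Cfsg.Agent.StdRank2.OutSplit
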