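import Cfsg.Agent.StdRank2.OutSplit.UBase
import Cfsg.Agent.StdRank2.TXAct
import Cfsg.Agent.StdRank2.UFourIdSh

/-!
# The structure `Side` for the groups of type `U₄(q)`, `U₅(q)`

`D` a parameter system with `UEnvW.UD B D` (`stdU0`, `stdU1`), `S : Std D ↥A`, `J = JG = {z₁(0,k) y(b) z₂(0,l)}`, `q = |K|`.
-/

set_option autoImplicit false
set_option linter.unusedSectionVars false
set_option linter.unusedSimpArgs false

namespace Cfsg.Agent.StdRank2.OutSplit.USide

open Subgroup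
open Cfsg.Agent.TitsThree.B2Pkg Cfsg.Agent.TitsThree.RankTwoIdentB2
  Cfsg.Agent.TitsThree.CoreB2 Cfsg.Agent.TitsThree.RankTwoIdx Cfsg.Agent.TitsThree.RankTwoRGD
open Cfsg.Agent.StdRank2.OddLift Cfsg.Agent.StdRank2.B2Lift Cfsg.Agent.StdRank2.B2Std
  Cfsg.Agent.StdRank2.B2Torus Cfsg.Agent.StdRank2.B2Act Cfsg.Agent.StdRank2.B2Act.Std
  Cfsg.Agent.StdRank2.UFour Cfsg.Agent.StdRank2.UEnvW
open Cfsg.Agent.StdRank2.OutB2G Cfsg.Agent.StdRank2.OutB2Aut Cfsg.Agent.StdRank2.OutB2Inv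
  Cfsg.Agent.StdRank2.OutB2Data
open Cfsg.Agent.StdRank2.OutSplit

universe u

variable {F : Type*} [Field F] [CharP F 2] {V : Type*} [AddCommGroup V] [Module F V] {D : PQDatum F V} {B : Bar F}
variable {G : Type u} [Group G] {A : Subgroup G} (S : Std D ↥A) (hB : UEnvW.UD B D)

/-- the elements of `J` -/
def jg (v : B.V) : G := nG S 0 (tk hB v.1) v.2.1 (tk hB v.2.2)

theorem jg_mem (v : B.V) : jg S hB v ∈ UG S := nG_mem _ _ _ _

theorem jg_add (u v : B.V) : jg S hB (u + v) = jg S hB u * jg S hB v := by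
  unfold jg
  rw [nG_mul']
  have e : D.h (tk hB u.2.2).w (tk hB v.1).w = 0 := by rw [tk_w, tk_w, D.zero_left]
  rw [e, add_zero, ← tk_mul, ← tk_mul]
  rfl

theorem jg_zero : jg S hB 0 = 1 := WEnv.hom_zero (jg_add S hB)

theorem jg_sq (v : B.V) : jg S hB v * jg S hB v = 1 := by
  rw [← jg_add, WEnv.V_add_self, jg_zero]

theorem jg_inv (v : B.V) : (jg S hB v)⁻¹ = jg S hB v := WEnv.inv_of_sq (jg_sq S hB v)

theorem jg_inj [Finite F] {u v : B.V} (h : jg S hB u = jg S hB v) : u = v := by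
  obtain ⟨-, h1, h2, h3⟩ := nG_inj h
  refine Prod.ext (Subtype.ext ?_) (Prod.ext h2 (Subtype.ext ?_))
  · exact congrArg (fun p : D.T => p.c) h1
  · exact congrArg (fun p : D.T => p.c) h3

/-- the action of `U` on `J` -/
theorem nG_jg (a : F) (p : D.T) (b : F) (q : D.T) (v : B.V) :
    nG S a p b q * jg S hB v = jg S hB (B.ma a v) * nG S a p b q := by
  unfold jg
  rw [nG_mul', nG_mul]
  have e1 : D.h q.w (tk hB v.1).w = 0 := by rw [tk_w, D.zero_right]
  have e2 : D.h (tk hB (B.ma a v).2.2).w p.w = 0 := by rw [tk_w, D.zero_left]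
  have hs := v.2.2.2
  have hs' : B.s (v.2.2 : F) = v.2.2 := v.2.2.2
  have hs1 : B.s (v.1 : F) = v.1 := v.1.2
  rw [e1, e2]
  congr 1
  · rw [zero_add]
  · ext
    · simp [tk]
    · simp only [PQDatum.T.mul_c, PQDatum.T.mul_w, PQDatum.T.inv_c, PQDatum.T.inv_w, PQDatum.tr_c, PQDatum.tr_w, PQDatum.sc_c, PQDatum.sc_w, tk_w, tk_c,
        Bar.ma, hB.σ, hB.ε, smul_zero, D.zero_left, D.zero_right, neg_zero, zero_add, add_zero, sub_zero, one_mul,
        map_sub, map_mul, map_add, map_neg, B.invol, Subfield.coe_add, Bar.coe_tr, Subfield.coe_mul, Bar.coe_nm, hs']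
      have h2 : (2 : F) = 0 := by exact_mod_cast CharP.cast_eq_zero F 2
      grind
  · simp only [hB.σ, hB.ε, tk_c, Bar.ma, one_mul, add_zero]
    grind
  · ext
    · simp [tk, Bar.ma]
    · simp [tk, Bar.ma, D.zero_left, D.zero_right, add_comm]

/-! ### the group `J` -/

/-- `J` -/
def JG : Subgroup G where
  carrier := {g | ∃ v, g = jg S hB v}
  mul_mem' := by
    rintro _ _ ⟨u, rfl⟩ ⟨v, rfl⟩
    exact ⟨u + v, (jg_add S hB u v).symm⟩
  one_mem' := ⟨0, (jg_zero S hB).symm⟩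
  inv_mem' := by
    rintro _ ⟨v, rfl⟩
    exact ⟨v, jg_inv S hB v⟩

theorem mem_JG {g : G} : g ∈ JG S hB ↔ ∃ v, g = jg S hB v := Iff.rfl

theorem jg_mem_JG (v : B.V) : jg S hB v ∈ JG S hB := ⟨v, rfl⟩

theorem JG_le : JG S hB ≤ UG S := by
  rintro _ ⟨v, rfl⟩
  exact jg_mem S hB v

theorem JG_sq {g : G} (hg : g ∈ JG S hB) : g * g = 1 := by
  obtain ⟨v, rfl⟩ := hg
  exact jg_sq S hB v

theorem card_V [Finite F] (B : Bar F) : Nat.card B.V = Nat.card B.K ^ 4 := by
  simp only [Nat.card_prod]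
  rw [UFourId.card_F B]
  ring

theorem card_JG [Finite F] : Nat.card (JG S hB) = Nat.card B.K ^ 4 := by
  rw [← card_V B]
  refine (Nat.card_congr (Equiv.ofBijective (fun v : B.V => (⟨jg S hB v, jg_mem_JG S hB v⟩ : JG S hB)) ⟨?_, ?_⟩)).symm
  · intro u v h
    have h' : jg S hB u = jg S hB v := congrArg (fun x : JG S hB => (x : G)) h
    exact jg_inj S hB h'
  · rintro ⟨_, v, rfl⟩
    exact ⟨v, rfl⟩

/-! ### elements of field type -/

section fld

variable [Finite F] {N : FData D} {f w : G} {ρ : F ≃+* F}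

/-- the action of `ρ` on the fixed field -/
def kk (B : Bar F) (ρ : F ≃+* F) (k : B.K) : B.K := ⟨ρ k, by
  change B.s (ρ k) = ρ k
  rw [← TXAct.comm_bar, B.s_K]⟩

theorem kk_val (k : B.K) : ((kk B ρ k : B.K) : F) = ρ k := rfl

/-- the action of `ρ` on the coordinates of `J` -/
def rv (B : Bar F) (ρ : F ≃+* F) (v : B.V) : B.V := (kk B ρ v.1, ρ v.2.1, kk B ρ v.2.2)

theorem T_tk' (k : B.K) : N.T ρ (tk hB k) = tk hB (kk B ρ k) := by
  ext
  · show N.r ρ 0 = 0
    rw [map_zero]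
  · rfl

variable {S}

theorem fld_jg (h : Fld N S f ρ) (v : B.V) : f * jg S hB v * f⁻¹ = jg S hB (rv B ρ v) := by
  unfold jg
  rw [fld_nG h, T_tk', T_tk', map_zero]
  rfl

variable {hB}

/-- the action of an element of field type modulo `U` -/
theorem act_jg {a : F} {p : D.T} {b : F} {q : D.T} (h : Fld N S f ρ) (v : B.V) :
    nG S a p b q * f * jg S hB v * (nG S a p b q * f)⁻¹ = jg S hB (B.ma a (rv B ρ v)) := by
  have h1 := nG_jg S hB a p b q (rv B ρ v)
  rw [← fld_jg hB h] at h1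
  calc nG S a p b q * f * jg S hB v * (nG S a p b q * f)⁻¹
      = nG S a p b q * (f * jg S hB v * f⁻¹) * (nG S a p b q)⁻¹ := by group
    _ = _ := by rw [h1, mul_inv_cancel_right]

theorem exists_form (hw : ∃ u ∈ UG S, Fld N S (u * w) ρ) : ∃ a p b q f, w = nG S a p b q * f ∧ Fld N S f ρ := by
  obtain ⟨u, hu, hF⟩ := hw
  obtain ⟨a, p, b, q, e⟩ := exists_nG (inv_mem hu)
  exact ⟨a, p, b, q, u * w, by rw [← e]; group, hF⟩

/-- the fixed points on `J` -/
theorem card_fx {a : F} {p : D.T} {b : F} {q : D.T} (h : Fld N S f ρ) :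
    Nat.card (fx (JG S hB) (nG S a p b q * f)) = Nat.card {v : B.V // B.ma a (rv B ρ v) = v} := by
  have key : ∀ v, jg S hB v * (nG S a p b q * f) = nG S a p b q * f * jg S hB v ↔ B.ma a (rv B ρ v) = v := by
    intro v
    have h1 := act_jg (hB := hB) (a := a) (p := p) (b := b) (q := q) h v
    constructor
    · intro h2
      apply jg_inj S hB
      rw [← h1, ← h2, mul_inv_cancel_right]
    · intro h2
      rw [h2, mul_inv_eq_iff_eq_mul] at h1
      exact h1.symm
  refine (Nat.card_congr (Equiv.ofBijective (fun v : {v : B.V // B.ma a (rv B ρ v) = v} =>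
    (⟨jg S hB v.1, mem_fx.2 ⟨jg_mem_JG S hB _, (key v.1).2 v.2⟩⟩ : fx (JG S hB) (nG S a p b q * f))) ⟨?_, ?_⟩)).symm
  · intro u v e
    have h' : jg S hB u.1 = jg S hB v.1 := congrArg (fun x : fx (JG S hB) (nG S a p b q * f) => (x : G)) e
    exact Subtype.ext (jg_inj S hB h')
  · rintro ⟨g, hg⟩
    obtain ⟨⟨v, rfl⟩, h2⟩ := mem_fx.1 hg
    exact ⟨⟨v, (key v).1 h2⟩, rfl⟩

/-- the `x`-coordinate of an involution -/
theorem add_eq_zero_of_sq [Finite G] (hZ : Odd (Nat.card (center ↥A))) {a : F} {p : D.T} {b : F} {q : D.T}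
    (h : Fld N S f ρ) (hρ : ρ * ρ = 1) (hw : nG S a p b q * f * (nG S a p b q * f) = 1) : a + ρ a = 0 := by
  have h1 := fld_nG h a p b q
  have h2 : nG S a p b q * nG S (ρ a) (N.T ρ p) (ρ b) (N.T ρ q) * (f * f) = 1 := by
    rw [← h1, ← hw]; group
  have h3 := fld_mul h h
  rw [hρ] at h3
  have h4 : f * f = 1 := by
    apply eq_one_of_centralizer hZ (S := S) _ (fld_cent h3)
    have : f * f = (nG S a p b q * nG S (ρ a) (N.T ρ p) (ρ b) (N.T ρ q))⁻¹ := eq_inv_of_mul_eq_one_right h2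
    rw [this]
    exact inv_mem (mul_mem (nG_mem _ _ _ _) (nG_mem _ _ _ _))
  rw [h4, mul_one, nG_mul, ← nG_one (S := S)] at h2
  exact (nG_inj h2).1

end fld

/-! ### counting fixed vectors -/

section count

variable [Finite F]

theorem rv_one (v : B.V) : rv B 1 v = v := rfl

theorem rv_s (v : B.V) : rv B B.s v = (v.1, B.s v.2.1, v.2.2) := by
  refine Prod.ext (Subtype.ext ?_) (Prod.ext rfl (Subtype.ext ?_))
  · exact B.s_K v.1
  · exact B.s_K v.2.2

theorem ma_eq_iff {a : F} (ha : a ≠ 0) (v : B.V) : B.ma a v = v ↔ v.2.2 = 0 ∧ B.tr (a * B.s v.2.1) = 0 := by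
  constructor
  · intro h
    have h1 : v.2.1 + a * v.2.2 = v.2.1 := congrArg (fun v : B.V => v.2.1) h
    have h2 : (v.2.2 : F) = 0 := by
      have : a * (v.2.2 : F) = 0 := by linear_combination h1
      exact (mul_eq_zero.1 this).resolve_left ha
    have h3 : v.2.2 = 0 := Subtype.ext h2
    refine ⟨h3, ?_⟩
    have h4 : v.1 + B.tr (a * B.s v.2.1) + B.nm a * v.2.2 = v.1 := congrArg (fun v : B.V => v.1) h
    rw [h3, mul_zero, add_zero] at h4
    exact add_eq_left.1 h4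
  · rintro ⟨h1, h2⟩
    refine Prod.ext ?_ (Prod.ext ?_ rfl)
    · show v.1 + B.tr (a * B.s v.2.1) + B.nm a * v.2.2 = v.1
      rw [h1, h2, mul_zero, add_zero, add_zero]
    · show v.2.1 + a * (v.2.2 : F) = v.2.1
      rw [h1, ZeroMemClass.coe_zero, mul_zero, add_zero]

theorem tr_zero_iff {x : F} : B.tr x = 0 ↔ x ∈ B.K := by
  rw [B.mem_K]
  constructor
  · intro h
    have h1 : x + B.s x = 0 := congrArg Subtype.val h
    have := Bar.add_self x
    linear_combination h1 - this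
  · intro h
    apply Subtype.ext
    show x + B.s x = 0
    rw [h, Bar.add_self]

/-- fixed vectors of a transvection -/
theorem card_fix_one {a : F} (ha : a ≠ 0) : Nat.card {v : B.V // B.ma a v = v} = Nat.card B.K ^ 2 := by
  rw [pow_two, ← Nat.card_prod]
  refine (Nat.card_congr (Equiv.ofBijective (fun x : B.K × B.K =>
    (⟨(x.1, B.s ((x.2 : F) * a⁻¹), 0), (ma_eq_iff ha _).2 ⟨rfl, by
      rw [tr_zero_iff, B.invol, mul_comm, inv_mul_cancel_right₀ ha]
      exact x.2.2⟩⟩ : {v : B.V // B.ma a v = v})) ⟨?_, ?_⟩)).symm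
  · rintro ⟨k, m⟩ ⟨k', m'⟩ h
    have h0 : ((k, B.s ((m : F) * a⁻¹), 0) : B.V) = (k', B.s ((m' : F) * a⁻¹), 0) := congrArg Subtype.val h
    have h1 : k = k' := congrArg (fun v : B.V => v.1) h0
    have h2 : B.s ((m : F) * a⁻¹) = B.s ((m' : F) * a⁻¹) := congrArg (fun v : B.V => v.2.1) h0
    have h3 := mul_right_cancel₀ (inv_ne_zero ha) (B.s.injective h2)
    exact Prod.ext h1 (Subtype.ext h3)
  · rintro ⟨⟨k, c, l⟩, h⟩
    obtain ⟨h1, h2⟩ := (ma_eq_iff ha _).1 h
    have h1' : l = 0 := h1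
    subst h1'
    refine ⟨(k, ⟨a * B.s c, tr_zero_iff.1 h2⟩), Subtype.ext ?_⟩
    show ((k, B.s (a * B.s c * a⁻¹), 0) : B.V) = (k, c, 0)
    rw [mul_comm a, mul_inv_cancel_right₀ ha, B.invol]

/-- fixed vectors of a transvection times the field automorphism -/
theorem card_fix_s {a : F} (ha : B.s a = a) : Nat.card {v : B.V // B.ma a (rv B B.s v) = v} = Nat.card B.K ^ 3 := by
  obtain ⟨w₀, hw₀⟩ := B.tr_surj 1
  have hw : w₀ + B.s w₀ = 1 := congrArg Subtype.val hw₀
  have hw' : B.s w₀ = 1 + w₀ := by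
    have := Bar.add_self w₀
    linear_combination hw - this
  have e3 : Nat.card B.K ^ 3 = Nat.card (B.K × B.K × B.K) := by
    simp only [Nat.card_prod]
    ring
  have key : ∀ v : B.V, B.ma a (rv B B.s v) = v ↔ v.2.1 + B.s v.2.1 = a * v.2.2 := by
    intro v
    rw [rv_s]
    constructor
    · intro h
      have h1 : B.s v.2.1 + a * v.2.2 = v.2.1 := congrArg (fun v : B.V => v.2.1) h
      have := Bar.add_self (v.2.1)
      have := Bar.add_self (a * (v.2.2 : F))
      grind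
    · intro h
      refine Prod.ext (Subtype.ext ?_) (Prod.ext ?_ rfl)
      · show (v.1 : F) + (a * B.s (B.s v.2.1) + B.s (a * B.s (B.s v.2.1))) + a * B.s a * v.2.2 = v.1
        rw [B.invol, map_mul, ha]
        have := Bar.add_self (a * (a * (v.2.2 : F)))
        linear_combination a * h + this
      · show B.s v.2.1 + a * (v.2.2 : F) = v.2.1
        have := Bar.add_self (B.s v.2.1)
        linear_combination this - h
  rw [e3]
  refine (Nat.card_congr (Equiv.ofBijective (fun x : B.K × B.K × B.K =>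
    (⟨(x.1, a * (x.2.1 : F) * w₀ + x.2.2, x.2.1), (key _).2 (by
      show a * (x.2.1 : F) * w₀ + x.2.2 + B.s (a * (x.2.1 : F) * w₀ + x.2.2) = a * x.2.1
      rw [map_add, map_mul, map_mul, ha, B.s_K, B.s_K, hw']
      have := Bar.add_self ((x.2.2 : F))
      have := Bar.add_self (a * (x.2.1 : F) * w₀)
      grind)⟩ : {v : B.V // B.ma a (rv B B.s v) = v})) ⟨?_, ?_⟩)).symm
  · rintro ⟨k, l, m⟩ ⟨k', l', m'⟩ h
    have h0 : ((k, a * (l : F) * w₀ + m, l) : B.V) = (k', a * (l' : F) * w₀ + m', l') := congrArg Subtype.val h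
    have h1 : k = k' := congrArg (fun v : B.V => v.1) h0
    have h2 : l = l' := congrArg (fun v : B.V => v.2.2) h0
    have h3 : a * (l : F) * w₀ + m = a * (l' : F) * w₀ + m' := congrArg (fun v : B.V => v.2.1) h0
    subst h1 h2
    have h4 : m = m' := Subtype.ext (add_left_cancel h3)
    rw [h4]
  · rintro ⟨⟨k, c, l⟩, h⟩
    have h1 : c + B.s c = a * l := (key _).1 h
    refine ⟨(k, l, ⟨c + a * l * w₀, ?_⟩), Subtype.ext ?_⟩
    · rw [B.mem_K, map_add, map_mul, map_mul, ha, B.s_K, hw']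
      have := Bar.add_self c
      grind
    · show ((k, a * (l : F) * w₀ + (c + a * l * w₀), l) : B.V) = (k, c, l)
      have h2 : a * (l : F) * w₀ + (c + a * l * w₀) = c := by
        have := Bar.add_self (a * (l : F) * w₀)
        linear_combination this
      rw [h2]

end count

/-! ### elementary abelian subgroups -/

section elem

/-- elements of order two of the parameter group -/
theorem w_zero_of_sq (hB : UEnvW.UD B D) {q : D.T} (h : q * q = 1) : q.w = 0 := by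
  have h2 : (2 : F) = 0 := by exact_mod_cast CharP.cast_eq_zero F 2
  have h1 : q.c + q.c - D.h q.w q.w = 0 := congrArg (fun p : D.T => p.c) h
  have h3 : D.h q.w q.w = 0 := by linear_combination q.c * h2 - h1
  have h4 := q.rel
  rw [h3, neg_zero, hB.ε, one_mul, hB.σ] at h4
  have h5 : B.s q.c = q.c := by linear_combination h4 - q.c * h2
  have h6 : q * tk hB ⟨q.c, h5⟩ = 1 := by
    rw [← PQDatum.T.c_eq_zero_iff]
    show q.c + q.c - D.h (tk hB ⟨q.c, h5⟩).w q.w = 0
    rw [tk_w, D.zero_left]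
    linear_combination q.c * h2
  have h7 : q.w + (tk hB ⟨q.c, h5⟩).w = 0 := congrArg (fun p : D.T => p.w) h6
  rwa [tk_w, add_zero] at h7

variable {S} [Finite F]

theorem mem_JG_of_sq {p : D.T} {b : F} {q : D.T} (h : nG S 0 p b q * nG S 0 p b q = 1) :
    nG S 0 p b q ∈ JG S hB := by
  rw [nG_mul', ← nG_one (S := S)] at h
  obtain ⟨-, h1, -, h2⟩ := nG_inj h
  obtain ⟨k, rfl⟩ := exists_tk hB (w_zero_of_sq hB h1)
  obtain ⟨l, rfl⟩ := exists_tk hB (w_zero_of_sq hB h2)
  exact ⟨(k, b, l), rfl⟩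

variable (S) in
open Classical in
/-- the `x`-coordinate -/
noncomputable def ax (g : G) : F := if h : ∃ a p b q, g = nG S a p b q then h.choose else 0

theorem ax_nG (a : F) (p : D.T) (b : F) (q : D.T) : ax S (nG S a p b q) = a := by
  have h : ∃ a' p' b' q', nG S a p b q = nG S a' p' b' q' := ⟨a, p, b, q, rfl⟩
  have h1 : ax S (nG S a p b q) = h.choose := dif_pos h
  obtain ⟨p', b', q', h2⟩ := h.choose_spec
  rw [h1]
  exact (nG_inj h2).1.symm

theorem ax_one : ax S (1 : G) = 0 := by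
  rw [← nG_one (S := S), ax_nG]

theorem ax_mul {g k : G} (hg : g ∈ UG S) (hk : k ∈ UG S) : ax S (g * k) = ax S g + ax S k := by
  obtain ⟨a, p, b, q, rfl⟩ := exists_nG hg
  obtain ⟨a', p', b', q', rfl⟩ := exists_nG hk
  rw [nG_mul, ax_nG, ax_nG, ax_nG]

theorem ax_inv {g : G} (hg : g ∈ UG S) : ax S g⁻¹ = ax S g := by
  have h1 := ax_mul hg (inv_mem hg)
  rw [mul_inv_cancel, ax_one] at h1
  have := Bar.add_self (ax S g)
  linear_combination -h1 - this

theorem mem_JG_of {g : G} (hg : g ∈ UG S) (h2 : g * g = 1) (h0 : ax S g = 0) : g ∈ JG S hB := by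
  obtain ⟨a, p, b, q, rfl⟩ := exists_nG hg
  rw [ax_nG] at h0
  subst h0
  exact mem_JG_of_sq hB h2

theorem conj_jg {g : G} (hg : g ∈ UG S) (v : B.V) : g * jg S hB v = jg S hB (B.ma (ax S g) v) * g := by
  obtain ⟨a, p, b, q, rfl⟩ := exists_nG hg
  rw [nG_jg, ax_nG]

theorem comm_iff {g : G} (hg : g ∈ UG S) (v : B.V) : jg S hB v * g = g * jg S hB v ↔ B.ma (ax S g) v = v := by
  rw [conj_jg hB hg]
  constructor
  · intro h
    exact (jg_inj S hB (mul_right_cancel h)).symm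
  · intro h
    rw [h]

theorem comm_of_sq {D' : Subgroup G} (h2 : ∀ x ∈ D', x * x = 1) {x y : G} (hx : x ∈ D') (hy : y ∈ D') :
    x * y = y * x := by
  have h3 := h2 _ (mul_mem hx hy)
  have h4 : x⁻¹ = x := inv_eq_of_mul_eq_one_right (h2 x hx)
  have h5 : y⁻¹ = y := inv_eq_of_mul_eq_one_right (h2 y hy)
  have h6 : (x * y)⁻¹ = x * y := inv_eq_of_mul_eq_one_right h3
  rw [← h6, mul_inv_rev, h4, h5]

/-- **Elementary abelian subgroups of `U`.** -/
theorem le_or_card [Finite G] {D' : Subgroup G} (hD : D' ≤ UG S) (h2 : ∀ x ∈ D', x * x = 1) :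
    D' ≤ JG S hB ∨ Nat.card D' ≤ Nat.card B.K ^ 3 := by
  classical
  by_cases hJ : ∀ g ∈ D', ax S g = 0
  · exact Or.inl fun g hg => mem_JG_of hB (hD hg) (h2 g hg) (hJ g hg)
  right
  push Not at hJ
  obtain ⟨g₀, hg₀, ha₀⟩ := hJ
  have hdiff : ∀ x ∈ D', ∀ y ∈ D', ax S x = ax S y → x⁻¹ * y ∈ JG S hB := by
    intro x hx y hy e
    refine mem_JG_of hB (hD (mul_mem (inv_mem hx) hy)) (h2 _ (mul_mem (inv_mem hx) hy)) ?_
    rw [ax_mul (inv_mem (hD hx)) (hD hy), ax_inv (hD hx), e, Bar.add_self]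
  have hfix : ∀ g ∈ D', ∀ v, jg S hB v ∈ D' → B.ma (ax S g) v = v := by
    intro g hg v hv
    exact (comm_iff hB (hD hg) v).1 (comm_of_sq h2 hv hg)
  choose! c hc using fun (g : G) (hg : g ∈ JG S hB) => hg
  by_cases hK : ∀ g ∈ D', ax S g * (ax S g₀)⁻¹ ∈ B.K
  · have h3 := card_le_mul (D := D') (N := JG S hB)
      (fun x => if h : ax S x * (ax S g₀)⁻¹ ∈ B.K then (⟨_, h⟩ : B.K) else 0) (by
        intro x hx y hy e
        apply hdiff x hx y hy
        simp only [dif_pos (hK x hx), dif_pos (hK y hy)] at e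
        exact mul_right_cancel₀ (inv_ne_zero ha₀) (congrArg Subtype.val e))
    have h4 : Nat.card (D' ⊓ JG S hB : Subgroup G) ≤ Nat.card B.K ^ 2 := by
      rw [← card_fix_one (B := B) ha₀]
      refine Nat.card_le_card_of_injective (fun x : (D' ⊓ JG S hB : Subgroup G) =>
        (⟨c x, hfix g₀ hg₀ _ (by rw [← hc x (mem_inf.1 x.2).2]; exact (mem_inf.1 x.2).1)⟩ :
          {v : B.V // B.ma (ax S g₀) v = v})) ?_
      intro x y e
      have e' : c (x : G) = c (y : G) := congrArg (fun v : {v : B.V // B.ma (ax S g₀) v = v} => v.1) e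
      apply Subtype.ext
      rw [hc x (mem_inf.1 x.2).2, hc y (mem_inf.1 y.2).2, e']
    calc Nat.card D' ≤ Nat.card B.K * Nat.card (D' ⊓ JG S hB : Subgroup G) := h3
      _ ≤ Nat.card B.K * Nat.card B.K ^ 2 := Nat.mul_le_mul_left _ h4
      _ = _ := by ring
  · push Not at hK
    obtain ⟨g₁, hg₁, hK₁⟩ := hK
    have ha₁ : ax S g₁ ≠ 0 := by
      intro h
      rw [h, zero_mul] at hK₁
      exact hK₁ (zero_mem _)
    have h3 := card_le_mul (D := D') (N := JG S hB) (ax S) hdiff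
    have h4 : Nat.card (D' ⊓ JG S hB : Subgroup G) ≤ Nat.card B.K := by
      have hz : ∀ v, jg S hB v ∈ D' → v.2 = 0 := by
        intro v hv
        obtain ⟨i1, i2⟩ := (ma_eq_iff ha₀ v).1 (hfix g₀ hg₀ v hv)
        obtain ⟨-, i3⟩ := (ma_eq_iff ha₁ v).1 (hfix g₁ hg₁ v hv)
        rw [tr_zero_iff] at i2 i3
        have i4 : v.2.1 = 0 := by
          by_contra h5
          have h6 : B.s v.2.1 ≠ 0 := (map_ne_zero_iff B.s B.s.injective).2 h5
          apply hK₁
          have h7 : ax S g₁ * (ax S g₀)⁻¹ = (ax S g₁ * B.s v.2.1) * (ax S g₀ * B.s v.2.1)⁻¹ := by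
            field_simp
          rw [h7]
          exact mul_mem i3 (inv_mem i2)
        exact Prod.ext i4 i1
      refine Nat.card_le_card_of_injective (fun x : (D' ⊓ JG S hB : Subgroup G) => (c (x : G)).1) ?_
      intro x y e
      have hx := hc x (mem_inf.1 x.2).2
      have hy := hc y (mem_inf.1 y.2).2
      have e1 := hz _ (by rw [← hx]; exact (mem_inf.1 x.2).1)
      have e2 := hz _ (by rw [← hy]; exact (mem_inf.1 y.2).1)
      have e3 : c (x : G) = c (y : G) := Prod.ext e (e1.trans e2.symm)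
      apply Subtype.ext
      rw [hx, hy, e3]
    calc Nat.card D' ≤ Nat.card F * Nat.card (D' ⊓ JG S hB : Subgroup G) := h3
      _ ≤ Nat.card F * Nat.card B.K := Nat.mul_le_mul_left _ h4
      _ = _ := by rw [UFourId.card_F B]; ring

end elem

/-! ### `Side` -/

section side

variable {S} [Finite F] [Finite G] {N : FData D}

/-- conjugation by elements of field type modulo `U` -/
theorem jn_of {w : G} {ρ : F ≃+* F} (hw : ∃ u ∈ UG S, Fld N S (u * w) ρ) {j : G} (hj : j ∈ JG S hB) :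
    w * j * w⁻¹ ∈ JG S hB := by
  obtain ⟨a, p, b, q, f, rfl, hF⟩ := exists_form hw
  obtain ⟨v, rfl⟩ := hj
  rw [act_jg hF]
  exact jg_mem_JG S hB _

theorem inn_of {w : G} (hw : ∃ u ∈ UG S, Fld N S (u * w) 1) :
    (∀ j ∈ JG S hB, w * j = j * w) ∨ Nat.card (fx (JG S hB) w) ≤ Nat.card B.K ^ 2 := by
  obtain ⟨a, p, b, q, f, rfl, hF⟩ := exists_form hw
  by_cases ha : a = 0
  · left
    rintro _ ⟨v, rfl⟩
    have h1 := act_jg (hB := hB) (a := a) (p := p) (b := b) (q := q) hF v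
    have h2 : B.ma a (rv B 1 v) = v := by
      rw [rv_one, ha]
      unfold Bar.ma
      refine Prod.ext ?_ (Prod.ext ?_ rfl)
      · show v.1 + B.tr (0 * B.s v.2.1) + B.nm 0 * v.2.2 = v.1
        rw [zero_mul, B.tr_zero, B.nm_zero, zero_mul, add_zero, add_zero]
      · show v.2.1 + 0 * (v.2.2 : F) = v.2.1
        rw [zero_mul, add_zero]
    rw [h2, mul_inv_eq_iff_eq_mul] at h1
    exact h1
  · right
    rw [card_fx hF]
    exact (card_fix_one ha).le

theorem out_of (hZ : Odd (Nat.card (center ↥A))) {w : G} (hww : w * w = 1) (hw : ∃ u ∈ UG S, Fld N S (u * w) B.s) :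
    Nat.card (fx (JG S hB) w) = Nat.card B.K ^ 3 := by
  obtain ⟨a, p, b, q, f, rfl, hF⟩ := exists_form hw
  have hρ : B.s * B.s = 1 := RingEquiv.ext fun x => B.invol x
  have ha : B.s a = a := by
    have h1 := add_eq_zero_of_sq hZ hF hρ hww
    have := Bar.add_self a
    linear_combination h1 - this
  rw [card_fx hF]
  exact card_fix_s ha

include hB in
theorem outel_of (hZ : Odd (Nat.card (center ↥A))) {w : G} (hww : w * w = 1) (hw : ∃ u ∈ UG S, Fld N S (u * w) B.s)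
    {D' : Subgroup G} (hD : D' ≤ UG S) (h2 : ∀ x ∈ D', x * x = 1) (hc : ∀ x ∈ D', x * w = w * x) :
    Nat.card D' ≤ Nat.card B.K ^ 3 := by
  rcases le_or_card hB hD h2 with h | h
  · rw [← out_of hB hZ hww hw]
    exact Nat.card_le_card_of_injective _ (Subgroup.inclusion_injective (H := D') (K := fx (JG S hB) w)
      fun x hx => mem_fx.2 ⟨h hx, hc x hx⟩)
  · exact h

/-- **The structure `Side`.** -/
theorem side {T : Subgroup G} {C : Type*} [CommGroup C] (hq : 1 < Nat.card B.K) (hZ : Odd (Nat.card (center ↥A)))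
    (hTU : ∀ w ∈ T, ∀ u ∈ UG S, w * u * w⁻¹ ∈ UG S) (had : Adapted N S T) (θ : ↥T →* C) (σ : C)
    (h1 : ∀ w (hw : w ∈ T), θ ⟨w, hw⟩ = 1 → ∃ u ∈ UG S, Fld N S (u * w) 1)
    (hs : ∀ w (hw : w ∈ T), θ ⟨w, hw⟩ = σ → ∃ u ∈ UG S, Fld N S (u * w) B.s) :
    Side T (UG S) (JG S hB) θ σ (Nat.card B.K) where
  norm := hTU
  JS := JG_le S hB
  jn w hw j hj := by
    obtain ⟨u, hu, ρ, -, hF⟩ := had w hw
    exact jn_of hB ⟨u, hu, hF⟩ hj
  two j hj := JG_sq S hB hj
  card := card_JG S hB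
  el D' hD h2 := by
    rcases le_or_card hB hD h2 with h | h
    · rw [← card_JG S hB]
      exact Subgroup.card_le_of_le h
    · exact h.trans (Nat.pow_le_pow_right (by omega) (by norm_num))
  el' D' hD h2 hc := by
    rcases le_or_card hB hD h2 with h | h
    · exact h
    · rw [hc] at h
      exact absurd (Nat.pow_le_pow_iff_right hq |>.1 h) (by norm_num)
  inn w hw e := inn_of hB (h1 w hw e)
  out w hw hww e := out_of hB hZ hww (hs w hw e)
  outel w hw hww e D' hD h2 hc := outel_of hB hZ hww (hs w hw e) hD h2 hc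

end side

end Cfsg.Agent.StdRank2.OutSplit.USide
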