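import Cfsg.Agent.StdRank2.OutSplit.USide
import Cfsg.Agent.StdRank2.OutSplit.UModel

/-!
# The structure `Side` in the notation `UDat`, `WG`, `Fx`
-/

set_option autoImplicit false
set_option linter.unusedSectionVars false

namespace Cfsg.Agent.StdRank2.OutSplit.USide

open Subgroup
open Cfsg.Agent.TitsThree.B2Pkg Cfsg.Agent.TitsThree.RankTwoIdentB2
  Cfsg.Agent.TitsThree.CoreB2 Cfsg.Agent.TitsThree.RankTwoIdx Cfsg.Agent.TitsThree.RankTwoRGD
open Cfsg.Agent.StdRank2.OddLift Cfsg.Agent.StdRank2.B2Lift Cfsg.Agent.StdRank2.B2Std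
  Cfsg.Agent.StdRank2.B2Torus Cfsg.Agent.StdRank2.B2Act Cfsg.Agent.StdRank2.B2Act.Std
  Cfsg.Agent.StdRank2.UFour Cfsg.Agent.StdRank2.UEnvW
open Cfsg.Agent.StdRank2.OutB2G Cfsg.Agent.StdRank2.OutB2Aut Cfsg.Agent.StdRank2.OutB2Inv
  Cfsg.Agent.StdRank2.OutB2Data
open Cfsg.Agent.StdRank2.OutSplit
open Cfsg.Agent.StdRank2.UStart (UDat WS WG Fx mem_WG coe_mem_WG isW_iff)

universe u

variable {F : Type*} [Field F] [CharP F 2] {V : Type*} [AddCommGroup V] [Module F V] {D : PQDatum F V}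

/-- the involution of `F` -/
def bar (hD : UDat D) : Bar F where
  s := D.σ
  invol := D.σσ
  ne := hD.ne

theorem ud (hD : UDat D) : UEnvW.UD (bar hD) D where
  σ _ := rfl
  ε := hD.ε
  ok0 k := (hD.ok _).2 k.2
  nondeg p h := by
    have h3 := h p
    have h4 := p.rel
    rw [h3, neg_zero, hD.ε, one_mul] at h4
    have h2 : (2 : F) = 0 := by exact_mod_cast CharP.cast_eq_zero F 2
    have h5 : D.σ p.c = p.c := by linear_combination h4 - p.c * h2
    have h6 : p * ⟨0, p.c, (hD.ok _).2 h5⟩ = 1 := by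
      rw [← PQDatum.T.c_eq_zero_iff]
      show p.c + p.c - D.h 0 p.w = 0
      rw [D.zero_left]
      linear_combination p.c * h2
    have h7 : p.w + 0 = 0 := congrArg (fun p : D.T => p.w) h6
    rwa [add_zero] at h7

theorem card_K [Finite F] (hD : UDat D) : Nat.card (bar hD).K = Nat.card (Fx D) :=
  Nat.card_congr (Equiv.subtypeEquivRight fun _ => Iff.rfl)

variable {G : Type u} [Group G] {A : Subgroup G} (S : Std D ↥A) (hD : UDat D)

theorem JG_eq [Finite F] : JG S (ud hD) = WG S := by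
  ext g
  rw [mem_JG, mem_WG]
  constructor
  · rintro ⟨v, rfl⟩
    exact ⟨_, isW_iff.2 ⟨tk (ud hD) v.1, v.2.1, tk (ud hD) v.2.2, rfl, rfl, rfl⟩, rfl⟩
  · rintro ⟨u, hu, rfl⟩
    obtain ⟨r, b, s, hr, hs, rfl⟩ := isW_iff.1 hu
    obtain ⟨k, rfl⟩ := exists_tk (ud hD) hr
    obtain ⟨l, rfl⟩ := exists_tk (ud hD) hs
    exact ⟨(k, b, l), rfl⟩

variable {S} [Finite F] [Finite G] {N : FData D}

include hD in
/-- **The structure `Side`.** -/
theorem sideW {T : Subgroup G} {C : Type*} [CommGroup C] (hq : 1 < Nat.card (Fx D))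
    (hZ : Odd (Nat.card (center ↥A))) (hTU : ∀ w ∈ T, ∀ u ∈ UG S, w * u * w⁻¹ ∈ UG S) (had : Adapted N S T)
    (θ : ↥T →* C) (σ : C) (h1 : ∀ w (hw : w ∈ T), θ ⟨w, hw⟩ = 1 → ∃ u ∈ UG S, Fld N S (u * w) 1)
    (hs : ∀ w (hw : w ∈ T), θ ⟨w, hw⟩ = σ → ∃ u ∈ UG S, Fld N S (u * w) D.σ) :
    Side T (UG S) (WG S) θ σ (Nat.card (Fx D)) := by
  rw [← JG_eq S hD, ← card_K hD]
  exact side (ud hD) (by rw [card_K]; exact hq) hZ hTU had θ σ h1 hs

include hD in
theorem out_ofW (hZ : Odd (Nat.card (center ↥A))) {w : G} (hww : w * w = 1) (hw : ∃ u ∈ UG S, Fld N S (u * w) D.σ) :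
    Nat.card (fx (WG S) w) = Nat.card (Fx D) ^ 3 := by
  rw [← JG_eq S hD, ← card_K hD]
  exact out_of (ud hD) hZ hww hw

end Cfsg.Agent.StdRank2.OutSplit.USide
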