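import Cfsg.Agent.StdRank2.OutSplit.UTop
import Cfsg.Agent.StdRank2.UStart.Sit
import Cfsg.Agent.SwapEnd.Swap

/-!
# The group `M` of the split case: `C_G(M M^t)`, `Z(M)`, `M / Z(M)`, `N_G(M M^t)`, the package of `M`
-/

set_option autoImplicit false
set_option linter.unusedSectionVars false

namespace Cfsg.Agent.StdRank2.OutSplit

open Subgroup
open Cfsg Cfsg.Agent.StdEven.Syl Cfsg.Agent.StdEven.Loc Cfsg.Agent.StdL2.Setup Cfsg.Agent.SwapEnd
open scoped commutatorElement

universe u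

section gen

variable {G : Type*} [Group G] [Finite G] {L A M : Subgroup G} {t : G}

/-- involutions of `C(A) ∩ C(t)` -/
theorem eq_t_of_cent (C : Conf L A t) {c : G} (hc : c ∈ centralizer (A : Set G)) (hct : c * t = t * c)
    (hcc : c * c = 1) : c = 1 ∨ c = t := by
  obtain ⟨T0, hT0⟩ := exists_isT C.std C.ht C.htA C.cyc
  have hsyl := hT0.syl_cent C.std C.ht C.htA
  have h2 : IsPGroup 2 (zpowers c) := isPGroup_zpowers hcc
  obtain ⟨n, hn, hn'⟩ := hsyl.exists_conj h2 (by
    rw [zpowers_le, mem_centralizer_singleton_iff]; exact hct)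
  have h3 := hn' c (mem_zpowers c)
  have hnt : n * t = t * n := mem_centralizer_singleton_iff.1 hn
  have hnA := mem_normalizer_of_comm C.std C.ht C.htA hnt
  have h4 : n * c * n⁻¹ ∈ centralizer (A : Set G) :=
    conj_mem_of_mem_normalizer (normalizer_le_normalizer_centralizer A hnA) hc
  have hnt' : n⁻¹ * t * n = t := by rw [mul_assoc, ← hnt, inv_mul_cancel_left]
  rcases hT0.uniq _ h3 h4 (by
    calc n * c * n⁻¹ * (n * c * n⁻¹) = n * (c * c) * n⁻¹ := by group
      _ = 1 := by rw [hcc]; group) with h5 | h5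
  · left
    calc c = n⁻¹ * (n * c * n⁻¹) * n := by group
      _ = 1 := by rw [h5]; group
  · right
    calc c = n⁻¹ * (n * c * n⁻¹) * n := by group
      _ = t := by rw [h5, hnt']

variable (Sw : Swap M t)
include Sw

theorem t_not_YZ : t ∉ YZ M t := by
  intro h
  apply Sw.MM2_swap
  intro x hx
  have h1 := conj_mem_of_mem_normalizer (mem_inf.1 h).1 hx
  rw [Sw.ti] at h1
  exact Sw.mem_M2.2 h1

/-- `C_G(M M^t)` has odd order -/
theorem odd_C (C : Conf L A t) (Di : Swap.Dia Sw A) :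
    Odd (Nat.card (centralizer ((M ⊔ M2 M t : Subgroup G) : Set G))) := by
  classical
  set K := centralizer ((M ⊔ M2 M t : Subgroup G) : Set G) with hK
  have hmem : ∀ {x : G}, x ∈ K ↔ ∀ m ∈ M ⊔ M2 M t, x * m = m * x := by
    intro x
    rw [hK, mem_centralizer_iff]
    exact ⟨fun h m hm => (h m hm).symm, fun h m hm => (h m hm).symm⟩
  have hKA : ∀ x ∈ K, x ∈ centralizer (A : Set G) := by
    intro x hx
    rw [mem_centralizer_iff]
    intro a ha
    exact (hmem.1 hx a (Sw.A_le Di ha)).symm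
  have htM : ¬ ∀ m ∈ M, t * m = m * t := by
    intro h
    apply Sw.MM2_swap
    intro x hx
    rw [Sw.mem_M2, h x hx, mul_assoc, Sw.tt, mul_one]
    exact hx
  have htC : ∀ {x : G}, x ∈ K → t * x * t ∈ K := by
    intro x hx
    rw [hmem] at hx ⊢
    intro m hm
    exact Sw.tswap (hx _ (Sw.t_MM hm))
  by_contra hodd
  -- a Sylow 2-subgroup of `K ⟨t⟩`
  have : Fact (Nat.Prime 2) := ⟨Nat.prime_two⟩
  have hKn : zpowers t ≤ normalizer (K : Set G) := by
    rw [zpowers_le]
    apply mem_normalizer_of_conj_le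
    intro x hx
    rw [Sw.ti]
    exact htC hx
  have ht2 : IsPGroup 2 (zpowers t) := isPGroup_zpowers Sw.tt
  -- number of involutions of `K` fixed by `t`
  obtain ⟨Q, hQ, htQ⟩ := exists_isSyl (N := K ⊔ zpowers t) ht2 le_sup_right
  have hKnorm : K ⊔ zpowers t ≤ normalizer (K : Set G) := sup_le le_normalizer hKn
  have hQK : IsSyl (Q ⊓ K) K := hQ.inf_normal le_sup_left hKnorm
  have hne : Q ⊓ K ≠ ⊥ := by
    intro h0
    apply hodd
    have h1 := hQK.odd_relIndex
    rw [h0] at h1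
    have h2 : (⊥ : Subgroup G).relIndex K = Nat.card K := relIndex_bot_left K
    rwa [h2] at h1
  obtain ⟨a, ha, ha1, hac⟩ := exists_fixed (T := Q) (J := Q ⊓ K) hQ.two hQK.two hne (by
    intro w hw j hj
    exact mem_inf.2 ⟨mul_mem (mul_mem hw hj.1) (inv_mem hw), conj_mem_of_mem_normalizer (hKnorm (hQ.le hw)) hj.2⟩)
  -- an involution
  obtain ⟨k, hk⟩ := hQK.two ⟨a, ha⟩
  have hk' : a ^ 2 ^ k = 1 := congrArg Subtype.val hk
  obtain ⟨c, hcK, hc1, hcc, hct⟩ : ∃ c ∈ K, c ≠ 1 ∧ c * c = 1 ∧ c * t = t * c := by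
    have hat : a * t = t * a := hac t (htQ (mem_zpowers t))
    clear hk
    induction k with
    | zero => exact absurd (by simpa using hk') ha1
    | succ k ih =>
      by_cases h : a ^ 2 ^ k = 1
      · exact ih h
      · refine ⟨a ^ 2 ^ k, pow_mem ha.2 _, h, ?_, ?_⟩
        · rw [← pow_add, ← two_mul, ← pow_succ']; exact hk'
        · exact ((show Commute a t from hat).pow_left _).eq
  rcases eq_t_of_cent C (hKA c hcK) hct hcc with h | h
  · exact hc1 h
  · apply htM
    intro m hm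
    rw [← h]
    exact hmem.1 hcK m (mem_sup_left hm)

theorem C_one (C : Conf L A t) (Di : Swap.Dia Sw A) {x : G} (hx : ∀ m ∈ M ⊔ M2 M t, x * m = m * x) {k : ℕ}
    (hk : x ^ 2 ^ k = 1) : x = 1 := by
  refine eq_one_of_two_odd (odd_C Sw C Di) ?_ hk
  rw [mem_centralizer_iff]
  exact fun m hm => (hx m hm).symm

theorem odd_center_M (C : Conf L A t) (Di : Swap.Dia Sw A) : Odd (Nat.card (center ↥M)) := by
  have h1 := odd_C Sw C Di
  have h2 : (center ↥M).map M.subtype ≤ centralizer ((M ⊔ M2 M t : Subgroup G) : Set G) := by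
    rintro _ ⟨z, hz, rfl⟩
    rw [mem_centralizer_iff]
    intro m hm
    obtain ⟨a, ha, b, hb, rfl⟩ := Sw.mem_MM.1 hm
    have h3 : a * (z : G) = z * a := congrArg Subtype.val (mem_center_iff.1 hz ⟨a, ha⟩)
    have h4 : (z : G) * b = b * z := Sw.commM z.2 hb
    show a * b * (z : G) = z * (a * b)
    rw [mul_assoc, ← h4, ← mul_assoc, h3, mul_assoc]
  rw [Nat.card_congr ((center ↥M).equivMapOfInjective _ M.subtype_injective).toEquiv]
  exact Odd.of_dvd_nat h1 (Subgroup.card_dvd_of_le h2)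

theorem comm_M : _root_.commutator ↥M = ⊤ := by
  apply Subgroup.map_injective M.subtype_injective
  rw [_root_.commutator_def, Subgroup.map_commutator, ← MonoidHom.range_eq_map, Subgroup.range_subtype, Sw.perf]

theorem simple_quot : IsSimpleGroup (↥M ⧸ center ↥M) := by
  have hnc : ¬ ∀ x ∈ M, ∀ m ∈ M, x * m = m * x := by
    intro h
    apply Sw.ne
    rw [eq_bot_iff, ← Sw.perf, Subgroup.commutator_le]
    intro x hx y hy
    rw [mem_bot, commutatorElement_def, h x hx y hy]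
    group
  have hnt : Nontrivial (↥M ⧸ center ↥M) := by
    rw [QuotientGroup.nontrivial_iff]
    intro h
    apply hnc
    intro x hx m hm
    have h1 : (⟨x, hx⟩ : ↥M) ∈ center ↥M := by rw [h]; exact mem_top _
    exact (congrArg Subtype.val (mem_center_iff.1 h1 ⟨m, hm⟩)).symm
  refine { hnt with eq_bot_or_eq_top_of_normal := ?_ }
  intro H hH
  let K := (H.comap (QuotientGroup.mk' (center ↥M))).map M.subtype
  have hKM : K ≤ M := by
    rintro _ ⟨x, -, rfl⟩
    exact x.2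
  have hKn : ∀ m ∈ M, ∀ x ∈ K, m * x * m⁻¹ ∈ K := by
    rintro m hm _ ⟨x, hx, rfl⟩
    have h1 : (⟨m, hm⟩ * x * ⟨m, hm⟩⁻¹ : ↥M) ∈ H.comap (QuotientGroup.mk' (center ↥M)) :=
      (hH.comap _).conj_mem x hx _
    exact ⟨_, h1, rfl⟩
  rcases Sw.qs K hKM hKn with h | h
  · right
    rw [eq_top_iff]
    rintro q -
    obtain ⟨x, rfl⟩ := QuotientGroup.mk'_surjective _ q
    have h1 : (x : G) ∈ K := by rw [h]; exact x.2
    obtain ⟨y, hy, e⟩ := h1
    have : y = x := Subtype.ext e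
    rw [← this]; exact hy
  · left
    rw [eq_bot_iff]
    intro q hq
    obtain ⟨x, rfl⟩ := QuotientGroup.mk'_surjective _ q
    have h1 : (x : G) ∈ K := ⟨x, hq, rfl⟩
    rw [mem_bot]
    show ((x : ↥M) : ↥M ⧸ center ↥M) = 1
    rw [QuotientGroup.eq_one_iff, mem_center_iff]
    intro m
    exact Subtype.ext (h x h1 m m.2).symm

/-- `N_G(M M^t)` and fusion of `t` -/
theorem fix (Di : Swap.Dia Sw A) {v : G} (hv : v ∈ M) (hvv : v * v = 1) (hvc : ∃ m ∈ M, v * m ≠ m * v) {g : G}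
    (hg : g⁻¹ * t * g ∈ YY M t) (h0 : g⁻¹ * t * g ∉ YZ M t) : g ∈ YY M t := by
  have h : t * (g⁻¹ * t * g) ∈ YZ M t := (Sw.YY_or hg).resolve_left h0
  have h1 := Sw.swap_of h
  have h2 : ∀ m ∈ M ⊔ M2 M t, g⁻¹ * m * g⁻¹⁻¹ ∈ M ⊔ M2 M t := fun m hm => by
    rw [inv_inv]
    exact Sw.mem_normalizer_MM Di hv hvv hvc h1 hm
  have h3 := mem_normalizer_of_conj_le h2
  have h4 := inv_mem h3
  rwa [inv_inv] at h4

theorem M2_tt {x : G} : x ∈ M2 M t ↔ t * x * t ∈ M := Sw.mem_M2

end gen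

section lift

open Cfsg.Agent.TitsThree.B2Pkg Cfsg.Agent.TitsThree.RankTwoIdentB2
  Cfsg.Agent.TitsThree.CoreB2 Cfsg.Agent.TitsThree.RankTwoIdx Cfsg.Agent.TitsThree.RankTwoRGD
open Cfsg.Agent.StdRank2.OddLift Cfsg.Agent.StdRank2.B2Lift Cfsg.Agent.StdRank2.B2Std

variable {F : Type*} [Field F] [CharP F 2] {V : Type*} [AddCommGroup V] [Module F V] {D : PQDatum F V}

/-- The lift of a package through an odd central kernel -/
noncomputable def liftStd {A L : Type u} [Group A] [Group L] [Finite A] {f : A →* L} (c : Cov f)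
    (hA : _root_.commutator A = ⊤) (S : Std D L) : Std D A where
  m := lm c S.m
  rel := rel c S.rel
  p₀ := S.p₀
  hp₀ := S.hp₀
  gen := gen c S.rel hA S.gen
  ndI := by
    obtain ⟨a, ha⟩ := S.ndI
    refine ⟨a, fun h => ha ?_⟩
    have h1 : f ((lm c S.m).x' a) ∈ (UU (lm c S.m)).map f := ⟨_, h, rfl⟩
    rw [← OutB2G.UU_map, map_lm c S.rel] at h1
    have h2 : f ((lm c S.m).x' a) = S.m.x' a := map_lift c ((isTwo_all S.rel).2.1 a)
    rwa [h2] at h1
  ndJ := by
    obtain ⟨a, ha⟩ := S.ndJ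
    refine ⟨a, fun h => ha ?_⟩
    have h1 : f ((lm c S.m).z₂' a) ∈ (UU (lm c S.m)).map f := ⟨_, h, rfl⟩
    rw [← OutB2G.UU_map, map_lm c S.rel] at h1
    have h2 : f ((lm c S.m).z₂' a) = S.m.z₂' a := map_lift c ((isTwo_all S.rel).2.2.2.2.2.2.2 a)
    rwa [h2] at h1

theorem liftStd_U {A L : Type u} [Group A] [Group L] [Finite A] {f : A →* L} (c : Cov f)
    (hA : _root_.commutator A = ⊤) (S : Std D L) : (liftStd c hA S).U.map f = S.U := by
  have h1 : (UU (lm c S.m)).map f = UU S.m := by rw [← OutB2G.UU_map, map_lm c S.rel]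
  exact h1

variable {G : Type u} [Group G] [Finite G] {L A M : Subgroup G} {t : G} (Sw : Swap M t) (Di : Swap.Dia Sw A)

/-- `m ↦ m m^t`, `M → A` -/
def dgA : ↥M →* ↥A := (Sw.dg t Sw.t_swap).codRestrict A (fun x => by rw [Di.eq]; exact ⟨x, rfl⟩)

theorem dgA_apply (x : ↥M) : (dgA Sw Di x : G) = x * (t * x * t) := Sw.dg_t x

theorem cov_dgA (C : Conf L A t) : Cov (dgA Sw Di) where
  surj := by
    rintro ⟨a, ha⟩
    obtain ⟨x, hx, e⟩ := (Sw.mem_A Di).1 ha
    exact ⟨⟨x, hx⟩, Subtype.ext (by rw [dgA_apply]; exact e.symm)⟩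
  central := by
    intro x hx
    have h1 : (x : G) * (t * x * t) = 1 := by
      rw [← dgA_apply Sw Di]
      exact congrArg Subtype.val hx
    have h2 : (x : G) = (t * x * t)⁻¹ := eq_inv_of_mul_eq_one_left h1
    rw [mem_center_iff]
    intro m
    apply Subtype.ext
    show (m : G) * x = x * m
    have h3 := Sw.comm m m.2 x x.2
    have h4 : (m : G) * (t * x * t)⁻¹ = (t * x * t)⁻¹ * m := by
      have : Commute (m : G) (t * x * t) := h3
      exact this.inv_right.eq
    rwa [← h2] at h4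
  odd := by
    have h1 := odd_center_M Sw C Di
    refine Odd.of_dvd_nat h1 (Subgroup.card_dvd_of_le ?_)
    intro x hx
    have h1 : (x : G) * (t * x * t) = 1 := by
      rw [← dgA_apply Sw Di]
      exact congrArg Subtype.val hx
    have h2 : (x : G) = (t * x * t)⁻¹ := eq_inv_of_mul_eq_one_left h1
    rw [mem_center_iff]
    intro m
    apply Subtype.ext
    show (m : G) * x = x * m
    have h3 := Sw.comm m m.2 x x.2
    have h4 : (m : G) * (t * x * t)⁻¹ = (t * x * t)⁻¹ * m := by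
      have : Commute (m : G) (t * x * t) := h3
      exact this.inv_right.eq
    rwa [← h2] at h4

end lift

end Cfsg.Agent.StdRank2.OutSplit
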