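import Cfsg.Agent.StdRank2.OutSplit.UComb

set_option autoImplicit false

/-!
# `J`-fusion: involutions of `S0`, `(F1)` and `(F4)` by ranks
-/

namespace Cfsg.Agent.StdRank2.OutSplit

open MulAction Subgroup
open scoped commutatorElement Pointwise

variable {G : Type*} [Group G]

/-- `UD` inside two commuting groups `M1`, `M2` -/
structure UX (P S0 N S1 S2 J1 J2 M1 M2 : Subgroup G) {C : Type*} [CommGroup C] (ρ₁ ρ₂ : S0 →* C) (σ : C) (q : ℕ) :
    Prop extends UD P S0 N S1 S2 J1 J2 ρ₁ ρ₂ σ q where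
  m1 : S1 ≤ M1
  m2 : S2 ≤ M2
  mc : ∀ a ∈ M1, ∀ b ∈ M2, a * b = b * a
  g1 : ∀ x ∈ S1, x ≠ 1 → x * x = 1 → ∃ m ∈ M1, ∃ y z, Good S1 J1 q (m⁻¹ * x * m) y z
  g2 : ∀ x ∈ S2, x ≠ 1 → x * x = 1 → ∃ m ∈ M2, ∃ y z, Good S2 J2 q (m⁻¹ * x * m) y z
  i1 : ∀ v (hv : v ∈ S0), ρ₁ ⟨v, hv⟩ = 1 → ∃ a ∈ S1, ∀ m ∈ M1, (a⁻¹ * v) * m = m * (a⁻¹ * v)
  i2 : ∀ v (hv : v ∈ S0), ρ₂ ⟨v, hv⟩ = 1 → ∃ a ∈ S2, ∀ m ∈ M2, (a⁻¹ * v) * m = m * (a⁻¹ * v)
  z1 : ∀ a ∈ S1, (∀ m ∈ M1, a * m = m * a) → a = 1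
  z2 : ∀ a ∈ S2, (∀ m ∈ M2, a * m = m * a) → a = 1
  sw : ∀ u ∈ P, u ∉ S0 → ∀ x (hx : x ∈ S0), u * x = x * u → ρ₂ ⟨x, hx⟩ = ρ₁ ⟨x, hx⟩

/-- an elementary abelian subgroup with at least `n` elements in the centraliser of `v` -/
def Big (v : G) (n : ℕ) : Prop :=
  ∃ E : Subgroup G, (∀ x ∈ E, x * x = 1) ∧ (∀ x ∈ E, x * v = v * x) ∧ n ≤ Nat.card E

theorem Big.conj {v : G} {n : ℕ} (g : G) (h : Big (g⁻¹ * v * g) n) : Big v n := by
  obtain ⟨E, h1, h2, h3⟩ := h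
  refine ⟨E.map (MulAut.conj g).toMonoidHom, ?_, ?_, ?_⟩
  · rintro _ ⟨x, hx, rfl⟩
    rw [← map_mul, h1 x hx, map_one]
  · rintro _ ⟨x, hx, rfl⟩
    show g * x * g⁻¹ * v = v * (g * x * g⁻¹)
    calc g * x * g⁻¹ * v = g * (x * (g⁻¹ * v * g)) * g⁻¹ := by group
      _ = g * ((g⁻¹ * v * g) * x) * g⁻¹ := by rw [h2 x hx]
      _ = v * (g * x * g⁻¹) := by group
  · rwa [← Nat.card_congr (E.equivMapOfInjective _ (MulAut.conj g).injective).toEquiv]

theorem Big.mono {v : G} {n m : ℕ} (h : Big v n) (hm : m ≤ n) : Big v m := by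
  obtain ⟨E, h1, h2, h3⟩ := h
  exact ⟨E, h1, h2, hm.trans h3⟩

/-- adding `v` itself -/
theorem big_double [Finite G] {E : Subgroup G} {v : G} (hv : v * v = 1) (hvE : v ∉ E) (h1 : ∀ x ∈ E, x * x = 1)
    (h2 : ∀ x ∈ E, x * v = v * x) : Big v (2 * Nat.card E) := by
  let E' : Subgroup G :=
    { carrier := {x | x ∈ E ∨ x * v ∈ E}
      one_mem' := Or.inl (one_mem _)
      mul_mem' := by
        rintro x y (hx | hx) (hy | hy)
        · exact Or.inl (mul_mem hx hy)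
        · right
          rw [mul_assoc]
          exact mul_mem hx hy
        · right
          have e : x * y * v = (x * v) * y := by rw [mul_assoc, h2 y hy, ← mul_assoc]
          rw [e]
          exact mul_mem hx hy
        · left
          have h3 := h2 _ hy
          have e : x * y = (x * v) * (y * v) := by
            calc x * y = x * (v * v) * y := by rw [hv, mul_one]
              _ = x * v * (v * (y * v) * v) := by
                  have : v * (y * v) * v = v * y := by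
                    calc v * (y * v) * v = v * y * (v * v) := by group
                      _ = v * y := by rw [hv, mul_one]
                  rw [this]; group
              _ = x * v * ((y * v) * v * v) := by rw [← h3]
              _ = x * v * (y * v) * (v * v) := by group
              _ = (x * v) * (y * v) := by rw [hv, mul_one]
          rw [e]
          exact mul_mem hx hy
      inv_mem' := by
        rintro x (hx | hx)
        · exact Or.inl (inv_mem hx)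
        · right
          have h3 := inv_mem hx
          have h4 := h2 _ h3
          have hvi : v⁻¹ = v := inv_eq_of_mul_eq_one_right hv
          rw [mul_inv_rev, hvi] at h3 h4
          have e : x⁻¹ * v = v * x⁻¹ := by
            have h5 : v * x⁻¹ * v = x⁻¹ := by
              rw [h4]
              calc v * (v * x⁻¹) = (v * v) * x⁻¹ := by group
                _ = x⁻¹ := by rw [hv, one_mul]
            calc x⁻¹ * v = (v * x⁻¹ * v) * v := by rw [h5]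
              _ = v * x⁻¹ * (v * v) := by group
              _ = v * x⁻¹ := by rw [hv, mul_one]
          show x⁻¹ * v ∈ E
          rw [e]
          exact h3 }
  have hEE : ∀ x, x ∈ E' ↔ x ∈ E ∨ x * v ∈ E := fun _ => Iff.rfl
  refine ⟨E', ?_, ?_, ?_⟩
  · intro x hx
    rcases (hEE x).1 hx with h | h
    · exact h1 x h
    · have h3 := h1 _ h
      have h4 := h2 _ h
      calc x * x = (x * v) * (v * x) := by
            calc x * x = x * (v * v) * x := by rw [hv, mul_one]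
              _ = _ := by group
        _ = (x * v) * (v * (x * v) * v) := by
            have : v * (x * v) * v = v * x := by
              calc v * (x * v) * v = v * x * (v * v) := by group
                _ = v * x := by rw [hv, mul_one]
            rw [this]
        _ = (x * v) * ((x * v) * v * v) := by rw [← h4]
        _ = ((x * v) * (x * v)) * (v * v) := by group
        _ = 1 := by rw [h3, hv, one_mul]
  · intro x hx
    rcases (hEE x).1 hx with h | h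
    · exact h2 x h
    · have h4 := h2 _ h
      calc x * v = v * (v * (x * v)) := by
            calc x * v = (v * v) * (x * v) := by rw [hv, one_mul]
              _ = _ := by group
        _ = v * ((x * v) * v) := by rw [h4]
        _ = v * x * (v * v) := by group
        _ = v * x := by rw [hv, mul_one]
  · classical
    have h3 : Nat.card (Bool × E) ≤ Nat.card E' := by
      apply Nat.card_le_card_of_injective (fun z : Bool × E =>
        (⟨if z.1 then (z.2 : G) * v else z.2, by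
          rw [hEE]
          split_ifs
          · right
            rw [mul_assoc, hv, mul_one]; exact z.2.2
          · left; exact z.2.2⟩ : E'))
      rintro ⟨a, x, hx⟩ ⟨b, y, hy⟩ h
      have h4 : (if a then x * v else x) = (if b then y * v else y) := congrArg Subtype.val h
      rcases a with - | - <;> rcases b with - | - <;> simp only [Bool.false_eq_true, if_false, if_true] at h4
      · subst h4; rfl
      · exfalso
        apply hvE
        have : v = y⁻¹ * x := by rw [h4]; group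
        rw [this]
        exact mul_mem (inv_mem hy) hx
      · exfalso
        apply hvE
        have : v = x⁻¹ * y := by rw [← h4]; group
        rw [this]
        exact mul_mem (inv_mem hx) hy
      · have h5 := mul_right_cancel h4
        subst h5; rfl
    rw [Nat.card_prod, card_bool'] at h3
    exact h3

namespace UX

variable {P S0 N S1 S2 J1 J2 M1 M2 : Subgroup G} {C : Type*} [CommGroup C] {ρ₁ ρ₂ : S0 →* C} {σ : C} {q : ℕ}

theorem symm (X : UX P S0 N S1 S2 J1 J2 M1 M2 ρ₁ ρ₂ σ q) : UX P S0 N S2 S1 J2 J1 M2 M1 ρ₂ ρ₁ σ q where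
  toUD := X.toUD.symm
  m1 := X.m2
  m2 := X.m1
  mc a ha b hb := (X.mc b hb a ha).symm
  g1 := X.g2
  g2 := X.g1
  i1 := X.i2
  i2 := X.i1
  z1 := X.z2
  z2 := X.z1
  sw u hu hu0 x hx hc := (X.sw u hu hu0 x hx hc).symm

variable (X : UX P S0 N S1 S2 J1 J2 M1 M2 ρ₁ ρ₂ σ q)
include X

theorem allGood1 : AllGood S1 S2 J1 q := by
  intro x hx hx1 hx2
  obtain ⟨m, hm, y, z, h⟩ := X.g1 x hx hx1 hx2
  exact ⟨m, fun b hb => X.mc m hm b (X.m2 hb), y, z, h⟩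

theorem allGood2 : AllGood S2 S1 J2 q := X.symm.allGood1

theorem J_comm {a b : G} (ha : a ∈ J2) (hb : b ∈ J2) : a * b = b * a := by
  have e1 := X.s2.two _ (mul_mem ha hb)
  have e2 : b⁻¹ = b := inv_eq_of_mul_eq_one_right (X.s2.two _ hb)
  have e3 : a⁻¹ = a := inv_eq_of_mul_eq_one_right (X.s2.two _ ha)
  have e4 : a * b = (a * b)⁻¹ := eq_inv_of_mul_eq_one_left e1
  rw [mul_inv_rev, e2, e3] at e4
  exact e4

/-- an involution acting on `M2` as an inner automorphism -/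
theorem step2 {v : G} (hv : v ∈ S0) (hvv : v * v = 1) (h2 : ρ₂ ⟨v, hv⟩ = 1) :
    ∃ m ∈ M2, (∀ b ∈ J2, (m⁻¹ * v * m) * b = b * (m⁻¹ * v * m)) ∧ ∃ h : m⁻¹ * v * m ∈ S0,
      ρ₁ ⟨_, h⟩ = ρ₁ ⟨v, hv⟩ ∧ ρ₂ ⟨_, h⟩ = 1 := by
  obtain ⟨b, hb, hc⟩ := X.i2 v hv h2
  obtain ⟨c, hcdef⟩ : ∃ c, c = b⁻¹ * v := ⟨_, rfl⟩
  rw [← hcdef] at hc
  have hvbc : v = b * c := by rw [hcdef]; group
  have hbM : b ∈ M2 := X.m2 hb
  have hbc : c * b = b * c := hc b hbM
  have hbb : b * b = 1 := by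
    apply X.z2 _ (mul_mem hb hb)
    intro m hm
    have e1 : b * b * (c * c) = 1 := by
      calc b * b * (c * c) = b * (b * c) * c := by group
        _ = b * (c * b) * c := by rw [hbc]
        _ = (b * c) * (b * c) := by group
        _ = 1 := by rw [← hvbc, hvv]
    have e2 : b * b = (c * c)⁻¹ := eq_inv_of_mul_eq_one_left e1
    rw [e2]
    have hcm : Commute c m := hc m hm
    exact ((hcm.mul_left hcm).inv_left).eq
  have hbS : b ∈ S0 := X.hN (X.h2N hb)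
  have hcS : c ∈ S0 := by rw [hcdef]; exact mul_mem (inv_mem hbS) hv
  have hNker : ∀ x ∈ N, ∀ hx : x ∈ S0, ρ₁ ⟨x, hx⟩ = 1 ∧ ρ₂ ⟨x, hx⟩ = 1 := fun x hxN hx => (X.ker x hx).1 hxN
  have hc1 : ρ₁ ⟨c, hcS⟩ = ρ₁ ⟨v, hv⟩ := by
    have e : (⟨v, hv⟩ : S0) = ⟨b, hbS⟩ * ⟨c, hcS⟩ := Subtype.ext hvbc
    rw [e, map_mul, (hNker b (X.h2N hb) hbS).1, one_mul]
  have hc2 : ρ₂ ⟨c, hcS⟩ = 1 := by
    rw [← h2]
    have e : (⟨v, hv⟩ : S0) = ⟨b, hbS⟩ * ⟨c, hcS⟩ := Subtype.ext hvbc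
    rw [e, map_mul, (hNker b (X.h2N hb) hbS).2, one_mul]
  by_cases hb1 : b = 1
  · have hvc : v = c := by rw [hvbc, hb1, one_mul]
    refine ⟨1, one_mem _, ?_, ?_⟩
    · intro j hj
      have e : (1 : G)⁻¹ * v * 1 = c := by rw [hvc]; group
      rw [e]
      exact hc j (X.m2 (X.s2.JS hj))
    · have e : (1 : G)⁻¹ * v * 1 = v := by group
      refine ⟨by rw [e]; exact hv, ?_, ?_⟩
      · congr 1; exact Subtype.ext e
      · rw [← h2]; congr 1; exact Subtype.ext e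
  · obtain ⟨m, hm, y, z, hG⟩ := X.g2 b hb hb1 hbb
    have hJ := hG.xJ
    have hcm : c * m = m * c := hc m hm
    have e : m⁻¹ * v * m = (m⁻¹ * b * m) * c := by
      rw [hvbc]
      calc m⁻¹ * (b * c) * m = m⁻¹ * b * (c * m) := by group
        _ = m⁻¹ * b * (m * c) := by rw [hcm]
        _ = _ := by group
    have hb' : m⁻¹ * b * m ∈ S2 := X.s2.JS hJ
    have hbS' : m⁻¹ * b * m ∈ S0 := X.hN (X.h2N hb')
    have hmem : (m⁻¹ * b * m) * c ∈ S0 := mul_mem hbS' hcS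
    refine ⟨m, hm, ?_, ?_⟩
    · intro j hj
      rw [e]
      have h3 := X.J_comm hJ hj
      have h4 := hc j (X.m2 (X.s2.JS hj))
      calc (m⁻¹ * b * m) * c * j = (m⁻¹ * b * m) * (c * j) := by group
        _ = (m⁻¹ * b * m) * (j * c) := by rw [h4]
        _ = ((m⁻¹ * b * m) * j) * c := by group
        _ = (j * (m⁻¹ * b * m)) * c := by rw [h3]
        _ = j * ((m⁻¹ * b * m) * c) := by group
    · refine ⟨by rw [e]; exact hmem, ?_, ?_⟩
      · have e5 : (⟨m⁻¹ * v * m, by rw [e]; exact hmem⟩ : S0) = ⟨m⁻¹ * b * m, hbS'⟩ * ⟨c, hcS⟩ := Subtype.ext e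
        rw [e5, map_mul, (hNker _ (X.h2N hb') hbS').1, one_mul, hc1]
      · have e5 : (⟨m⁻¹ * v * m, by rw [e]; exact hmem⟩ : S0) = ⟨m⁻¹ * b * m, hbS'⟩ * ⟨c, hcS⟩ := Subtype.ext e
        rw [e5, map_mul, (hNker _ (X.h2N hb') hbS').2, one_mul, hc2]

theorem big_aux [Finite G] {v : G} (hv : v ∈ S0) (hvv : v * v = 1) (h2 : ρ₂ ⟨v, hv⟩ = 1) : Big v (2 * q ^ 7) := by
  obtain ⟨b1, b2, b3, b4, b5⟩ := pow_bound X.hq
  obtain ⟨m, hm, hJ2, hv', e1, e2⟩ := X.step2 hv hvv h2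
  have hsq : ∀ {a w : G}, w * w = 1 → a⁻¹ * w * a * (a⁻¹ * w * a) = 1 := by
    intro a w hw
    calc a⁻¹ * w * a * (a⁻¹ * w * a) = a⁻¹ * (w * w) * a := by group
      _ = 1 := by rw [hw]; group
  apply Big.conj m
  obtain ⟨v', hv'def⟩ : ∃ v', v' = m⁻¹ * v * m := ⟨_, rfl⟩
  have hvv' : v' * v' = 1 := by rw [hv'def]; exact hsq hvv
  obtain ⟨hv'S, hρ⟩ : ∃ h : v' ∈ S0, ρ₁ ⟨v', h⟩ = ρ₁ ⟨v, hv⟩ := ⟨by rw [hv'def]; exact hv', by
    rw [← e1]; congr 1; exact Subtype.ext hv'def⟩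
  rw [← hv'def] at hJ2 ⊢
  clear e1 e2
  by_cases h1 : ρ₁ ⟨v, hv⟩ = 1
  · obtain ⟨m', hm', hJ1, -, -⟩ := X.symm.step2 hv'S hvv' (by rw [hρ, h1])
    apply Big.conj m'
    refine Big.mono (n := q ^ 8) ⟨J1 ⊔ J2, fun x hx => X.J_sq hx, ?_, (X.card_J).ge⟩ b3.le
    intro x hx
    obtain ⟨a, ha, b, hb, rfl⟩ := X.mem_J.1 hx
    have h3 := hJ1 a ha
    have h4 : (m'⁻¹ * v' * m') * b = b * (m'⁻¹ * v' * m') := by
      have hmb : m' * b = b * m' := X.mc m' hm' b (X.m2 (X.s2.JS hb))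
      have hmb' : m'⁻¹ * b = b * m'⁻¹ := by
        have : Commute m' b := hmb
        exact this.inv_left.eq
      calc (m'⁻¹ * v' * m') * b = m'⁻¹ * v' * (m' * b) := by group
        _ = m'⁻¹ * (v' * b) * m' := by rw [hmb]; group
        _ = (m'⁻¹ * b) * v' * m' := by rw [hJ2 b hb]; group
        _ = _ := by rw [hmb']; group
    rw [mul_assoc, ← h4, ← mul_assoc, ← h3, mul_assoc]
  · have hσ : ρ₁ ⟨v', hv'S⟩ = σ := by
      refine ((X.type_cases hv'S hvv').1).resolve_left ?_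
      rw [hρ]; exact h1
    have hcard : Nat.card (fx (J1 ⊔ J2) v') = q ^ 7 := by
      have h3 : fx J2 v' = J2 := by
        ext x
        rw [mem_fx]
        exact and_iff_left_of_imp fun hx => (hJ2 x hx).symm
      rw [X.card_fx hv'S, X.s1.out v' hv'S hvv' hσ, h3, X.s2.card, ← pow_add]
    have h4 := big_double (E := fx (J1 ⊔ J2) v') hvv' (by
      intro h5
      apply h1
      rw [← hρ]
      have h6 : v' ∈ N := by
        obtain ⟨a, ha, b, hb, he⟩ := X.mem_J.1 (mem_fx.1 h5).1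
        rw [he]
        exact mul_mem (X.h1N (X.s1.JS ha)) (X.h2N (X.s2.JS hb))
      exact ((X.ker v' hv'S).1 h6).1) (fun x hx => X.J_sq (mem_fx.1 hx).1) (fun x hx => (mem_fx.1 hx).2)
    rwa [hcard] at h4

/-- **involutions of `S0` which are not over `(σ, σ)`** -/
theorem big [Finite G] {v : G} (hv : v ∈ S0) (hvv : v * v = 1)
    (h : ¬ (ρ₁ ⟨v, hv⟩ = σ ∧ ρ₂ ⟨v, hv⟩ = σ)) : Big v (2 * q ^ 7) := by
  obtain ⟨t1, t2⟩ := X.type_cases hv hvv
  rcases t2 with t2 | t2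
  · exact X.big_aux hv hvv t2
  · rcases t1 with t1 | t1
    · exact X.symm.big_aux hv hvv t1
    · exact absurd ⟨t1, t2⟩ h

/-- involutions of `S0` -/
theorem big' [Finite G] {v : G} (hv : v ∈ S0) (hvv : v * v = 1) : Big v (q ^ 6) := by
  obtain ⟨b1, b2, b3, b4, b5⟩ := pow_bound X.hq
  by_cases h : ρ₁ ⟨v, hv⟩ = σ ∧ ρ₂ ⟨v, hv⟩ = σ
  · refine ⟨fx (J1 ⊔ J2) v, fun x hx => X.J_sq (mem_fx.1 hx).1, fun x hx => (mem_fx.1 hx).2, ?_⟩
    rw [X.card_fx hv, X.s1.out v hv hvv h.1, X.s2.out v hv hvv h.2, ← pow_add]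
  · exact (X.big hv hvv h).mono (by omega)

/-- elementary abelian subgroups of `P` commuting with a swapping element -/
theorem card_comm_swap [Finite G] {E : Subgroup G} (hEP : E ≤ P) (hE : ∀ x ∈ E, x * x = 1) {u : G} (hu : u ∈ P)
    (hu0 : u ∉ S0) (hEu : ∀ x ∈ E, x * u = u * x) : Nat.card E ≤ 4 * q ^ 4 := by
  classical
  have i1 := X.card_le_two hEP
  have i2 := card_le_mul (D := E ⊓ S0) (N := N) (α := Bool) (fun x => decide (∃ h : x ∈ S0, ρ₁ ⟨x, h⟩ = 1)) (by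
    intro x hx y hy h
    obtain ⟨t1, -⟩ := X.type_cases hx.2 (hE x hx.1)
    obtain ⟨t3, -⟩ := X.type_cases hy.2 (hE y hy.1)
    have h1 : (∃ h : x ∈ S0, ρ₁ ⟨x, h⟩ = 1) ↔ ∃ h : y ∈ S0, ρ₁ ⟨y, h⟩ = 1 := decide_eq_decide.1 h
    have h2 : ρ₁ ⟨x, hx.2⟩ = ρ₁ ⟨y, hy.2⟩ := by
      rcases t1 with t1 | t1
      · obtain ⟨_, h3⟩ := h1.1 ⟨hx.2, t1⟩
        rw [t1, h3]
      · rcases t3 with t3 | t3
        · obtain ⟨_, h3⟩ := h1.2 ⟨hy.2, t3⟩
          rw [t3, h3]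
        · rw [t1, t3]
    refine X.mem_N_of hx.2 hy.2 h2 ?_
    rw [X.sw u hu hu0 x hx.2 (hEu x hx.1).symm, X.sw u hu hu0 y hy.2 (hEu y hy.1).symm, h2])
  rw [card_bool'] at i2
  have i3 := X.card_swap (D := E ⊓ S0 ⊓ N) inf_le_right (fun x hx => hE x hx.1.1) hu hu0 (fun x hx => hEu x hx.1.1)
  omega

/-- **(F1)** -/
theorem F1 [Finite G] {t : G} (ht : t * t = 1)
    (hPt : ∀ E : Subgroup G, (∀ x ∈ E, x * x = 1) → (∀ x ∈ E, x * t = t * x) →
      ∃ h : G, (∀ x ∈ E, h⁻¹ * x * h ∈ P) ∧ h⁻¹ * t * h ∈ P ∧ h⁻¹ * t * h ∉ S0) (g : G) : g⁻¹ * t * g ∉ S0 := by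
  intro hg
  obtain ⟨b1, b2, b3, b4, b5⟩ := pow_bound X.hq
  have h1 := X.big' hg (by
    calc g⁻¹ * t * g * (g⁻¹ * t * g) = g⁻¹ * (t * t) * g := by group
      _ = 1 := by rw [ht]; group)
  obtain ⟨E, e1, e2, e3⟩ := h1.conj g
  obtain ⟨h, h2, h3, h4⟩ := hPt E e1 e2
  have h5 := X.card_comm_swap (E := E.map (MulAut.conj h⁻¹).toMonoidHom) (by
    rintro _ ⟨x, hx, rfl⟩
    show h⁻¹ * x * h⁻¹⁻¹ ∈ P
    rw [inv_inv]
    exact h2 x hx) (by
    rintro _ ⟨x, hx, rfl⟩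
    rw [← map_mul, e1 x hx, map_one]) h3 h4 (by
    rintro _ ⟨x, hx, rfl⟩
    show h⁻¹ * x * h⁻¹⁻¹ * (h⁻¹ * t * h) = h⁻¹ * t * h * (h⁻¹ * x * h⁻¹⁻¹)
    rw [inv_inv]
    calc h⁻¹ * x * h * (h⁻¹ * t * h) = h⁻¹ * (x * t) * h := by group
      _ = h⁻¹ * (t * x) * h := by rw [e2 x hx]
      _ = _ := by group)
  rw [← Nat.card_congr (E.equivMapOfInjective _ (MulAut.conj h⁻¹).injective).toEquiv] at h5
  omega

/-- **(F4)** -/
theorem F4 [Finite G] {y : G} (hy2 : y * y = 1)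
    (hPy : ∀ E : Subgroup G, (∀ x ∈ E, x * x = 1) → (∀ x ∈ E, x * y = y * x) →
      ∃ h : G, (∀ x ∈ E, h⁻¹ * x * h ∈ P) ∧ ∃ hh : h⁻¹ * y * h ∈ S0, ρ₁ ⟨_, hh⟩ = σ ∧ ρ₂ ⟨_, hh⟩ = σ)
    (g : G) (hg : g⁻¹ * y * g ∈ S0) : ρ₁ ⟨_, hg⟩ = σ ∧ ρ₂ ⟨_, hg⟩ = σ := by
  by_contra hcon
  obtain ⟨b1, b2, b3, b4, b5⟩ := pow_bound X.hq
  have hsq : ∀ a : G, a⁻¹ * y * a * (a⁻¹ * y * a) = 1 := by
    intro a
    calc a⁻¹ * y * a * (a⁻¹ * y * a) = a⁻¹ * (y * y) * a := by group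
      _ = 1 := by rw [hy2]; group
  have h1 := X.big hg (hsq g) hcon
  obtain ⟨E, e1, e2, e3⟩ := h1.conj g
  obtain ⟨h, h2, h3, h4, h4'⟩ := hPy E e1 e2
  have h5 := X.card_out (D := E.map (MulAut.conj h⁻¹).toMonoidHom) (by
    rintro _ ⟨x, hx, rfl⟩
    show h⁻¹ * x * h⁻¹⁻¹ ∈ P
    rw [inv_inv]
    exact h2 x hx) (by
    rintro _ ⟨x, hx, rfl⟩
    rw [← map_mul, e1 x hx, map_one]) h3 (hsq h) h4 h4' (by
    rintro _ ⟨x, hx, rfl⟩
    show h⁻¹ * x * h⁻¹⁻¹ * (h⁻¹ * y * h) = h⁻¹ * y * h * (h⁻¹ * x * h⁻¹⁻¹)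
    rw [inv_inv]
    calc h⁻¹ * x * h * (h⁻¹ * y * h) = h⁻¹ * (x * y) * h := by group
      _ = h⁻¹ * (y * x) * h := by rw [e2 x hx]
      _ = _ := by group)
  rw [← Nat.card_congr (E.equivMapOfInjective _ (MulAut.conj h⁻¹).injective).toEquiv] at h5
  omega

end UX

end Cfsg.Agent.StdRank2.OutSplit
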