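import Cfsg.Agent.StdRank2.OutSplit.UInst

/-!
# The structure `UX` in the split case
-/

set_option autoImplicit false
set_option linter.unusedSectionVars false

namespace Cfsg.Agent.StdRank2.OutSplit

open Subgroup
open scoped commutatorElement
open Cfsg Cfsg.Agent.StdEven.Syl Cfsg.Agent.StdEven.Loc Cfsg.Agent.StdL2.Setup Cfsg.Agent.SwapEnd
open Cfsg.Agent.TitsThree.B2Pkg Cfsg.Agent.TitsThree.RankTwoIdentB2
  Cfsg.Agent.TitsThree.CoreB2 Cfsg.Agent.TitsThree.RankTwoIdx Cfsg.Agent.TitsThree.RankTwoRGD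
open Cfsg.Agent.StdRank2.OddLift Cfsg.Agent.StdRank2.B2Lift Cfsg.Agent.StdRank2.B2Std
  Cfsg.Agent.StdRank2.B2Torus Cfsg.Agent.StdRank2.B2Act Cfsg.Agent.StdRank2.B2Act.Std
  Cfsg.Agent.StdRank2.B2Par Cfsg.Agent.StdRank2.B2Par.Std Cfsg.Agent.StdRank2.B2Self
  Cfsg.Agent.StdRank2.B2Amb
open Cfsg.Agent.StdRank2.OutB2Par Cfsg.Agent.StdRank2.OutB2G Cfsg.Agent.StdRank2.OutB2Aut
  Cfsg.Agent.StdRank2.OutB2Tw Cfsg.Agent.StdRank2.OutB2Data Cfsg.Agent.StdRank2.OutB2Inv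
open Cfsg.Agent.StdRank2.UStart (UDat WS WG Fx mem_WG coe_mem_WG isW_iff nf_mem_W T_ext isSyl_UG)

universe u

variable {F : Type*} [Field F] {V : Type*} [AddCommGroup V] [Module F V] {D : PQDatum F V}
variable [Finite F] [CharP F 2]
variable {G : Type u} [Group G] [Finite G] {L A M : Subgroup G} {t : G} {N : FData D} {S : Std D ↥M}

/-- the factor `U^t` -/
def U2 (S : Std D ↥M) (t : G) : Subgroup G := (UG S).map (MulAut.conj t).toMonoidHom

/-- the factor `W^t` -/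
def W2 (S : Std D ↥M) (t : G) : Subgroup G := (WG S).map (MulAut.conj t).toMonoidHom

/-- `x ↦ x^t` on `S0` -/
def tau (Sw : Swap M t) {P : Subgroup G} (tP : t ∈ P) : ↥(P ⊓ YZ M t) →* ↥(P ⊓ YZ M t) :=
  MonoidHom.mk' (fun x => ⟨t * x * t, mul_mem (mul_mem tP x.2.1) tP, Sw.t_YZ x.2.2⟩) (by
    intro x y
    exact Subtype.ext (Sw.tmul x y))

theorem tau_apply (Sw : Swap M t) {P : Subgroup G} (tP : t ∈ P) (x : ↥(P ⊓ YZ M t)) :
    (tau Sw tP x : G) = t * x * t := rfl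

theorem fld_of_cent {c : G} (hc : ∀ m ∈ M, c * m = m * c) : Fld N S c 1 := by
  have key : ∀ m : ↥M, c * m * c⁻¹ = m := fun m => by rw [hc m m.2, mul_inv_cancel_right]
  exact
    { x := fun a => key _
      x' := fun a => key _
      y := fun a => key _
      y' := fun a => key _
      z₁ := fun a => by rw [N.T_one]; exact key _
      z₂ := fun a => by rw [N.T_one]; exact key _
      z₁' := fun a => by rw [N.T_one]; exact key _
      z₂' := fun a => by rw [N.T_one]; exact key _ }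

theorem cent_of_fld {c : G} (h : Fld N S c 1) : ∀ m ∈ M, c * m = m * c := fun m hm =>
  (mem_centralizer_iff.1 (fld_cent h) m hm).symm

variable {P : Subgroup G}

section side

variable (hD : UDat D) (hZ : Odd (Nat.card (center ↥M))) {T : Subgroup G}
  (had : Adapted N S T) {θ : ↥T →* AutF F}
  (hθ : ∀ y : ↥T, ∃ u ∈ UG S, Fld N S (u * y) (θ y : F ≃+* F)) (hq : 4 ≤ Nat.card (Fx D))

include hD hZ had hθ hq

theorem side1 : Side T (UG S) (WG S) θ (D.σ : AutF F) (Nat.card (Fx D)) where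
  norm w hw a ha := norm_T had hw ha
  JS := WG_le_UG
  jn w hw j hj := norm_WG had hw hj
  two j hj := by
    obtain ⟨v, hv, rfl⟩ := mem_WG.1 hj
    exact congrArg Subtype.val (UStart.W_sq hD hv)
  card := card_WG hD
  el E hE h2 := el_card hD hE h2
  el' E hE h2 hc := el_eq hD (by omega) hE h2 hc
  inn w hw h1 := by
    obtain ⟨u, hu, hF⟩ := hθ ⟨w, hw⟩
    rw [h1] at hF
    have hc := cent_of_fld hF
    have hcW : ∀ j ∈ WG S, (u * w) * j = j * (u * w) := fun j hj => hc j (UG_le S (WG_le_UG hj))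
    have key : ∀ j ∈ WG S, (w * j = j * w ↔ u⁻¹ * j = j * u⁻¹) := by
      intro j hj
      have h2 := hcW j hj
      constructor
      · intro h
        have h3 : u * j * w = j * u * w := by
          calc u * j * w = u * (w * j) := by rw [h]; group
            _ = (u * w) * j := by group
            _ = j * (u * w) := h2
            _ = _ := by group
        have h4 : Commute u j := mul_right_cancel h3
        exact h4.inv_left.eq
      · intro h
        have h4 : Commute u⁻¹ j := h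
        have h5 := h4.inv_left
        rw [inv_inv] at h5
        have h6 : u * (w * j) = u * (j * w) := by
          calc u * (w * j) = (u * w) * j := by group
            _ = j * (u * w) := h2
            _ = (j * u) * w := by group
            _ = (u * j) * w := by rw [h5.eq]
            _ = u * (j * w) := by group
        exact mul_left_cancel h6
    rcases card_fx_UG hD (inv_mem hu) with h | h
    · left
      exact fun j hj => (key j hj).2 (h j hj)
    · right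
      refine le_of_eq_of_le ?_ h
      apply congrArg (fun K : Subgroup G => Nat.card K)
      ext j
      rw [mem_fx, mem_fx]
      constructor
      · rintro ⟨hj, h3⟩
        exact ⟨hj, ((key j hj).1 h3.symm).symm⟩
      · rintro ⟨hj, h3⟩
        exact ⟨hj, ((key j hj).2 h3.symm).symm⟩
  out w hw hww h1 := by
    obtain ⟨u, hu, hF⟩ := hθ ⟨w, hw⟩
    rw [h1] at hF
    exact card_fx_out hZ hD hu hww hF
  outel w hw hww h1 E hE h2 hc := by
    obtain ⟨u, hu, hF⟩ := hθ ⟨w, hw⟩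
    rw [h1] at hF
    exact card_el_out hZ hD hu hww hF hE h2 hc

end side

section ux

variable (Sw : Swap M t) (Di : Swap.Dia Sw A) (C : Conf L A t) (cfg : Cfg M t N S P)
  (hD : UDat D) (hq : 4 ≤ Nat.card (Fx D))

include Sw cfg in
theorem two_S0 : IsPGroup 2 (P ⊓ YZ M t : Subgroup G) := cfg.syl.two.to_le inf_le_left

include Sw in
theorem u2_le : U2 S t ≤ M2 M t := map_mono (UG_le S)

include Sw cfg in
theorem u1_S0 : UG S ≤ P ⊓ YZ M t := fun u hu => ⟨cfg.US hu, Sw.MM_le_YZ (mem_sup_left (UG_le S hu))⟩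

include Sw in
theorem mem_U2 {x : G} : x ∈ U2 S t ↔ t * x * t ∈ UG S := mem_conj_t Sw.tt

include Sw cfg in
theorem u2_S0 : U2 S t ≤ P ⊓ YZ M t := by
  intro u hu
  have h1 := (u1_S0 Sw cfg) ((mem_U2 Sw).1 hu)
  have h2 : t * (t * u * t) * t ∈ P := mul_mem (mul_mem cfg.tP h1.1) cfg.tP
  rw [Sw.tconj] at h2
  exact ⟨h2, Sw.MM_le_YZ (mem_sup_right (u2_le Sw hu))⟩

include Sw in
/-- elements of `P ∖ S0` -/
theorem t_mul_S0 {Q : Subgroup G} (hQ : Q ≤ YY M t) (tQ : t ∈ Q) {u : G} (hu : u ∈ Q) (hu0 : u ∉ Q ⊓ YZ M t) :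
    t * u ∈ Q ⊓ YZ M t :=
  ⟨mul_mem tQ hu, (Sw.YY_or (hQ hu)).resolve_left fun h => hu0 ⟨hu, h⟩⟩

include Sw in
theorem idx_S0 {Q : Subgroup G} (hQ : Q ≤ YY M t) (tQ : t ∈ Q) :
    ∀ a ∈ Q, ∀ b ∈ Q, a ∉ Q ⊓ YZ M t → b ∉ Q ⊓ YZ M t → a * b ∈ Q ⊓ YZ M t := by
  intro a ha b hb ha0 hb0
  have h1 := t_mul_S0 Sw hQ tQ ha ha0
  have h2 := t_mul_S0 Sw hQ tQ hb hb0
  have h4 := mul_mem (Sw.t_YZ h1.2) h2.2
  have e : t * (t * a) * t * (t * b) = a * b := by
    calc t * (t * a) * t * (t * b) = (t * t) * a * (t * t) * b := by group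
      _ = a * b := by rw [Sw.tt]; group
  rw [e] at h4
  exact ⟨mul_mem ha hb, h4⟩

include Sw Di C in
theorem one_of_two {x : G} (h1 : ∀ m ∈ M, x * m = m * x) (h2 : ∀ m ∈ M2 M t, x * m = m * x) {Q : Subgroup G}
    (hQ : IsPGroup 2 Q) (hx : x ∈ Q) : x = 1 := by
  obtain ⟨k, hk⟩ := hQ ⟨x, hx⟩
  exact C_one Sw C Di (Sw.comm_MM_iff.2 ⟨h1, h2⟩) (congrArg Subtype.val hk)

include Sw in
theorem cent_t {c : G} (hc : ∀ m ∈ M, c * m = m * c) : ∀ m ∈ M2 M t, t * c * t * m = m * (t * c * t) := by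
  intro m hm
  exact Sw.tswap (hc _ (Sw.mem_M2.1 hm))

include Sw in
theorem cent_t' {c : G} (hc : ∀ m ∈ M2 M t, c * m = m * c) : ∀ m ∈ M, t * c * t * m = m * (t * c * t) := by
  intro m hm
  exact Sw.tswap (hc _ (Sw.conj_mem_M2 hm))

include Sw in
theorem swap_mem {X Y : Subgroup G} (h1 : ∀ x, x ∈ Y ↔ t * x * t ∈ X) {Z : Subgroup G}
    (hn : ∀ w ∈ Z, ∀ a ∈ X, w * a * w⁻¹ ∈ X) {u : G} (hu : t * u ∈ Z) {a : G} (ha : a ∈ X) : u * a * u⁻¹ ∈ Y := by
  rw [h1]
  have h2 := hn _ hu _ ha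
  have e : t * (u * a * u⁻¹) * t = t * u * a * (t * u)⁻¹ := by
    rw [mul_inv_rev, Sw.ti]; group
  rw [e]; exact h2

include Sw in
theorem swap_mem' {X Y : Subgroup G} (h1 : ∀ x, x ∈ Y ↔ t * x * t ∈ X) {Z : Subgroup G}
    (hn : ∀ w ∈ Z, ∀ a ∈ X, w * a * w⁻¹ ∈ X) (ht : ∀ w ∈ Z, t * w * t ∈ Z) {u : G} (hu : t * u ∈ Z) {a : G}
    (ha : a ∈ Y) : u * a * u⁻¹ ∈ X := by
  have h2 := hn _ (ht _ hu) _ ((h1 a).1 ha)
  have e : t * (t * u) * t * (t * a * t) * (t * (t * u) * t)⁻¹ = u * a * u⁻¹ := by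
    have e1 : t * (t * u) * t = u * t := by
      calc t * (t * u) * t = (t * t) * u * t := by group
        _ = u * t := by rw [Sw.tt, one_mul]
    rw [e1, mul_inv_rev, Sw.ti]
    calc u * t * (t * a * t) * (t * u⁻¹) = u * (t * (t * a * t) * t) * u⁻¹ := by group
      _ = _ := by rw [Sw.tconj]
  rw [← e]; exact h2

include Sw Di C cfg hD hq in
/-- **The instance of `UX`.** -/
theorem exists_ux : ∃ θ : ↥(P ⊓ YZ M t) →* AutF F,
    (∀ y : ↥(P ⊓ YZ M t), ∃ u ∈ UG S, Fld N S (u * y) (θ y : F ≃+* F)) ∧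
    (∀ (y : ↥(P ⊓ YZ M t)) (u : G) (ρ : F ≃+* F), u ∈ UG S → Fld N S (u * y) ρ → θ y = ρ) ∧
    UX P (P ⊓ YZ M t) (UG S ⊔ U2 S t) (UG S) (U2 S t) (WG S) (W2 S t) M (M2 M t) θ (θ.comp (tau Sw cfg.tP))
      (D.σ : AutF F) (Nat.card (Fx D)) := by
  have hZ := odd_center_M Sw C Di
  obtain ⟨θ, hθ, hθu⟩ := exists_hom hZ cfg.ad
  refine ⟨θ, hθ, hθu, ?_⟩
  have hs1 := side1 hD hZ cfg.ad hθ hq
  have hs2 : Side (P ⊓ YZ M t) (U2 S t) (W2 S t) (θ.comp (tau Sw cfg.tP)) (D.σ : AutF F) (Nat.card (Fx D)) :=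
    Side.conj_t Sw.tt hs1 (tau Sw cfg.tP) (fun x => rfl)
  have hcomm : ∀ a ∈ M, ∀ b ∈ M2 M t, a * b = b * a := fun a ha b hb => Sw.commM ha hb
  have h2 := two_S0 Sw cfg
  have h1S := u1_S0 Sw cfg
  have h2S := u2_S0 Sw cfg
  have hz1 : ∀ a ∈ UG S, (∀ m ∈ M, a * m = m * a) → a = 1 := by
    intro a ha h
    exact one_of_two Sw Di C h (fun m hm => hcomm a (UG_le S ha) m hm) h2 (h1S ha)
  have hz2 : ∀ a ∈ U2 S t, (∀ m ∈ M2 M t, a * m = m * a) → a = 1 := by
    intro a ha h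
    exact one_of_two Sw Di C (fun m hm => (hcomm m hm a (u2_le Sw ha)).symm) h h2 (h2S ha)
  have htS : ∀ w ∈ P ⊓ YZ M t, t * w * t ∈ P ⊓ YZ M t := fun w hw => (tau Sw cfg.tP ⟨w, hw⟩).2
  have hmemW2 : ∀ x, x ∈ W2 S t ↔ t * x * t ∈ WG S := fun x => mem_conj_t Sw.tt
  have hmemU2 : ∀ x, x ∈ U2 S t ↔ t * x * t ∈ UG S := fun x => mem_U2 Sw
  have hc12 : ∀ a ∈ UG S, ∀ b ∈ U2 S t, a * b = b * a := fun a ha b hb =>
    hcomm a (UG_le S ha) b (u2_le Sw hb)
  refine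
    { hq := hq
      hidx := idx_S0 Sw cfg.syl.le cfg.tP
      hS0 := inf_le_left
      hN := sup_le h1S h2S
      h1N := le_sup_left
      h2N := le_sup_right
      hsup := fun x hx => (mem_sup_comm hc12).1 hx
      hcomm := hc12
      hdisj := fun a h1 h2 => hz1 a h1 fun m hm => (hcomm m hm a (u2_le Sw h2)).symm
      sw1 := fun u hu hu0 a ha => swap_mem Sw hmemU2 hs1.norm (t_mul_S0 Sw cfg.syl.le cfg.tP hu hu0) ha
      sw2 := fun u hu hu0 a ha => swap_mem' Sw hmemU2 hs1.norm htS (t_mul_S0 Sw cfg.syl.le cfg.tP hu hu0) ha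
      jw1 := fun u hu hu0 a ha => swap_mem Sw hmemW2 hs1.jn (t_mul_S0 Sw cfg.syl.le cfg.tP hu hu0) ha
      jw2 := fun u hu hu0 a ha => swap_mem' Sw hmemW2 hs1.jn htS (t_mul_S0 Sw cfg.syl.le cfg.tP hu hu0) ha
      ker := ?_
      s1 := hs1
      s2 := hs2
      hσ := ?_
      m1 := UG_le S
      m2 := u2_le Sw
      mc := hcomm
      g1 := ?_
      g2 := ?_
      i1 := ?_
      i2 := ?_
      z1 := hz1
      z2 := hz2
      sw := ?_ }
  · -- ker
    intro x hx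
    constructor
    · intro hxN
      obtain ⟨a, ha, b, hb, rfl⟩ := (mem_sup_comm hc12).1 hxN
      refine ⟨?_, ?_⟩
      · refine hθu _ a⁻¹ 1 (inv_mem ha) ?_
        have e : a⁻¹ * ((⟨a * b, hx⟩ : ↥(P ⊓ YZ M t)) : G) = b := inv_mul_cancel_left a b
        rw [e]
        exact fld_of_cent fun m hm => (hcomm m hm b (u2_le Sw hb)).symm
      · refine hθu _ (t * b * t)⁻¹ 1 (inv_mem ((hmemU2 b).1 hb)) ?_
        have e : (t * b * t)⁻¹ * ((tau Sw cfg.tP ⟨a * b, hx⟩ : ↥(P ⊓ YZ M t)) : G) = t * a * t := by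
          rw [tau_apply]
          show (t * b * t)⁻¹ * (t * (a * b) * t) = t * a * t
          rw [hc12 a ha b hb, Sw.tmul, inv_mul_cancel_left]
        rw [e]
        exact fld_of_cent fun m hm => (hcomm m hm _ (Sw.conj_mem_M2 (UG_le S ha))).symm
    · rintro ⟨h3, h4⟩
      obtain ⟨u, hu, hF1⟩ := hθ ⟨x, hx⟩
      obtain ⟨v, hv, hF2⟩ := hθ (tau Sw cfg.tP ⟨x, hx⟩)
      rw [h3] at hF1
      have h4' : θ (tau Sw cfg.tP ⟨x, hx⟩) = 1 := h4
      rw [h4'] at hF2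
      have c1 := cent_of_fld hF1
      have c2 := cent_of_fld hF2
      have hvt : t * v * t ∈ M2 M t := Sw.conj_mem_M2 (UG_le S hv)
      have hvU : t * v * t ∈ U2 S t := (hmemU2 _).2 (by rw [Sw.tconj]; exact hv)
      have c3 : ∀ m ∈ M, u * (t * v * t) * x * m = m * (u * (t * v * t) * x) := by
        intro m hm
        have e1 : u * (t * v * t) * x = (t * v * t) * (u * x) := by
          rw [hcomm u (UG_le S hu) _ hvt, mul_assoc]
        have e2 := c1 m hm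
        have e3 := hcomm m hm _ hvt
        have e2' : u * x * m = m * (u * x) := e2
        rw [e1, mul_assoc, e2', ← mul_assoc, ← e3, mul_assoc]
      have c4 : ∀ m ∈ M2 M t, u * (t * v * t) * x * m = m * (u * (t * v * t) * x) := by
        intro m hm
        have e1 := cent_t Sw c2 m hm
        have e2 : t * (v * ((tau Sw cfg.tP ⟨x, hx⟩ : ↥(P ⊓ YZ M t)) : G)) * t = (t * v * t) * x := by
          rw [tau_apply, Sw.tmul, Sw.tconj]
        rw [e2] at e1
        have e3 := hcomm u (UG_le S hu) m hm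
        calc u * (t * v * t) * x * m = u * ((t * v * t) * x * m) := by group
          _ = (u * m) * ((t * v * t) * x) := by rw [e1]; group
          _ = m * (u * (t * v * t) * x) := by rw [e3]; group
      have h5 := one_of_two Sw Di C c3 c4 h2 (mul_mem (mul_mem (h1S hu) (h2S hvU)) hx)
      have h6 : x = (t * v * t)⁻¹ * u⁻¹ := by
        calc x = (t * v * t)⁻¹ * u⁻¹ * (u * (t * v * t) * x) := by group
          _ = _ := by rw [h5, mul_one]
      rw [h6]
      exact mul_mem (mem_sup_right (inv_mem hvU)) (mem_sup_left (inv_mem hu))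
  · -- hσ
    intro c hc
    by_cases h1 : c = 1
    · exact Or.inl h1
    · right
      exact OutField.unique_invol (F := F) hc σσ_one h1 (UStart.σ_ne_one hD)
  · -- g1
    intro x hx hx1 hx2
    exact allGood_UG hD (by omega) hx hx1 hx2
  · -- g2
    intro x hx hx1 hx2
    obtain ⟨m, hm, y, z, h⟩ := allGood_UG (S := S) hD (by omega) ((hmemU2 x).1 hx) (by
      intro h
      apply hx1
      have := Sw.tconj x
      rw [h, mul_one, Sw.tt] at this
      exact this.symm) (by rw [← Sw.tmul, hx2, mul_one, Sw.tt])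
    refine ⟨t * m * t, Sw.conj_mem_M2 hm, t * y * t, t * z * t, ?_⟩
    have h3 := Good.conj_t Sw.tt h
    have e : t * (m⁻¹ * (t * x * t) * m) * t = (t * m * t)⁻¹ * x * (t * m * t) := by
      rw [Sw.tmul, Sw.tmul, Sw.tconj, Sw.tinv]
    rw [e] at h3
    exact h3
  · -- i1
    intro v hv h
    obtain ⟨u, hu, hF⟩ := hθ ⟨v, hv⟩
    rw [h] at hF
    refine ⟨u⁻¹, inv_mem hu, ?_⟩
    rw [inv_inv]
    exact cent_of_fld hF
  · -- i2
    intro v hv h
    obtain ⟨u, hu, hF⟩ := hθ (tau Sw cfg.tP ⟨v, hv⟩)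
    have h' : θ (tau Sw cfg.tP ⟨v, hv⟩) = 1 := h
    rw [h'] at hF
    have hut : t * u * t ∈ U2 S t := (hmemU2 _).2 (by rw [Sw.tconj]; exact hu)
    refine ⟨(t * u * t)⁻¹, inv_mem hut, ?_⟩
    rw [inv_inv]
    have e1 := cent_t Sw (cent_of_fld hF)
    have e2 : t * (u * ((tau Sw cfg.tP ⟨v, hv⟩ : ↥(P ⊓ YZ M t)) : G)) * t = (t * u * t) * v := by
      rw [tau_apply, Sw.tmul, Sw.tconj]
    rw [e2] at e1
    exact e1
  · -- sw
    intro u hu hu0 x hx hux
    have hw := t_mul_S0 Sw cfg.syl.le cfg.tP hu hu0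
    show θ (tau Sw cfg.tP ⟨x, hx⟩) = θ ⟨x, hx⟩
    have e : tau Sw cfg.tP ⟨x, hx⟩ = (⟨t * u, hw⟩ : ↥(P ⊓ YZ M t)) * ⟨x, hx⟩ * (⟨t * u, hw⟩ : ↥(P ⊓ YZ M t))⁻¹ := by
      apply Subtype.ext
      rw [tau_apply]
      show t * x * t = t * u * x * (t * u)⁻¹
      rw [mul_inv_rev, Sw.ti]
      calc t * x * t = t * (x * u) * u⁻¹ * t := by group
        _ = t * (u * x) * u⁻¹ * t := by rw [hux]
        _ = _ := by group
    rw [e, map_mul, map_mul, map_inv, mul_comm (θ ⟨t * u, hw⟩), mul_inv_cancel_right]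

end ux

end Cfsg.Agent.StdRank2.OutSplit
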